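import Groth.Agent.Lib.RelPure25.Smooth
import Groth.Agent.Lib.FibReg13.Main
import Groth.Agent.Lib.CMSlice4.Main
import Groth.Agent.Lib.FlatDepth.FibreStalk
import Groth.Agent.Lib.SmoothReg17.Basic
import Groth.Agent.Lib.Pur25.Regular
import Groth.Agent.Lib.FlatH4.GenPt

/-!
# Purity at the stalks of a smooth morphism
-/

set_option autoImplicit false
set_option linter.style.haveILetI false
set_option backward.isDefEq.respectTransparency false

universe u

open CategoryTheory AlgebraicGeometry IsLocalRing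

noncomputable section

namespace Groth.Agent.RelPure25

/-- A regular local ring of dimension one is a discrete valuation ring. -/
theorem isDiscreteValuationRing_of_regular (A : Type u) [CommRing A] [IsRegularLocalRing A] [IsDomain A]
    (h : (maximalIdeal A).spanFinrank = 1) : IsDiscreteValuationRing A := by
  have hp : (maximalIdeal A).IsPrincipal := by
    obtain ⟨xs, hxs⟩ := RegLoc.exists_fin_generators A
    refine ⟨xs ⟨0, h ▸ Nat.one_pos⟩, hxs.symm.trans ?_⟩
    refine congrArg Ideal.span (Set.ext fun z => ⟨?_, ?_⟩)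
    · rintro ⟨i, rfl⟩
      exact congrArg xs (Fin.ext (by omega))
    · rintro rfl; exact ⟨_, rfl⟩
  have hf : ¬ IsField A := fun hF => by
    rw [IsLocalRing.isField_iff_maximalIdeal_eq.1 hF, Submodule.spanFinrank_bot] at h
    exact zero_ne_one h
  exact ((IsDiscreteValuationRing.TFAE A hf).out 0 4).2 hp

variable {X S : Scheme.{u}} (f : X ⟶ S)

set_option maxHeartbeats 1600000 in
/-- Purity holds at a point of positive codimension in its fibre, over a base point of positive depth. -/
theorem purityHolds_stalk_of_smooth [Smooth f] [IsLocallyNoetherian S] (x : X)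
    (hA : (1 : ℕ∞) ≤ LocCoh.depth (S.presheaf.stalk (f x)) (S.presheaf.stalk (f x)))
    (hx : 1 ≤ ringKrullDim (CInt.fiberStalk f x)) : FEt.PurityHolds (X.presheaf.stalk x) := by
  haveI : IsLocallyNoetherian X := LocallyOfFiniteType.isLocallyNoetherian f
  obtain ⟨W, hW, hxW, -⟩ := exists_isAffineOpen_mem_and_subset (X := S) (x := f x) (U := ⊤) trivial
  obtain ⟨U, hU, hxU, hUW⟩ := exists_isAffineOpen_mem_and_subset (X := X) (x := x) (U := f ⁻¹ᵁ W) hxW
  letI : Algebra Γ(S, W) Γ(X, U) := (f.appLE W U hUW).hom.toAlgebra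
  haveI : Algebra.Smooth Γ(S, W) Γ(X, U) := f.smooth_appLE hW hU hUW
  let q := (hU.primeIdealOf ⟨x, hxU⟩).asIdeal
  letI := X.presheaf.algebra_section_stalk (U := U) ⟨x, hxU⟩
  haveI : IsLocalization.AtPrime (X.presheaf.stalk x) q := hU.isLocalization_stalk ⟨x, hxU⟩
  letI := S.presheaf.algebra_section_stalk (U := W) ⟨f x, hxW⟩
  haveI : IsLocalization.AtPrime (S.presheaf.stalk (f x)) (q.comap (algebraMap Γ(S, W) Γ(X, U))) := by
    have hq : q.comap (algebraMap Γ(S, W) Γ(X, U)) = (hW.primeIdealOf ⟨f x, hxW⟩).asIdeal :=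
      congr($(IsAffineOpen.comap_primeIdealOf_appLE W hW U hU hUW hxU).1)
    have hc : (q.comap (algebraMap Γ(S, W) Γ(X, U))).primeCompl = (hW.primeIdealOf ⟨f x, hxW⟩).asIdeal.primeCompl :=
      Submonoid.ext fun r => not_congr (by rw [hq])
    show IsLocalization _ _
    rw [hc]
    exact hW.isLocalization_stalk ⟨f x, hxW⟩
  letI : Algebra (S.presheaf.stalk (f x)) (X.presheaf.stalk x) := (f.stalkMap x).hom.toAlgebra
  letI : Algebra Γ(S, W) (X.presheaf.stalk x) :=
    ((algebraMap Γ(X, U) (X.presheaf.stalk x)).comp (algebraMap Γ(S, W) Γ(X, U))).toAlgebra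
  haveI : IsScalarTower Γ(S, W) Γ(X, U) (X.presheaf.stalk x) := IsScalarTower.of_algebraMap_eq fun _ => rfl
  haveI : IsScalarTower Γ(S, W) (S.presheaf.stalk (f x)) (X.presheaf.stalk x) :=
    IsScalarTower.of_algebraMap_eq fun r => by
      show X.presheaf.germ U x hxU (f.appLE W U hUW r) = f.stalkMap x (S.presheaf.germ W (f x) hxW r)
      erw [Scheme.Hom.germ_stalkMap_apply]
      exact X.presheaf.germ_res_apply (homOfLE hUW) x hxU _
  haveI : IsLocalHom (algebraMap (S.presheaf.stalk (f x)) (X.presheaf.stalk x)) :=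
    inferInstanceAs (IsLocalHom (f.stalkMap x).hom)
  haveI : Module.Flat (S.presheaf.stalk (f x)) (X.presheaf.stalk x) := Flat.stalkMap f x
  obtain ⟨e⟩ := FlatDepth.nonempty_fiberStalkEquiv f x
  haveI : Smooth (f.fiberToSpecResidueField (f x)) := MorphismProperty.pullback_snd _ _ inferInstance
  haveI : IsRegularLocalRing (CInt.fiberStalk f x) :=
    SmoothReg17.isRegularLocalRing_stalk (f.fiberToSpecResidueField (f x)) (f.asFiber x)
  let F := X.presheaf.stalk x ⧸
    (maximalIdeal (S.presheaf.stalk (f x))).map (algebraMap (S.presheaf.stalk (f x)) (X.presheaf.stalk x))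
  let e' : F ≃+* CInt.fiberStalk f x := e
  haveI : IsRegularLocalRing F := IsRegularLocalRing.of_ringEquiv e'.symm
  haveI : IsDomain F := RegLoc.isDomain F
  have hd : (1 : WithBot ℕ∞) ≤ (maximalIdeal F).spanFinrank := by
    rw [IsRegularLocalRing.spanFinrank_maximalIdeal, ringKrullDim_eq_of_ringEquiv e']; exact hx
  have hd1 : 1 ≤ (maximalIdeal F).spanFinrank := by exact_mod_cast hd
  rcases eq_or_lt_of_le hd1 with h1 | h2
  · haveI : IsDiscreteValuationRing F := isDiscreteValuationRing_of_regular F h1.symm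
    exact purityHolds_of_smooth_dim_one (R := Γ(S, W)) (D := Γ(X, U)) (A := S.presheaf.stalk (f x)) q hA
  · exact PurityFlat25.purityHolds_of_flat (A := S.presheaf.stalk (f x))
      ((by exact_mod_cast h2 : (2 : ℕ∞) ≤ ((maximalIdeal F).spanFinrank : ℕ∞)).trans (Pur25.le_depth_of_regular rfl))
      (Pur25.purity_regular (maximalIdeal F).spanFinrank F rfl h2)

end Groth.Agent.RelPure25

namespace Groth.Agent.RelPure25

/-- A point outside a dense open has positive local dimension. -/
theorem one_le_ringKrullDim_stalk_of_not_mem {X : Scheme.{u}} [IsLocallyNoetherian X] (O : Set X) (hO : IsOpen O)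
    (hd : Dense O) (z : X) (hz : z ∉ O) : 1 ≤ ringKrullDim (X.presheaf.stalk z) := by
  have hn : ¬ FlatH4.IsMaxPt z := fun h => hz (h.mem_of_dense hO hd)
  rw [FlatH4.IsMaxPt] at hn
  push Not at hn
  obtain ⟨y, hy, hne⟩ := hn
  rw [ringKrullDim_stalk_eq_coheight]
  have h1 : z < y := lt_iff_le_not_ge.2 ⟨hy, fun h => hne (hy.antisymm h).eq⟩
  exact_mod_cast Order.one_le_iff_pos.2 (Order.coheight_pos.2 (fun hmax => not_le_of_gt h1 (hmax hy)))

variable {X S : Scheme.{u}} (f : X ⟶ S)

/-- The fibre of a dense-in-fibres open has positive local dimension at points of the complement. -/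
theorem one_le_ringKrullDim_fiberStalk [Smooth f] (U : X.Opens)
    (h4 : ∀ s : S, f.base ⁻¹' {s} ⊆ closure ((U : Set X) ∩ f.base ⁻¹' {s})) (x : X) (hx : x ∉ U) :
    1 ≤ ringKrullDim (CInt.fiberStalk f x) := by
  haveI : LocallyOfFiniteType (f.fiberToSpecResidueField (f x)) := MorphismProperty.pullback_snd _ _ inferInstance
  haveI : IsLocallyNoetherian (f.fiber (f x)) :=
    LocallyOfFiniteType.isLocallyNoetherian (f.fiberToSpecResidueField (f x))
  refine one_le_ringKrullDim_stalk_of_not_mem ((f.fiberι (f x)) ⁻¹' (U : Set X))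
    (U.2.preimage (f.fiberι (f x)).continuous) ?_ (f.asFiber x) (by
      show f.fiberι (f x) (f.asFiber x) ∉ U
      rw [Scheme.Hom.fiberι_asFiber]; exact hx)
  intro z
  rw [(f.fiberι (f x)).isEmbedding.isInducing.closure_eq_preimage_closure_image, Set.image_preimage_eq_inter_range,
    Scheme.Hom.range_fiberι]
  exact h4 (f x) (by
    show f.fiberι (f x) z ∈ f.base ⁻¹' {f x}
    rw [← Scheme.Hom.range_fiberι]
    exact ⟨z, rfl⟩)

end Groth.Agent.RelPure25

namespace Groth.Agent.RelPure25

/-- Purity is insensitive to ring isomorphisms. -/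
theorem purityHolds_of_ringEquiv {A B : Type u} [CommRing A] [CommRing B] [IsLocalRing A] [IsLocalRing B]
    (e : A ≃+* B) (h : FEt.PurityHolds B) : FEt.PurityHolds A :=
  PurityFlat25.purityHolds_of_thickening e.toRingHom e.surjective
    (by rw [(RingHom.injective_iff_ker_eq_bot e.toRingHom).1 e.injective]; exact bot_le) h

/-- Purity at the stalks of an open subscheme. -/
theorem purityHolds_stalk_opens {X : Scheme.{u}} (V : X.Opens) (y : (V : Scheme.{u}))
    (h : FEt.PurityHolds (X.presheaf.stalk (V.ι y))) :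
    FEt.PurityHolds ((V : Scheme.{u}).presheaf.stalk y) :=
  purityHolds_of_ringEquiv (asIso (V.ι.stalkMap y)).commRingCatIsoToRingEquiv.symm h

/-- Depth at the stalks of an open subscheme. -/
theorem depth_stalk_opens {X : Scheme.{u}} (V : X.Opens) (y : (V : Scheme.{u})) :
    LocCoh.depth ((V : Scheme.{u}).presheaf.stalk y) ((V : Scheme.{u}).presheaf.stalk y) =
      LocCoh.depth (X.presheaf.stalk (V.ι y)) (X.presheaf.stalk (V.ι y)) :=
  SMT.depth_eq_of_ringEquiv (asIso (V.ι.stalkMap y)).commRingCatIsoToRingEquiv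

/-- The depth of a point is at least that of its image under a flat morphism. -/
theorem depth_le_depth_stalk {X S : Scheme.{u}} (f : X ⟶ S) [Flat f] [IsLocallyNoetherian S] [IsLocallyNoetherian X] (x : X) :
    LocCoh.depth (S.presheaf.stalk (f x)) (S.presheaf.stalk (f x)) ≤
      LocCoh.depth (X.presheaf.stalk x) (X.presheaf.stalk x) := by
  letI : Algebra (S.presheaf.stalk (f x)) (X.presheaf.stalk x) := (f.stalkMap x).hom.toAlgebra
  haveI : IsLocalHom (algebraMap (S.presheaf.stalk (f x)) (X.presheaf.stalk x)) :=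
    inferInstanceAs (IsLocalHom (f.stalkMap x).hom)
  haveI : Module.Flat (S.presheaf.stalk (f x)) (X.presheaf.stalk x) := Flat.stalkMap f x
  rw [(FlatDepth.ring_fibre_invariants (A := S.presheaf.stalk (f x)) (B := X.presheaf.stalk x)).1]
  exact le_self_add

end Groth.Agent.RelPure25
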