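import Groth.Agent.Lib.PurityDesc25.Main
import Groth.Agent.Lib.PurityFlat25.Main
import Groth.Agent.Lib.SMT.CMBasic

/-!
# Descent of purity along flat local homomorphisms
-/

set_option autoImplicit false
set_option linter.style.haveILetI false

universe u

open CategoryTheory CategoryTheory.Limits AlgebraicGeometry TopologicalSpace

noncomputable section

namespace Groth.Agent.RelPure25

/-- A finite étale cover of the punctured spectrum extends over any affine open when purity holds. -/
theorem extendsOpens_of_purityHolds {C : Type u} [CommRing C] [IsLocalRing C] (hP : FEt.PurityHolds C)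
    (O : (Spec (CommRingCat.of C)).Opens) (hO : O = FEt.puncturedSpec C) :
    PurityDesc25.ExtendsOpens (Spec (CommRingCat.of C)) O := by
  subst hO
  intro T _ i _ TU q _ hq Y w hw1 hw2
  by_cases hc : IsLocalRing.closedPoint C ∈ Set.range i
  · haveI : Surjective i := ⟨fun z => (IsLocalRing.specializes_closedPoint (z : PrimeSpectrum C)).mem_open
      i.isOpenEmbedding.isOpen_range hc⟩
    haveI : IsIso i := (isIso_iff_isOpenImmersion_and_surjective i).2 ⟨inferInstance, inferInstance⟩
    let U := FEt.puncturedSpec C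
    have hr : Set.range (q ≫ i) = Set.range U.ι := by
      rw [Scheme.Opens.range_ι, Scheme.Hom.comp_base, TopCat.coe_comp, Set.range_comp, hq,
        Set.image_preimage_eq _ i.surjective]
    let eU : TU ≅ (U : Scheme.{u}) := IsOpenImmersion.isoOfRangeEq (q ≫ i) U.ι hr
    have heU : eU.hom ≫ U.ι = q ≫ i := IsOpenImmersion.isoOfRangeEq_hom_fac _ _ _
    let Y' : FEt.Cat (U : Scheme.{u}) := MorphismProperty.Over.mk ⊤ (w ≫ eU.hom)
      ⟨MorphismProperty.comp_mem _ _ _ hw1 inferInstance, MorphismProperty.comp_mem _ _ _ hw2 inferInstance⟩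
    haveI : (FEt.restrict U.ι).EssSurj := hP
    let D := (FEt.restrict U.ι).objPreimage Y'
    let e := (FEt.restrict U.ι).objObjPreimageIso Y'
    let el : pullback D.hom U.ι ≅ Y :=
      { hom := e.hom.left, inv := e.inv.left
        hom_inv_id := congrArg (fun z => z.left) e.hom_inv_id
        inv_hom_id := congrArg (fun z => z.left) e.inv_hom_id }
    have hel : el.hom ≫ w ≫ eU.hom = pullback.snd D.hom U.ι := Over.w e.hom.hom
    have h1 : IsPullback (w ≫ eU.hom) (el.inv ≫ pullback.fst D.hom U.ι) U.ι D.hom :=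
      (IsPullback.of_hasPullback D.hom U.ι).flip.of_iso el (Iso.refl _) (Iso.refl _) (Iso.refl _)
        (by simp [hel]) (by simp) (by simp) (by simp)
    refine ⟨D.left, D.hom ≫ inv i, el.inv ≫ pullback.fst D.hom U.ι,
      MorphismProperty.comp_mem _ _ _ D.prop.1 inferInstance,
      MorphismProperty.comp_mem _ _ _ D.prop.2 inferInstance, ?_⟩
    refine h1.of_iso (Iso.refl _) eU.symm (Iso.refl _) (asIso i).symm (by simp) (by simp) ?_ (by simp)
    simp only [Iso.symm_hom, Iso.refl_hom, asIso_inv]
    rw [IsIso.comp_inv_eq, Category.assoc, ← heU, Iso.inv_hom_id_assoc]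
  · haveI : Surjective q := ⟨fun t => by
      have : t ∈ Set.range q := by
        rw [hq]
        exact fun h => hc ⟨t, h⟩
      exact this⟩
    haveI : IsIso q := (isIso_iff_isOpenImmersion_and_surjective q).2 ⟨inferInstance, inferInstance⟩
    exact ⟨Y, w ≫ q, 𝟙 Y, MorphismProperty.comp_mem _ _ _ hw1 inferInstance,
      MorphismProperty.comp_mem _ _ _ hw2 inferInstance,
      (IsPullback.of_vert_isIso (fst := w) (snd := 𝟙 Y) (f := q) (g := w ≫ q) ⟨by simp⟩)⟩

/-- The depth of the stalk at the closed point. -/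
theorem depth_closedPoint (B : Type u) [CommRing B] [IsNoetherianRing B] [IsLocalRing B] :
    LocCoh.depth B B = LocCoh.depth ((Spec (CommRingCat.of B)).presheaf.stalk (IsLocalRing.closedPoint B))
      ((Spec (CommRingCat.of B)).presheaf.stalk (IsLocalRing.closedPoint B)) := by
  haveI : IsLocalization.AtPrime ((Spec.structureSheaf B).presheaf.stalk (IsLocalRing.closedPoint B))
      (IsLocalRing.closedPoint B).asIdeal := StructureSheaf.IsLocalization.to_stalk B (IsLocalRing.closedPoint B)
  have e₀ : B ≃+* (Spec.structureSheaf B).presheaf.stalk (IsLocalRing.closedPoint B) :=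
    (IsLocalization.atUnits B (IsLocalRing.closedPoint B).asIdeal.primeCompl fun x hx => by
      rw [IsUnit.mem_submonoid_iff]
      simpa [IsLocalRing.closedPoint] using hx).toRingEquiv
  have e : B ≃+* ((Spec (CommRingCat.of B)).presheaf.stalk (IsLocalRing.closedPoint B)) := e₀
  exact (SMT.depth_eq_of_ringEquiv e).symm

variable {B C : Type u} [CommRing B] [CommRing C] [IsNoetherianRing B] [IsLocalRing B] [IsLocalRing C]

/-- Purity descends along flat local homomorphisms with zero-dimensional closed fibre. -/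
theorem purityHolds_of_flat_extension (φ : B →+* C) [IsLocalHom φ] (hf : φ.Flat)
    (hd : (2 : ℕ∞) ≤ LocCoh.depth B B)
    (hfib : IsLocalRing.maximalIdeal C ≤ ((IsLocalRing.maximalIdeal B).map φ).radical)
    (h : FEt.PurityHolds C) : FEt.PurityHolds B := by
  letI := φ.toAlgebra
  haveI : Module.Flat B C := hf
  haveI : IsLocalHom (algebraMap B C) := ‹IsLocalHom φ›
  haveI : Module.FaithfullyFlat B C := Module.FaithfullyFlat.of_flat_of_isLocalHom
  let f := Spec.map (CommRingCat.ofHom φ)
  haveI : Flat f := (HasRingHomProperty.Spec_iff (P := @Flat)).2 hf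
  haveI : Surjective f := ⟨PrimeSpectrum.comap_surjective_of_faithfullyFlat (A := B) (B := C)⟩
  let U := FEt.puncturedSpec B
  have hU : ∀ x : Spec (CommRingCat.of B), x ∉ U →
      (2 : ℕ∞) ≤ LocCoh.depth ((Spec (CommRingCat.of B)).presheaf.stalk x)
        ((Spec (CommRingCat.of B)).presheaf.stalk x) := by
    intro x hx
    obtain rfl : x = IsLocalRing.closedPoint B := not_not.1 hx
    refine hd.trans (le_of_eq ?_)
    exact depth_closedPoint B
  have hpre : f ⁻¹ᵁ U = FEt.puncturedSpec C := by
    ext z
    show f z ≠ IsLocalRing.closedPoint B ↔ z ≠ IsLocalRing.closedPoint C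
    refine not_congr ⟨fun hz => ?_, fun hz => hz ▸ IsLocalRing.comap_closedPoint φ⟩
    refine PrimeSpectrum.ext (le_antisymm (IsLocalRing.le_maximalIdeal (Ideal.IsPrime.ne_top inferInstance)) ?_)
    refine hfib.trans ((z : PrimeSpectrum C).2.radical_le_iff.2 (Ideal.map_le_iff_le_comap.2 ?_))
    exact (congrArg PrimeSpectrum.asIdeal hz).ge
  refine ⟨fun W => ?_⟩
  haveI : IsFinite W.hom := W.prop.1
  haveI : Etale W.hom := W.prop.2
  obtain ⟨E, e, t, he1, he2, het⟩ := PurityDesc25.exists_extension U hU f
    (extendsOpens_of_purityHolds h _ hpre) W.left W.hom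
  exact ⟨MorphismProperty.Over.mk ⊤ e ⟨he1, he2⟩,
    ⟨MorphismProperty.Over.isoMk het.isoPullback.symm het.isoPullback_inv_snd⟩⟩

end Groth.Agent.RelPure25
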