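import Groth.Agent.Lib.Pur25.Square
import Groth.Prelude.Def_FEt
import Mathlib

/-!
# Extension of finite étale covers is local on the scheme
-/

set_option autoImplicit false
set_option linter.style.haveILetI false
set_option backward.isDefEq.respectTransparency false

universe u

open CategoryTheory CategoryTheory.Limits AlgebraicGeometry

noncomputable section

namespace Groth.Agent.RelPure25

/-- Morphisms out of a finite étale cover are determined on a piece which restricts faithfully. -/
theorem hom_eq_of_restrict {P X : Scheme.{u}} (j : P ⟶ X) [(FEt.restrict j).Faithful] {Y Z : FEt.Cat X}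
    (a b : Y ⟶ Z) (h : pullback.fst Y.hom j ≫ a.left = pullback.fst Y.hom j ≫ b.left) : a = b := by
  apply (FEt.restrict j).map_injective
  ext
  apply pullback.hom_ext <;> simp [FEt.restrict, h]

/-- The directed cover of a scheme by the members of a basis of opens. -/
def basisCover {X : Scheme.{u}} (P : X.Opens → Prop) (hP : TopologicalSpace.Opens.IsBasis {V | P V}) :
    X.OpenCover where
  I₀ := {V : X.Opens // P V}
  X V := V.1
  f V := V.1.ι
  mem₀ := by
    rw [Scheme.presieve₀_mem_precoverage_iff]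
    refine ⟨fun x => ?_, fun _ => inferInstance⟩
    obtain ⟨V, hV, hxV, -⟩ := TopologicalSpace.Opens.isBasis_iff_nbhd.1 hP (show x ∈ (⊤ : X.Opens) from trivial)
    exact ⟨⟨V, hV⟩, ⟨x, hxV⟩, rfl⟩

instance {X : Scheme.{u}} (P : X.Opens → Prop) (hP : TopologicalSpace.Opens.IsBasis {V | P V}) :
    Preorder (basisCover P hP).I₀ := inferInstanceAs (Preorder {V : X.Opens // P V})

set_option backward.isDefEq.respectTransparency.types false in
instance {X : Scheme.{u}} (P : X.Opens → Prop) (hP : TopologicalSpace.Opens.IsBasis {V | P V}) :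
    Scheme.Cover.LocallyDirected (basisCover P hP) :=
  .ofIsBasisOpensRange (fun {i j} => by
    show i.1 ≤ j.1 ↔ i.1.ι.opensRange ≤ j.1.ι.opensRange
    rw [Scheme.Opens.opensRange_ι, Scheme.Opens.opensRange_ι]) <| by
    convert hP
    ext V
    constructor
    · rintro ⟨⟨W, hW⟩, rfl⟩
      show P (W.ι).opensRange
      rw [Scheme.Opens.opensRange_ι]; exact hW
    · intro hV
      exact ⟨⟨V, hV⟩, Scheme.Opens.opensRange_ι V⟩

variable {X : Scheme.{u}} (U : X.Opens)

set_option maxHeartbeats 1600000 in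
/-- Extensions of one cover over the members of a basis glue, when extensions are unique. -/
theorem exists_extension_of_basis (Pr : X.Opens → Prop) (hP : TopologicalSpace.Opens.IsBasis {V | Pr V})
    (hff : ∀ V : X.Opens, (FEt.restrict (V.ι ⁻¹ᵁ U).ι).Full ∧ (FEt.restrict (V.ι ⁻¹ᵁ U).ι).Faithful)
    (W : FEt.Cat (U : Scheme.{u}))
    (hes : ∀ V : X.Opens, Pr V → ∃ Y : FEt.Cat (V : Scheme.{u}),
      Nonempty ((FEt.restrict (V.ι ⁻¹ᵁ U).ι).obj Y ≅ (FEt.restrict (V.ι ∣_ U)).obj W)) :
    ∃ Y : FEt.Cat X, Nonempty ((FEt.restrict U.ι).obj Y ≅ W) := by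
  let w : W.left ⟶ (U : Scheme.{u}) := W.hom
  have hwp : FEt.prop w := W.prop
  let j (V : {V : X.Opens // Pr V}) : ((V.1.ι ⁻¹ᵁ U : Scheme.Opens _) : Scheme.{u}) ⟶ (V.1 : Scheme.{u}) := (V.1.ι ⁻¹ᵁ U).ι
  let k (V : {V : X.Opens // Pr V}) : ((V.1.ι ⁻¹ᵁ U : Scheme.Opens _) : Scheme.{u}) ⟶ (U : Scheme.{u}) := V.1.ι ∣_ U
  have sq0 (V : {V : X.Opens // Pr V}) : IsPullback (k V) (j V) U.ι V.1.ι := isPullback_morphismRestrict V.1.ι U
  let WV (V : {V : X.Opens // Pr V}) : Scheme.{u} := pullback (w ≫ U.ι) V.1.ι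
  let a (V : {V : X.Opens // Pr V}) : WV V ⟶ W.left := pullback.fst _ _
  let b (V : {V : X.Opens // Pr V}) : WV V ⟶ (V.1 : Scheme.{u}) := pullback.snd _ _
  have hab (V : {V : X.Opens // Pr V}) : (a V ≫ w) ≫ U.ι = b V ≫ V.1.ι := by
    rw [Category.assoc]; exact pullback.condition
  let wV (V : {V : X.Opens // Pr V}) : WV V ⟶ ((V.1.ι ⁻¹ᵁ U : Scheme.Opens _) : Scheme.{u}) :=
    (sq0 V).lift (a V ≫ w) (b V) (hab V)
  have hwk (V : {V : X.Opens // Pr V}) : wV V ≫ k V = a V ≫ w := (sq0 V).lift_fst _ _ _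
  have hwj (V : {V : X.Opens // Pr V}) : wV V ≫ j V = b V := (sq0 V).lift_snd _ _ _
  have sq1 (V : {V : X.Opens // Pr V}) : IsPullback (a V) (wV V) w (k V) := by
    refine IsPullback.of_bot ?_ (hwk V).symm (sq0 V)
    rw [hwj]
    exact IsPullback.of_hasPullback _ _
  have hWVp (V : {V : X.Opens // Pr V}) : FEt.prop (wV V) := MorphismProperty.of_isPullback (sq1 V) hwp
  let Wobj (V : {V : X.Opens // Pr V}) : FEt.Cat ((V.1.ι ⁻¹ᵁ U : Scheme.Opens _) : Scheme.{u}) :=
    MorphismProperty.Over.mk ⊤ (wV V) (hWVp V)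
  have hd (V : {V : X.Opens // Pr V}) : ∃ (Y : FEt.Cat (V.1 : Scheme.{u})) (t : WV V ⟶ Y.left),
      IsPullback t (wV V) Y.hom (j V) := by
    obtain ⟨Y, ⟨e₀⟩⟩ := hes V.1 V.2
    let iW : (FEt.restrict (k V)).obj W ≅ Wobj V := MorphismProperty.Over.isoMk (sq1 V).isoPullback.symm (by
      show (sq1 V).isoPullback.inv ≫ wV V = pullback.snd w (k V)
      exact (sq1 V).isoPullback_inv_snd)
    let e : (FEt.restrict (j V)).obj Y ≅ Wobj V := e₀ ≪≫ iW
    refine ⟨Y, e.inv.left ≫ pullback.fst Y.hom (j V), ?_⟩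
    let el : pullback Y.hom (j V) ≅ WV V :=
      (MorphismProperty.Over.forget FEt.prop ⊤ _ ⋙ CategoryTheory.Over.forget _).mapIso e
    refine (IsPullback.of_hasPullback Y.hom (j V)).of_iso el (Iso.refl _) (Iso.refl _) (Iso.refl _) ?_ ?_
      (by simp) (by simp)
    · show pullback.fst Y.hom (j V) ≫ 𝟙 _ = el.hom ≫ el.inv ≫ pullback.fst Y.hom (j V)
      simp
    · show pullback.snd Y.hom (j V) ≫ 𝟙 _ = el.hom ≫ wV V
      rw [Category.comp_id]
      exact (CategoryTheory.Over.w ((MorphismProperty.Over.forget FEt.prop ⊤ _).map e.hom)).symm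
  choose Y t sqV using hd
  let h (V : {V : X.Opens // Pr V}) : (Y V).left ⟶ (V.1 : Scheme.{u}) := (Y V).hom
  let c {V V' : {V : X.Opens // Pr V}} (hle : V.1 ≤ V'.1) : (V.1 : Scheme.{u}) ⟶ (V'.1 : Scheme.{u}) := X.homOfLE hle
  have hc {V V' : {V : X.Opens // Pr V}} (hle : V.1 ≤ V'.1) : c hle ≫ V'.1.ι = V.1.ι := X.homOfLE_ι hle
  let s {V V' : {V : X.Opens // Pr V}} (hle : V.1 ≤ V'.1) : WV V ⟶ WV V' :=
    pullback.lift (a V) (b V ≫ c hle) (by rw [Category.assoc, hc]; exact pullback.condition)
  have hsa {V V' : {V : X.Opens // Pr V}} (hle : V.1 ≤ V'.1) : s hle ≫ a V' = a V := pullback.lift_fst _ _ _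
  have hsb {V V' : {V : X.Opens // Pr V}} (hle : V.1 ≤ V'.1) : s hle ≫ b V' = b V ≫ c hle := pullback.lift_snd _ _ _
  -- uniqueness of the transition maps
  have huniq {V V' : {V : X.Opens // Pr V}} (hle : V.1 ≤ V'.1) (g g' : (Y V).left ⟶ (Y V').left)
      (hg : g ≫ h V' = h V ≫ c hle) (hg' : g' ≫ h V' = h V ≫ c hle) (ht : t V ≫ g = t V ≫ g') : g = g' := by
    haveI : (FEt.restrict (j V)).Faithful := (hff V.1).2
    let Z := (FEt.restrict (c hle)).obj (Y V')
    let φ : Y V ⟶ Z := MorphismProperty.Over.homMk (pullback.lift g (h V) hg) (pullback.lift_snd _ _ _)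
    let φ' : Y V ⟶ Z := MorphismProperty.Over.homMk (pullback.lift g' (h V) hg') (pullback.lift_snd _ _ _)
    have h1 : φ = φ' := by
      refine hom_eq_of_restrict (j V) φ φ' ?_
      rw [← cancel_epi (sqV V).isoPullback.hom, ← Category.assoc, ← Category.assoc, (sqV V).isoPullback_hom_fst]
      show t V ≫ pullback.lift g (h V) hg = t V ≫ pullback.lift g' (h V) hg'
      apply pullback.hom_ext <;> simp [ht]
    have h2 := congrArg (fun x => CommaMorphism.left x.toCommaMorphism ≫ pullback.fst (Y V').hom (c hle)) h1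
    have e1 : pullback.lift g (h V) hg ≫ pullback.fst (Y V').hom (c hle) = g := pullback.lift_fst _ _ _
    have e2 : pullback.lift g' (h V) hg' ≫ pullback.fst (Y V').hom (c hle) = g' := pullback.lift_fst _ _ _
    exact e1.symm.trans (h2.trans e2)
  -- existence of the transition maps
  have hex {V V' : {V : X.Opens // Pr V}} (hle : V.1 ≤ V'.1) : ∃ g : (Y V).left ⟶ (Y V').left,
      IsPullback g (h V) (h V') (c hle) ∧ t V ≫ g = s hle ≫ t V' := by
    haveI : (FEt.restrict (j V)).Faithful := (hff V.1).2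
    haveI : (FEt.restrict (j V)).Full := (hff V.1).1
    let r : ((V.1.ι ⁻¹ᵁ U : Scheme.Opens _) : Scheme.{u}) ⟶ ((V'.1.ι ⁻¹ᵁ U : Scheme.Opens _) : Scheme.{u}) :=
      (sq0 V').lift (k V) (j V ≫ c hle) (by rw [Category.assoc, hc]; exact (sq0 V).w)
    have hrk : r ≫ k V' = k V := (sq0 V').lift_fst _ _ _
    have hrj : r ≫ j V' = j V ≫ c hle := (sq0 V').lift_snd _ _ _
    have hS : IsPullback (s hle) (wV V) (wV V') r := by
      refine IsPullback.of_right ?_ ?_ (sq1 V')
      · rw [hsa, hrk]; exact sq1 V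
      · apply (sq0 V').hom_ext
        · rw [Category.assoc, hwk, ← Category.assoc, hsa, Category.assoc, hrk, hwk]
        · rw [Category.assoc, hwj, hsb, Category.assoc, hrj, ← Category.assoc, hwj]
    have hA : IsPullback (s hle ≫ t V') (wV V) (h V') (j V ≫ c hle) := by
      rw [← hrj]; exact hS.paste_horiz (sqV V')
    let Z := (FEt.restrict (c hle)).obj (Y V')
    let l : WV V ⟶ pullback (Y V').hom (c hle) :=
      pullback.lift (s hle ≫ t V') (wV V ≫ j V) (by rw [Category.assoc]; exact hA.w.trans (Category.assoc _ _ _).symm)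
    have hl : l ≫ pullback.fst (Y V').hom (c hle) = s hle ≫ t V' := pullback.lift_fst _ _ _
    have hl' : l ≫ pullback.snd (Y V').hom (c hle) = wV V ≫ j V := pullback.lift_snd _ _ _
    have hD : IsPullback l (wV V) Z.hom (j V) := by
      refine IsPullback.of_right ?_ hl' (IsPullback.of_hasPullback (Y V').hom (c hle))
      rw [hl]; exact hA
    let m : (FEt.restrict (j V)).obj (Y V) ≅ (FEt.restrict (j V)).obj Z :=
      MorphismProperty.Over.isoMk ((sqV V).isoPullback.symm ≪≫ hD.isoPullback) (by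
        show ((sqV V).isoPullback.inv ≫ hD.isoPullback.hom) ≫ pullback.snd Z.hom (j V) = pullback.snd (Y V).hom (j V)
        rw [Category.assoc, hD.isoPullback_hom_snd, (sqV V).isoPullback_inv_snd])
    let φ : Y V ≅ Z := (Functor.FullyFaithful.ofFullyFaithful (FEt.restrict (j V))).preimageIso m
    have hφ : (FEt.restrict (j V)).map φ.hom = m.hom :=
      (Functor.FullyFaithful.ofFullyFaithful (FEt.restrict (j V))).map_preimage m.hom
    let φl : (Y V).left ≅ pullback (Y V').hom (c hle) :=
      (MorphismProperty.Over.forget FEt.prop ⊤ _ ⋙ CategoryTheory.Over.forget _).mapIso φ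
    have hφs : φl.hom ≫ pullback.snd (Y V').hom (c hle) = h V :=
      CategoryTheory.Over.w ((MorphismProperty.Over.forget FEt.prop ⊤ _).map φ.hom)
    refine ⟨φl.hom ≫ pullback.fst (Y V').hom (c hle), ?_, ?_⟩
    · refine (IsPullback.of_hasPullback (Y V').hom (c hle)).of_iso φl.symm (Iso.refl _) (Iso.refl _) (Iso.refl _)
        ?_ ?_ (by simp [h]) (by simp)
      · simp
      · simp [← hφs]
    · have h1 := congrArg (fun x => (sqV V).isoPullback.hom ≫ CommaMorphism.left x.toCommaMorphism ≫
          pullback.fst Z.hom (j V)) hφ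
      simp only [FEt.restrict, MorphismProperty.Over.pullback_map_left, pullback.lift_fst] at h1
      have h2 : t V ≫ φl.hom = l := by
        rw [← (sqV V).isoPullback_hom_fst, Category.assoc]
        refine h1.trans ?_
        show (sqV V).isoPullback.hom ≫ (((sqV V).isoPullback.inv ≫ hD.isoPullback.hom) ≫ _) = l
        rw [Category.assoc, Iso.hom_inv_id_assoc, hD.isoPullback_hom_fst]
      rw [← Category.assoc, h2, hl]
  choose g hg hgt using @hex
  have hgs {V V' : {V : X.Opens // Pr V}} (hle : V.1 ≤ V'.1) : g hle ≫ h V' = h V ≫ c hle := (hg hle).w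
  let F : (basisCover Pr hP).I₀ ⥤ Scheme.{u} :=
    { obj := fun V => (Y V).left
      map := fun {V V'} f => g (leOfHom f)
      map_id := fun V => by
        refine huniq (le_refl _) _ _ (hgs _) ?_ ?_
        · simp [c, h]
        · rw [hgt, Category.comp_id]
          refine (congrArg (· ≫ t V) (?_ : s _ = 𝟙 _)).trans (Category.id_comp _)
          apply pullback.hom_ext
          · rw [hsa]; exact (Category.id_comp _).symm
          · rw [hsb]; exact ((Category.id_comp _).trans (by simp [c, b])).symm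
      map_comp := fun {V₁ V₂ V₃} f f' => by
        refine huniq (leOfHom (f ≫ f')) _ _ (hgs _) ?_ ?_
        · rw [Category.assoc, hgs, ← Category.assoc, hgs, Category.assoc]
          exact congrArg (h V₁ ≫ ·) (X.homOfLE_homOfLE _ _)
        · rw [hgt, ← Category.assoc, hgt, Category.assoc, hgt, ← Category.assoc]
          refine congrArg (· ≫ t V₃) ?_
          apply pullback.hom_ext <;> simp [s, c, a, b] }
  let d : (basisCover Pr hP).RelativeGluingData :=
    { functor := F
      natTrans := { app := fun V => h V, naturality := fun {V V'} f => hgs (leOfHom f) }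
      equifibered := fun {V V'} f => hg (leOfHom f) }
  haveI : Quiver.IsThin (basisCover Pr hP).I₀ := inferInstanceAs (Quiver.IsThin {V : X.Opens // Pr V})
  haveI : Small.{u} (basisCover Pr hP).I₀ := inferInstanceAs (Small.{u} {V : X.Opens // Pr V})
  haveI : ∀ {V V' : (basisCover Pr hP).I₀} (f : V ⟶ V'), IsOpenImmersion (d.functor.map f) := fun {V V'} f => by
    haveI : IsOpenImmersion (c (leOfHom f)) := inferInstanceAs (IsOpenImmersion (X.homOfLE _))
    exact MorphismProperty.of_isPullback (hg (leOfHom f)).flip inferInstance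
  haveI : (d.functor ⋙ Scheme.forget).IsLocallyDirected :=
    Scheme.Cover.RelativeGluingData.instIsLocallyDirectedI₀CompFunctorForgetOfIsThin ..
  haveI : HasColimit d.functor := inferInstance
  let ιc (V : {V : X.Opens // Pr V}) : (Y V).left ⟶ d.glued := colimit.ι d.functor V
  have chart (V : {V : X.Opens // Pr V}) : IsPullback (ιc V) (h V) d.toBase V.1.ι :=
    (d.isPullback_natTrans_ι_toBase V).flip
  have hdp : FEt.prop d.toBase := by
    constructor
    · rw [IsZariskiLocalAtTarget.iff_of_openCover (P := @IsFinite) (basisCover Pr hP)]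
      intro V
      have e : pullback.snd d.toBase ((basisCover Pr hP).f V) = (chart V).isoPullback.inv ≫ h V :=
        ((chart V).isoPullback_inv_snd).symm
      show IsFinite (pullback.snd d.toBase ((basisCover Pr hP).f V))
      rw [e]
      haveI : IsFinite (h V) := (Y V).prop.1
      infer_instance
    · rw [IsZariskiLocalAtTarget.iff_of_openCover (P := @Etale) (basisCover Pr hP)]
      intro V
      have e : pullback.snd d.toBase ((basisCover Pr hP).f V) = (chart V).isoPullback.inv ≫ h V :=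
        ((chart V).isoPullback_inv_snd).symm
      show Etale (pullback.snd d.toBase ((basisCover Pr hP).f V))
      rw [e]
      haveI : Etale (h V) := (Y V).prop.2
      infer_instance
  let G : FEt.Cat X := MorphismProperty.Over.mk ⊤ d.toBase hdp
  let 𝒲 : W.left.OpenCover := (basisCover Pr hP).pullback₁ (w ≫ U.ι)
  let T : W.left ⟶ d.glued :=
    𝒲.glueMorphismsOfLocallyDirected (fun V => t V ≫ ιc V) (fun {V V'} f => by
      have e : (𝒲.trans f : WV V ⟶ WV V') = s (leOfHom f) := by
        apply pullback.hom_ext <;> simp [𝒲, s, c, a, b] <;> rfl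
      show (𝒲.trans f : WV V ⟶ WV V') ≫ t V' ≫ ιc V' = _
      rw [e, ← Category.assoc, ← hgt, Category.assoc]
      exact congrArg (t V ≫ ·) (colimit.w d.functor f))
  have hT (V : {V : X.Opens // Pr V}) : a V ≫ T = t V ≫ ιc V := 𝒲.map_glueMorphismsOfLocallyDirected _ _ V
  have hTw : T ≫ d.toBase = w ≫ U.ι := by
    refine 𝒲.hom_ext _ _ fun V => ?_
    show a V ≫ T ≫ d.toBase = a V ≫ w ≫ U.ι
    rw [← Category.assoc, hT, Category.assoc, (chart V).w, ← Category.assoc, (sqV V).w, hwj, ← hab, Category.assoc]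
  let P := pullback d.toBase U.ι
  let φ : W.left ⟶ P := pullback.lift T w hTw
  haveI : IsIso φ := by
    let q : P ⟶ X := pullback.snd d.toBase U.ι ≫ U.ι
    have := (IsZariskiLocalAtTarget.iff_of_openCover (P := MorphismProperty.isomorphisms Scheme.{u})
      (f := φ) ((basisCover Pr hP).pullback₁ q)).2 ?_
    · exact this
    intro (V : {V : X.Opens // Pr V})
    let fQ : pullback q V.1.ι ⟶ P := pullback.fst _ _
    let sQ : pullback q V.1.ι ⟶ (V.1 : Scheme.{u}) := pullback.snd _ _
    have hQ : fQ ≫ pullback.snd d.toBase U.ι ≫ U.ι = sQ ≫ V.1.ι := pullback.condition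
    let qU := (sq0 V).lift (fQ ≫ pullback.snd d.toBase U.ι) sQ (by rw [Category.assoc]; exact hQ)
    let qE := (chart V).lift (fQ ≫ pullback.fst d.toBase U.ι) sQ (by
      rw [Category.assoc, pullback.condition]; exact hQ)
    have hqEU : qE ≫ h V = qU ≫ j V := by
      rw [(chart V).lift_snd, (sq0 V).lift_snd]
    let ψ : WV V ⟶ pullback q V.1.ι := pullback.lift (a V ≫ φ) (b V) (by
      simp only [q, φ, Category.assoc, pullback.lift_snd_assoc]; rw [← Category.assoc]; exact hab V)
    let ψi := (sqV V).lift qE qU hqEU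
    have h1 : ψ ≫ ψi = 𝟙 _ := by
      apply (sqV V).hom_ext
      · rw [Category.assoc, (sqV V).lift_fst, Category.id_comp]
        apply (chart V).hom_ext
        · rw [Category.assoc, (chart V).lift_fst, ← hT]
          simp [ψ, fQ, φ]
        · rw [Category.assoc, (chart V).lift_snd, (sqV V).w, hwj]
          simp [ψ, sQ]
      · rw [Category.assoc, (sqV V).lift_snd, Category.id_comp]
        apply (sq0 V).hom_ext
        · rw [Category.assoc, (sq0 V).lift_fst, hwk]
          simp [ψ, fQ, φ]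
        · rw [Category.assoc, (sq0 V).lift_snd, hwj]
          simp [ψ, sQ]
    have hψb : ψi ≫ b V = sQ := by
      rw [← hwj, ← Category.assoc, (sqV V).lift_snd, (sq0 V).lift_snd]
    have h2 : ψi ≫ ψ = 𝟙 _ := by
      apply pullback.hom_ext
      · rw [Category.assoc, pullback.lift_fst, Category.id_comp]
        apply pullback.hom_ext
        · rw [Category.assoc, Category.assoc, pullback.lift_fst, hT, ← Category.assoc, (sqV V).lift_fst,
            (chart V).lift_fst]
        · rw [Category.assoc, Category.assoc, pullback.lift_snd, ← hwk, ← Category.assoc, (sqV V).lift_snd,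
            (sq0 V).lift_fst]
      · rw [Category.assoc, pullback.lift_snd, hψb, Category.id_comp]
    haveI : IsIso ψ := ⟨⟨ψi, h1, h2⟩⟩
    have big : IsPullback (a V) (ψ ≫ sQ) (φ ≫ q) V.1.ι := by
      have e1 : ψ ≫ sQ = b V := pullback.lift_snd _ _ _
      have e2 : φ ≫ q = w ≫ U.ι := by simp [φ, q]
      rw [e1, e2]
      exact IsPullback.of_hasPullback _ _
    have hB : IsPullback (a V) ψ φ fQ :=
      IsPullback.of_bot big (pullback.lift_fst _ _ _).symm (IsPullback.of_hasPullback q V.1.ι)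
    show IsIso (pullback.snd φ fQ)
    rw [← hB.isoPullback_inv_snd]
    infer_instance
  exact ⟨G, ⟨MorphismProperty.Over.isoMk (asIso φ).symm (by
    show inv φ ≫ w = pullback.snd d.toBase U.ι
    rw [IsIso.inv_comp_eq]
    exact (pullback.lift_snd _ _ _).symm)⟩⟩

/-- Extension over affine opens gives extension, when extensions are unique. -/
theorem essSurj_restrict_of_basis (Pr : X.Opens → Prop) (hP : TopologicalSpace.Opens.IsBasis {V | Pr V})
    (hff : ∀ V : X.Opens, (FEt.restrict (V.ι ⁻¹ᵁ U).ι).Full ∧ (FEt.restrict (V.ι ⁻¹ᵁ U).ι).Faithful)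
    (hes : ∀ V : X.Opens, Pr V → (FEt.restrict (V.ι ⁻¹ᵁ U).ι).EssSurj) :
    (FEt.restrict U.ι).EssSurj :=
  ⟨fun W => exists_extension_of_basis U Pr hP hff W fun V hV =>
    haveI := hes V hV
    ⟨_, ⟨(FEt.restrict (V.ι ⁻¹ᵁ U).ι).objObjPreimageIso _⟩⟩⟩

/-- Extension over affine opens gives extension, when extensions are unique. -/
theorem essSurj_restrict_of_local
    (hff : ∀ V : X.Opens, (FEt.restrict (V.ι ⁻¹ᵁ U).ι).Full ∧ (FEt.restrict (V.ι ⁻¹ᵁ U).ι).Faithful)
    (hes : ∀ V : X.Opens, IsAffineOpen V → (FEt.restrict (V.ι ⁻¹ᵁ U).ι).EssSurj) :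
    (FEt.restrict U.ι).EssSurj :=
  essSurj_restrict_of_basis U (fun V => IsAffineOpen V) X.isBasis_affineOpens hff hes

end Groth.Agent.RelPure25
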