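import Groth.Agent.Lib.RelPure25.Codim
import Groth.Agent.Lib.Descend.FgModel
import Groth.Agent.Lib.FEtLimit25.Basic
import Groth.Agent.Lib.FlatH4.NoethApprox

/-!
# Relative purity in codimension two over an arbitrary affine base
-/

set_option autoImplicit false
set_option linter.style.haveILetI false
set_option backward.isDefEq.respectTransparency false

universe u

open CategoryTheory CategoryTheory.Limits AlgebraicGeometry TensorProduct Opposite

noncomputable section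

namespace Groth.Agent.RelPure25

/-- Fibrewise regularity only depends on the rings up to isomorphism. -/
theorem fibReg_congr {R R' A A' : Type u} [CommRing R] [CommRing R'] [CommRing A] [CommRing A'] [Algebra R A]
    [Algebra R' A'] (eR : R ≃+* R') (eA : A ≃+* A') (hc : ∀ r, eA (algebraMap R A r) = algebraMap R' A' (eR r))
    (q : Ideal A) [q.IsPrime] (q' : Ideal A') [q'.IsPrime] (hq : q'.comap eA.toRingHom = q) (fs : List A)
    (h : KoszulFibre4.FibReg q R fs) : KoszulFibre4.FibReg q' R' (fs.map eA) := by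
  have hp : ((q.comap (algebraMap R A)).map (algebraMap R A)).map eA.toRingHom =
      (q'.comap (algebraMap R' A')).map (algebraMap R' A') := by
    rw [Ideal.map_map, show eA.toRingHom.comp (algebraMap R A) = (algebraMap R' A').comp eR.toRingHom from
      RingHom.ext hc, ← Ideal.map_map, ← hq, Ideal.comap_comap,
      show eA.toRingHom.comp (algebraMap R A) = (algebraMap R' A').comp eR.toRingHom from RingHom.ext hc,
      ← Ideal.comap_comap, Ideal.map_comap_of_surjective eR.toRingHom eR.surjective]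
  intro j hj a t ht hmem
  obtain ⟨a, rfl⟩ := eA.surjective a
  obtain ⟨t, rfl⟩ := eA.surjective t
  have hj' : j < fs.length := by simpa using hj
  rw [List.getElem_map, ← map_mul, ← map_mul, ← List.map_take, ← hp] at hmem
  have h1 : (Ideal.ofList ((fs.take j).map eA) : Ideal A') = (Ideal.ofList (fs.take j)).map eA.toRingHom :=
    (Ideal.map_ofList eA.toRingHom _).symm
  rw [h1, ← Ideal.map_sup] at hmem
  obtain ⟨x, hx, hxe⟩ := (Ideal.mem_map_iff_of_surjective eA.toRingHom eA.surjective).1 hmem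
  obtain rfl := eA.injective hxe
  obtain ⟨s, hs, hsa⟩ := h j hj' a t (fun h0 => ht (hq.ge h0)) hx
  refine ⟨eA s, fun h0 => hs (hq.le h0), ?_⟩
  rw [← map_mul, ← List.map_take, ← hp, h1, ← Ideal.map_sup]
  exact Ideal.mem_map_of_mem _ hsa

/-- A fibrewise regular pair on a spectrum gives dimension two in the fibre. -/
theorem two_le_dim_Spec (R A : Type u) [CommRing R] [CommRing A] [Algebra R A] [Algebra.Smooth R A]
    (s : PrimeSpectrum R) (w : (Spec.map (CommRingCat.ofHom (algebraMap R A))).fiber s) (y : PrimeSpectrum A)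
    (hy : (Spec.map (CommRingCat.ofHom (algebraMap R A))).fiberι s w = y) (a b : A) (ha : a ∈ y.asIdeal)
    (hb : b ∈ y.asIdeal) (h : KoszulFibre4.FibReg y.asIdeal R [a, b]) :
    2 ≤ ringKrullDim (((Spec.map (CommRingCat.ofHom (algebraMap R A))).fiber s).presheaf.stalk w) := by
  subst hy
  let f := Spec.map (CommRingCat.ofHom (algebraMap R A))
  haveI : Smooth f := (HasRingHomProperty.Spec_iff (P := @Smooth)).2
    (RingHom.smooth_algebraMap.2 inferInstance)
  let X := Spec (CommRingCat.of A)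
  let hV := isAffineOpen_top X
  let hW := isAffineOpen_top (Spec (CommRingCat.of R))
  have hle : (⊤ : X.Opens) ≤ f ⁻¹ᵁ ⊤ := le_top
  let eR : R ≃+* Γ(Spec (CommRingCat.of R), ⊤) :=
    (Scheme.ΓSpecIso (CommRingCat.of R)).symm.commRingCatIsoToRingEquiv
  let eA : A ≃+* Γ(X, ⊤) := (Scheme.ΓSpecIso (CommRingCat.of A)).symm.commRingCatIsoToRingEquiv
  letI := (f.appLE ⊤ ⊤ hle).hom.toAlgebra
  have hc : ∀ r, eA (algebraMap R A r) = algebraMap Γ(Spec (CommRingCat.of R), ⊤) Γ(X, ⊤) (eR r) := fun r => by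
    show (Scheme.ΓSpecIso (CommRingCat.of A)).inv (algebraMap R A r) =
      f.appLE ⊤ ⊤ hle ((Scheme.ΓSpecIso (CommRingCat.of R)).inv r)
    rw [show f.appLE ⊤ ⊤ hle = f.appTop from Scheme.Hom.appLE_eq_app f]
    exact (ConcreteCategory.congr_hom (Scheme.ΓSpecIso_inv_naturality (CommRingCat.ofHom (algebraMap R A))) r)
  let q' := (hV.primeIdealOf ⟨f.fiberι s w, trivial⟩).asIdeal
  have hmem : ∀ x : A, x ∈ (f.fiberι s w).asIdeal ↔ eA x ∈ q' := fun x => by
    rw [← not_iff_not]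
    refine Iff.trans ?_ (KoszulFibre4.mem_basicOpen_iff hV (eA x) ⟨f.fiberι s w, trivial⟩)
    show _ ↔ f.fiberι s w ∈ X.basicOpen ((Scheme.ΓSpecIso (CommRingCat.of A)).inv x)
    erw [basicOpen_eq_of_affine]
    exact Iff.rfl
  have h' := fibReg_congr eR eA hc (f.fiberι s w).asIdeal q' (Ideal.ext fun x => (hmem x).symm) [a, b] h
  refine two_le_ringKrullDim_of_fibReg f hW hV hle w trivial (eA a) (eA b) ?_ h'
  refine Ideal.span_le.2 fun g hg => ?_
  rcases List.mem_cons.1 hg with rfl | hg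
  · exact (hmem a).1 ha
  · rw [List.mem_singleton.1 hg]; exact (hmem b).1 hb

/-- The open where some element of a finite set does not vanish. -/
def openOf {A : Type u} [CommRing A] (J : Finset A) : (Spec (CommRingCat.of A)).Opens :=
  ⟨{q : PrimeSpectrum A | ∃ a ∈ J, a ∉ q.asIdeal}, by
    have : {q : PrimeSpectrum A | ∃ a ∈ J, a ∉ q.asIdeal} = ⋃ a ∈ J, (PrimeSpectrum.basicOpen a : Set (PrimeSpectrum A)) := by
      ext q; simp [PrimeSpectrum.mem_basicOpen]
    rw [this]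
    exact isOpen_biUnion fun a _ => (PrimeSpectrum.basicOpen a).2⟩

variable (R : Type u) {A : Type u} [CommRing R] [CommRing A] [Algebra R A]

/-- The stage data of a smooth algebra with finitely many chosen elements. -/
theorem exists_stage_model [Algebra.Smooth R A] (J : Finset A) :
    ∃ (i : Descend.FgIdx R) (D₁ : Type u) (_ : CommRing D₁) (_ : Algebra i.1 D₁) (φ : D₁ →+* A),
      Algebra.Smooth i.1 D₁ ∧ φ.comp (algebraMap i.1 D₁) = (algebraMap R A).comp (algebraMap i.1 R) ∧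
      (∀ a ∈ J, a ∈ Set.range φ) ∧
      (letI : Algebra D₁ A := φ.toAlgebra
       ∃ (_ : IsScalarTower i.1 D₁ A), Algebra.IsPushout i.1 R D₁ A) := by
  classical
  obtain ⟨A₀, B₀, _, _, hfg, hsm, ⟨e⟩⟩ := Algebra.Smooth.exists_subalgebra_fg ℤ R A
  have hT : ∀ a : A, ∃ T : Finset R, ∃ l : List (R × B₀), (∀ p ∈ l, p.1 ∈ T) ∧
      e a = (l.map fun p => p.1 ⊗ₜ[A₀] p.2).sum := by
    intro a
    induction e a using TensorProduct.induction_on with
    | zero => exact ⟨∅, [], by simp, by simp⟩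
    | tmul r b => exact ⟨{r}, [(r, b)], by simp, by simp⟩
    | add x y hx hy =>
      obtain ⟨T, l, hl, rfl⟩ := hx
      obtain ⟨T', l', hl', rfl⟩ := hy
      refine ⟨T ∪ T', l ++ l', fun p hp => ?_, by simp⟩
      rcases List.mem_append.1 hp with hp | hp
      · exact Finset.mem_union_left _ (hl p hp)
      · exact Finset.mem_union_right _ (hl' p hp)
  choose T l hl hle using hT
  let i : Descend.FgIdx R := ⟨A₀ ⊔ Algebra.adjoin ℤ ((J.biUnion T : Finset R) : Set R),
    hfg.sup (Subalgebra.fg_adjoin_finset _)⟩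
  letI : Algebra A₀ i.1 := (Subalgebra.inclusion (le_sup_left : A₀ ≤ i.1)).toRingHom.toAlgebra
  haveI : IsScalarTower A₀ i.1 R := IsScalarTower.of_algebraMap_eq fun _ => rfl
  let D₁ := i.1 ⊗[A₀] B₀
  let ψ : D₁ →ₐ[A₀] R ⊗[A₀] B₀ :=
    Algebra.TensorProduct.map (IsScalarTower.toAlgHom A₀ i.1 R) (AlgHom.id A₀ B₀)
  let φ : D₁ →+* A := e.symm.toRingEquiv.toRingHom.comp ψ.toRingHom
  have hφ1 : ∀ (r : i.1), φ (r ⊗ₜ[A₀] (1 : B₀)) = algebraMap R A (algebraMap i.1 R r) := fun r => by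
    show e.symm (ψ (r ⊗ₜ[A₀] (1 : B₀))) = _
    rw [Algebra.TensorProduct.map_tmul]
    exact e.symm.commutes (algebraMap i.1 R r)
  refine ⟨i, D₁, inferInstance, inferInstance, φ, inferInstance, RingHom.ext hφ1, ?_, ?_⟩
  · intro a ha
    have hmem : ∀ p ∈ l a, p.1 ∈ i.1 := fun p hp =>
      (le_sup_right : Algebra.adjoin ℤ ((J.biUnion T : Finset R) : Set R) ≤ i.1)
        (Algebra.subset_adjoin (Finset.mem_biUnion.2 ⟨a, ha, hl a p hp⟩))
    refine ⟨((l a).attach.map fun p => (⟨p.1.1, hmem p.1 p.2⟩ : i.1) ⊗ₜ[A₀] p.1.2).sum, ?_⟩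
    show e.symm (ψ _) = a
    rw [map_list_sum, List.map_map, AlgEquiv.symm_apply_eq, hle a]
    conv_rhs => rw [← List.attach_map_subtype_val (l a), List.map_map]
    refine congrArg List.sum (List.map_congr_left fun p _ => ?_)
    exact Algebra.TensorProduct.map_tmul _ _ _ _
  · letI : Algebra D₁ A := φ.toAlgebra
    haveI h2 : IsScalarTower i.1 D₁ A := IsScalarTower.of_algebraMap_eq fun r => (hφ1 r).symm
    refine ⟨h2, ?_⟩
    letI : Algebra B₀ A := (φ.comp Algebra.TensorProduct.includeRight.toRingHom).toAlgebra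
    letI : Algebra B₀ D₁ := Algebra.TensorProduct.rightAlgebra
    haveI : IsScalarTower B₀ D₁ A := IsScalarTower.of_algebraMap_eq fun _ => rfl
    haveI : IsScalarTower A₀ i.1 A := IsScalarTower.of_algebraMap_eq fun _ => rfl
    haveI : IsScalarTower A₀ D₁ A := IsScalarTower.of_algebraMap_eq fun r => by
      exact (IsScalarTower.algebraMap_apply A₀ i.1 A r).trans ((IsScalarTower.algebraMap_apply i.1 D₁ A _).trans
        (congrArg (algebraMap D₁ A) (IsScalarTower.algebraMap_apply A₀ i.1 D₁ r).symm))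
    haveI : IsScalarTower A₀ B₀ A := IsScalarTower.of_algebraMap_eq fun r => by
      exact (IsScalarTower.algebraMap_apply A₀ D₁ A r).trans ((congrArg (algebraMap D₁ A)
        (IsScalarTower.algebraMap_apply A₀ B₀ D₁ r)).trans (IsScalarTower.algebraMap_apply B₀ D₁ A _).symm)
    haveI : Algebra.IsPushout A₀ R B₀ A := by
      letI : Algebra B₀ (R ⊗[A₀] B₀) := Algebra.TensorProduct.rightAlgebra
      refine Algebra.IsPushout.of_equiv e.symm (RingHom.ext fun b => ?_)
      show e.symm ((1 : R) ⊗ₜ[A₀] b) = e.symm (ψ ((1 : i.1) ⊗ₜ[A₀] b))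
      rw [Algebra.TensorProduct.map_tmul, map_one, AlgHom.id_apply]
    exact (Algebra.IsPushout.comp_iff (R := A₀) (S := i.1) (R' := B₀) (S' := D₁) (T := R) (T' := A)).1 inferInstance

set_option maxHeartbeats 1600000 in
/-- Extension from the open of a finite set with fibrewise regular pairs. -/
theorem essSurj_restrict_openOf [Algebra.Smooth R A] (J : Finset A)
    (h : ∀ (q : Ideal A) [q.IsPrime], (∀ a ∈ J, a ∈ q) → ∃ a ∈ J, ∃ b ∈ J, KoszulFibre4.FibReg q R [a, b]) :
    (FEt.restrict (openOf J).ι).EssSurj := by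
  classical
  obtain ⟨i, D₁, _, _, φ, hsm, hcomm, hJ, hT⟩ := exists_stage_model R J
  letI : Algebra D₁ A := φ.toAlgebra
  obtain ⟨h2, hpo⟩ := hT
  haveI := h2; haveI := hpo
  choose! lift hlift using hJ
  let J₁ : Finset D₁ := J.image lift
  haveI : Algebra.FiniteType ℤ i.1 := (Subalgebra.fg_iff_finiteType _).1 i.2
  haveI : IsNoetherianRing i.1 := Algebra.FiniteType.isNoetherianRing ℤ i.1
  haveI : Algebra.FinitePresentation i.1 D₁ := inferInstance
  haveI : Module.Flat i.1 D₁ := inferInstance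
  let X₀ := Spec (CommRingCat.of D₁)
  let f₀ : X₀ ⟶ Spec (CommRingCat.of i.1) := Spec.map (CommRingCat.ofHom (algebraMap i.1 D₁))
  haveI : Smooth f₀ := (HasRingHomProperty.Spec_iff (P := @Smooth)).2 (RingHom.smooth_algebraMap.2 hsm)
  let U₀₀ : X₀.Opens := openOf J₁
  let Wset : Set (PrimeSpectrum D₁) := {y | y ∈ (U₀₀ : Set X₀) ∨
    ∃ a ∈ J₁, ∃ b ∈ J₁, a ∈ y.asIdeal ∧ b ∈ y.asIdeal ∧ KoszulFibre4.FibReg y.asIdeal i.1 [a, b]}
  have hWo : IsOpen Wset := by
    refine isOpen_iff_forall_mem_open.2 fun y hy => ?_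
    rcases hy with hy | ⟨a, ha, b, hb, hay, hby, hreg⟩
    · exact ⟨(U₀₀ : Set X₀), fun z hz => Or.inl hz, U₀₀.2, hy⟩
    obtain ⟨G, hG, hGy⟩ := fibReg_open y.asIdeal [a, b] (Ideal.span_le.2 fun g hg => by
      rcases List.mem_cons.1 hg with rfl | hg
      · exact hay
      · rw [List.mem_singleton.1 hg]; exact hby) hreg
    refine ⟨PrimeSpectrum.basicOpen G, fun z hz => ?_, (PrimeSpectrum.basicOpen G).2, hG⟩
    by_cases hza : a ∈ z.asIdeal
    · by_cases hzb : b ∈ z.asIdeal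
      · refine Or.inr ⟨a, ha, b, hb, hza, hzb, hGy z.asIdeal hz (Ideal.span_le.2 fun g hg => ?_)⟩
        rcases List.mem_cons.1 hg with rfl | hg
        · exact hza
        · rw [List.mem_singleton.1 hg]; exact hzb
      · exact Or.inl ⟨b, hb, hzb⟩
    · exact Or.inl ⟨a, ha, hza⟩
  let W₀ : X₀.Opens := ⟨Wset, hWo⟩
  have hUW : U₀₀ ≤ W₀ := fun y hy => Or.inl hy
  have hC0 : Codim2 (W₀.ι ≫ f₀) (W₀.ι ⁻¹ᵁ U₀₀) := by
    refine codim2_of_range W₀.ι fun s w hwr hw => ?_
    rw [Scheme.Opens.range_ι] at hwr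
    rcases hwr with hc | ⟨a, ha, b, hb, hay, hby, hreg⟩
    · exact absurd hc hw
    · exact two_le_dim_Spec i.1 D₁ s w _ rfl a b hay hby hreg
  let p : Spec (CommRingCat.of A) ⟶ X₀ := Spec.map (CommRingCat.ofHom φ)
  have hpU : openOf J = p ⁻¹ᵁ U₀₀ := by
    ext q
    show (∃ a ∈ J, a ∉ (q : PrimeSpectrum A).asIdeal) ↔ ∃ a₁ ∈ J₁, φ a₁ ∉ (q : PrimeSpectrum A).asIdeal
    constructor
    · rintro ⟨a, ha, haq⟩
      exact ⟨lift a, Finset.mem_image_of_mem _ ha, by rwa [hlift a ha]⟩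
    · rintro ⟨_, h3, haq⟩
      obtain ⟨a, ha, rfl⟩ := Finset.mem_image.1 h3
      exact ⟨a, ha, by rwa [hlift a ha] at haq⟩
  have hpW : Set.range p ⊆ Set.range W₀.ι := by
    rw [Scheme.Opens.range_ι]
    rintro _ ⟨q, rfl⟩
    by_cases hq : ∀ a ∈ J, a ∈ (q : PrimeSpectrum A).asIdeal
    · obtain ⟨a, ha, b, hb, hreg⟩ := h (q : PrimeSpectrum A).asIdeal hq
      refine Or.inr ⟨lift a, Finset.mem_image_of_mem _ ha, lift b, Finset.mem_image_of_mem _ hb, ?_, ?_, ?_⟩
      · show φ (lift a) ∈ (q : PrimeSpectrum A).asIdeal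
        rw [hlift a ha]; exact hq a ha
      · show φ (lift b) ∈ (q : PrimeSpectrum A).asIdeal
        rw [hlift b hb]; exact hq b hb
      · refine fibReg_descend (R := R) (A := A) (q : PrimeSpectrum A).asIdeal [lift a, lift b] ?_
        show KoszulFibre4.FibReg _ R [φ (lift a), φ (lift b)]
        rw [hlift a ha, hlift b hb]; exact hreg
    · push Not at hq
      exact Or.inl (hpU.le hq)
  -- the systems
  let D := (Descend.fgRing R).op ⋙ Scheme.Spec
  let c : Cone D := Scheme.Spec.mapCone (Descend.fgCocone R).op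
  have hc : IsLimit c := isLimitOfPreserves Scheme.Spec (Descend.isColimitFgCocone R).op
  haveI : IsCofiltered (Descend.FgIdx R)ᵒᵖ := by
    haveI : IsFiltered (Descend.FgIdx R) := isFiltered_of_directed_le_nonempty _
    infer_instance
  haveI : ∀ j, IsAffine (D.obj j) := fun j => inferInstanceAs (IsAffine (Spec _))
  haveI : ∀ {j k} (a : j ⟶ k), IsAffineHom (D.map a) := fun a => isAffineHom_of_isAffine _
  let i₀ : (Descend.FgIdx R)ᵒᵖ := op i
  let D' := Over.forget i₀ ⋙ D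
  let t := Descend.overT D i₀
  haveI : ∀ k, IsAffineHom (t.app k) := fun k => inferInstanceAs (IsAffineHom (D.map k.hom))
  let c' : Cone D' := c.whisker (Over.forget i₀)
  have hc' : IsLimit c' := (Functor.Initial.isLimitWhiskerEquiv (Over.forget i₀) c).symm hc
  have hq' : ∀ k, c'.π.app k ≫ t.app k = (c.π.app i₀ : c'.pt ⟶ D.obj i₀) := fun k => c.w k.hom
  have hX : IsPullback p (Spec.map (CommRingCat.ofHom (algebraMap R A))) (f₀ : X₀ ⟶ D.obj i₀) (c.π.app i₀) := by
    have hPO := (CommRingCat.isPushout_iff_isPushout (R := i.1) (R' := R) (S := D₁) (S' := A)).2 hpo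
    exact isPullback_SpecMap_of_isPushout _ _ _ _ hPO.flip
  let E := Descend.pbDiagram D' t f₀
  let cE : Cone E := Descend.pbCone D' t f₀ c' hq' hX
  have hcE : IsLimit cE := Descend.pbIsLimit D' t f₀ c' hq' hX hc'
  let t₂ := Descend.pbFst D' t f₀
  have hq₂ : ∀ k, cE.π.app k ≫ t₂.app k = (p : cE.pt ⟶ X₀) := fun k => Descend.pbCone_fst D' t f₀ c' hq' hX k
  haveI : QuasiCompact U₀₀.ι := by
    haveI : IsNoetherianRing D₁ := Algebra.FiniteType.isNoetherianRing i.1 D₁
    infer_instance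
  rw [hpU]
  have hP₂ : IsPullback (p ∣_ U₀₀) (p ⁻¹ᵁ U₀₀).ι U₀₀.ι p := isPullback_morphismRestrict p U₀₀
  let F := Descend.pbDiagram E t₂ U₀₀.ι
  let cF : Cone F := Descend.pbCone E t₂ U₀₀.ι cE hq₂ hP₂
  have hcF : IsLimit cF := Descend.pbIsLimit E t₂ U₀₀.ι cE hq₂ hP₂ hcE
  haveI : CompactSpace (U₀₀ : Scheme.{u}) := QuasiCompact.compactSpace_of_compactSpace U₀₀.ι
  haveI : QuasiSeparatedSpace (U₀₀ : Scheme.{u}) := quasiSeparatedSpace_of_quasiSeparated U₀₀.ι
  haveI : ∀ k, CompactSpace (F.obj k) := fun k => inferInstance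
  haveI : ∀ k, QuasiSeparatedSpace (F.obj k) := fun k => inferInstance
  haveI : ∀ k l (a : k ⟶ l), IsAffineHom (F.map a) := fun k l a => inferInstance
  refine ⟨fun Y => ?_⟩
  haveI : IsFinite Y.hom := Y.prop.1
  haveI : Etale Y.hom := Y.prop.2
  obtain ⟨k, Pk, pk, qk, hk1, hk2, -, hk⟩ := FEtLimit25.exists_model (D := F) (c := cF) hcF (Y.hom : Y.left ⟶ cF.pt)
  let Yk : FEt.Cat (F.obj k) := MorphismProperty.Over.mk ⊤ pk ⟨hk1, hk2⟩
  let eY : (FEt.restrict (cF.π.app k)).obj Yk ≅ Y :=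
    MorphismProperty.Over.isoMk hk.isoPullback.symm hk.isoPullback_inv_snd
  -- the stage
  let tk : E.obj k ⟶ X₀ := t₂.app k
  let Wk := pullback W₀.ι tk
  let sW : Wk ⟶ E.obj k := pullback.snd W₀.ι tk
  let hW : (U₀₀ : Scheme.{u}) ⟶ (W₀ : Scheme.{u}) := X₀.homOfLE hUW
  let jk : F.obj k ⟶ Wk := pullback.lift (pullback.fst U₀₀.ι tk ≫ hW) (pullback.snd U₀₀.ι tk) (by
    rw [Category.assoc, Scheme.homOfLE_ι]; exact pullback.condition)
  have hjk1 : jk ≫ pullback.fst W₀.ι tk = pullback.fst U₀₀.ι tk ≫ hW := pullback.lift_fst _ _ _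
  have hjk2 : jk ≫ sW = pullback.snd U₀₀.ι tk := pullback.lift_snd _ _ _
  haveI : IsOpenImmersion (jk ≫ sW) := by rw [hjk2]; infer_instance
  haveI : IsOpenImmersion jk := IsOpenImmersion.of_comp jk sW
  have sqj : IsPullback (pullback.fst U₀₀.ι tk) jk hW (pullback.fst W₀.ι tk) := by
    refine IsPullback.of_bot ?_ hjk1.symm (IsPullback.of_hasPullback W₀.ι tk)
    rw [show hW ≫ W₀.ι = U₀₀.ι from X₀.homOfLE_ι hUW, show jk ≫ pullback.snd W₀.ι tk = pullback.snd U₀₀.ι tk from hjk2]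
    exact IsPullback.of_hasPullback _ _
  let U' : Wk.Opens := pullback.fst W₀.ι tk ⁻¹ᵁ (W₀.ι ⁻¹ᵁ U₀₀)
  have hrange : jk.opensRange = U' := by
    ext z
    show z ∈ Set.range jk ↔ W₀.ι (pullback.fst W₀.ι tk z) ∈ U₀₀
    constructor
    · rintro ⟨v, rfl⟩
      rw [← Scheme.Hom.comp_apply, ← Scheme.Hom.comp_apply, ← Category.assoc, hjk1, Category.assoc,
        Scheme.homOfLE_ι, Scheme.Hom.comp_apply]
      exact (pullback.fst U₀₀.ι tk v).2
    · intro hz
      obtain ⟨v, -, hv⟩ := Scheme.exists_preimage_of_isPullback sqj ⟨_, hz⟩ z (W₀.ι.isOpenEmbedding.injective (by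
        rw [← Scheme.Hom.comp_apply hW, show hW ≫ W₀.ι = U₀₀.ι from X₀.homOfLE_ι hUW]; rfl))
      exact ⟨v, hv⟩
  let sk : E.obj k ⟶ D'.obj k := pullback.snd f₀ (t.app k)
  haveI : Smooth sk := MorphismProperty.pullback_snd _ _ inferInstance
  haveI : Algebra.FiniteType ℤ k.left.unop.1 := (Subalgebra.fg_iff_finiteType _).1 k.left.unop.2
  haveI : IsNoetherianRing k.left.unop.1 := Algebra.FiniteType.isNoetherianRing ℤ k.left.unop.1
  haveI : IsLocallyNoetherian (D'.obj k) := inferInstanceAs (IsLocallyNoetherian (Spec (CommRingCat.of k.left.unop.1)))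
  have sqW : IsPullback (pullback.fst W₀.ι tk) (sW ≫ sk) (W₀.ι ≫ f₀) (t.app k) :=
    (IsPullback.of_hasPullback W₀.ι tk).paste_vert (IsPullback.of_hasPullback f₀ (t.app k))
  have hCk : Codim2 (sW ≫ sk) U' := hC0.baseChange sqW
  haveI : Smooth (sW ≫ sk) := inferInstance
  haveI : (FEt.restrict jk).EssSurj :=
    essSurj_of_isOpenImmersion jk (hrange ▸ essSurj_restrict_of_codim_noetherian (sW ≫ sk) U' hCk)
  let Ek := (FEt.restrict jk).objPreimage Yk
  let m : Spec (CommRingCat.of A) ⟶ Wk :=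
    pullback.lift (IsOpenImmersion.lift W₀.ι p hpW) (cE.π.app k) (by
      rw [IsOpenImmersion.lift_fac]; exact (hq₂ k).symm)
  have hm : (p ⁻¹ᵁ U₀₀).ι ≫ m = cF.π.app k ≫ jk := by
    rw [← cancel_mono sW, Category.assoc, Category.assoc, hjk2, show m ≫ sW = cE.π.app k from pullback.lift_snd _ _ _]
    exact (Descend.pbCone_snd E t₂ U₀₀.ι cE hq₂ hP₂ k).symm
  exact ⟨(FEt.restrict m).obj Ek, ⟨(Pur25.restrictSquare m (p ⁻¹ᵁ U₀₀).ι jk (cF.π.app k) hm.symm).app Ek ≪≫
    (FEt.restrict (cF.π.app k)).mapIso ((FEt.restrict jk).objObjPreimageIso Yk) ≪≫ eY⟩⟩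

end Groth.Agent.RelPure25
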