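import Groth.Agent.Lib.RelPure25.FibSeqScheme
import Groth.Agent.Lib.RelPure25.GlueLocal
import Groth.Agent.Lib.PurityExt25.Main
import Groth.Agent.Lib.FEtEq25.DepthTwo
import Groth.Agent.S0238

/-!
# Relative purity in codimension two over a Noetherian base
-/

set_option autoImplicit false
set_option linter.style.haveILetI false
set_option backward.isDefEq.respectTransparency false

universe u

open CategoryTheory CategoryTheory.Limits AlgebraicGeometry IsLocalRing

noncomputable section

namespace Groth.Agent.RelPure25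

/-- The complement of `U` has codimension two in every fibre. -/
def Codim2 {X S : Scheme.{u}} (f : X ⟶ S) (U : X.Opens) : Prop :=
  ∀ (s : S) (w : f.fiber s), f.fiberι s w ∉ U → 2 ≤ ringKrullDim ((f.fiber s).presheaf.stalk w)

/-- The local dimension goes up along flat morphisms. -/
theorem dim_le_of_flat {Y' Y : Scheme.{u}} (g : Y' ⟶ Y) [Flat g] [IsLocallyNoetherian Y'] [IsLocallyNoetherian Y]
    (y : Y') : ringKrullDim (Y.presheaf.stalk (g y)) ≤ ringKrullDim (Y'.presheaf.stalk y) := by
  let A := Y.presheaf.stalk (g y)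
  let B := Y'.presheaf.stalk y
  letI : Algebra A B := (g.stalkMap y).hom.toAlgebra
  haveI : IsLocalHom (algebraMap A B) := inferInstanceAs (IsLocalHom (g.stalkMap y).hom)
  haveI : Module.Flat A B := Flat.stalkMap g y
  rw [(FlatDepth.ring_fibre_invariants (A := A) (B := B)).2]
  refine le_add_of_nonneg_right ?_
  haveI : Nontrivial (EGA4.FibRing A B) := Ideal.Quotient.nontrivial_iff.2
    (ne_top_of_le_ne_top (maximalIdeal.isMaximal B).ne_top
      (Ideal.map_le_iff_le_comap.2 fun a ha => map_nonunit _ a ha))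
  exact ringKrullDim_nonneg_of_nontrivial

theorem isLocallyNoetherian_fiber {X S : Scheme.{u}} (f : X ⟶ S) [LocallyOfFiniteType f] (s : S) :
    IsLocallyNoetherian (f.fiber s) := by
  haveI : LocallyOfFiniteType (f.fiberToSpecResidueField s) := MorphismProperty.pullback_snd _ _ inferInstance
  exact LocallyOfFiniteType.isLocallyNoetherian (f.fiberToSpecResidueField s)

theorem dense_of_codim {X S : Scheme.{u}} (f : X ⟶ S) [LocallyOfFiniteType f] (U : X.Opens) (h : Codim2 f U) :
    Dense (U : Set X) := by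
  intro x
  haveI := isLocallyNoetherian_fiber f (f x)
  obtain ⟨η, hη, hηx⟩ := FlatH4.exists_isMaxPt_specializes (f.asFiber x)
  have hU : f.fiberι (f x) η ∈ U := by
    by_contra hc
    have h2 := h _ η hc
    rw [ringKrullDim_stalk_eq_coheight] at h2
    have h3 : Order.coheight η = 0 := Order.coheight_eq_zero.2 fun y hy => le_of_eq_of_le (hη y hy) le_rfl
    rw [h3] at h2
    exact absurd (WithBot.coe_le_coe.1 h2) (by norm_num)
  have h4 : f.fiberι (f x) η ⤳ x := by
    have := hηx.map (f.fiberι (f x)).continuous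
    rwa [Scheme.Hom.fiberι_asFiber] at this
  exact h4.mem_closure.out |> fun hcl => closure_mono (Set.singleton_subset_iff.2 hU) hcl

/-- Codimension two on the range of a flat morphism pulls back. -/
theorem codim2_of_range {Z X S : Scheme.{u}} {f : X ⟶ S} {U : X.Opens} (h : Z ⟶ X) [Flat h]
    [LocallyOfFiniteType h] [LocallyOfFiniteType f]
    (hU : ∀ (s : S) (w : f.fiber s), f.fiberι s w ∈ Set.range h → f.fiberι s w ∉ U →
      2 ≤ ringKrullDim ((f.fiber s).presheaf.stalk w)) : Codim2 (h ≫ f) (h ⁻¹ᵁ U) := by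
  intro s w hw
  let g : (h ≫ f).fiber s ⟶ f.fiber s :=
    pullback.lift ((h ≫ f).fiberι s ≫ h) ((h ≫ f).fiberToSpecResidueField s)
      ((Category.assoc _ _ _).trans pullback.condition)
  have hg₁ : g ≫ f.fiberι s = (h ≫ f).fiberι s ≫ h := pullback.lift_fst _ _ _
  have hg₂ : g ≫ f.fiberToSpecResidueField s = (h ≫ f).fiberToSpecResidueField s := pullback.lift_snd _ _ _
  have sq : IsPullback g ((h ≫ f).fiberι s) (f.fiberι s) h := by
    refine IsPullback.of_right ?_ hg₁ (IsPullback.of_hasPullback f (S.fromSpecResidueField s)).flip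
    erw [hg₂]
    exact (IsPullback.of_hasPullback (h ≫ f) (S.fromSpecResidueField s)).flip
  haveI : Flat g := MorphismProperty.of_isPullback sq.flip inferInstance
  haveI := isLocallyNoetherian_fiber f s
  haveI := isLocallyNoetherian_fiber (h ≫ f) s
  refine (hU s (g w) ⟨(h ≫ f).fiberι s w, by rw [← Scheme.Hom.comp_apply, ← Scheme.Hom.comp_apply, hg₁]⟩
    fun hc => hw ?_).trans (dim_le_of_flat g w)
  rw [← Scheme.Hom.comp_apply, hg₁] at hc
  exact hc

/-- Codimension two pulls back along flat morphisms of the source. -/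
theorem Codim2.comp {Z X S : Scheme.{u}} {f : X ⟶ S} {U : X.Opens} (hU : Codim2 f U) (h : Z ⟶ X) [Flat h]
    [LocallyOfFiniteType h] [LocallyOfFiniteType f] : Codim2 (h ≫ f) (h ⁻¹ᵁ U) :=
  codim2_of_range h fun s w _ => hU s w

theorem exists_residueField_hom {S' S : Scheme.{u}} (g : S' ⟶ S) (s' : S') :
    ∃ κ : Spec (S'.residueField s') ⟶ Spec (S.residueField (g s')),
      κ ≫ S.fromSpecResidueField (g s') = S'.fromSpecResidueField s' ≫ g ∧ Flat κ := by
  refine ⟨Spec.map (g.residueFieldMap s'), Scheme.Hom.SpecMap_residueFieldMap_fromSpecResidueField g s', ?_⟩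
  rw [HasRingHomProperty.Spec_iff (P := @Flat)]
  algebraize [(g.residueFieldMap s').hom]
  exact (inferInstance : Module.Flat (S.residueField (g s')) (S'.residueField s'))

/-- Codimension two pulls back along a change of the base. -/
theorem Codim2.baseChange {X' X S' S : Scheme.{u}} {f : X ⟶ S} {U : X.Opens} (hU : Codim2 f U) {p : X' ⟶ X}
    {f' : X' ⟶ S'} {g : S' ⟶ S} (h : IsPullback p f' f g) [LocallyOfFiniteType f] : Codim2 f' (p ⁻¹ᵁ U) := by
  haveI : LocallyOfFiniteType f' := MorphismProperty.of_isPullback h inferInstance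
  intro s w hw
  obtain ⟨κ, hκ, hκf⟩ := exists_residueField_hom g s
  let m : f'.fiber s ⟶ f.fiber (g s) :=
    pullback.lift (f'.fiberι s ≫ p) (f'.fiberToSpecResidueField s ≫ κ) (by
      rw [Category.assoc, h.w, Category.assoc, hκ, ← Category.assoc, ← Category.assoc]
      exact congrArg (· ≫ g) pullback.condition)
  have hm₁ : m ≫ f.fiberι (g s) = f'.fiberι s ≫ p := pullback.lift_fst _ _ _
  have hm₂ : m ≫ f.fiberToSpecResidueField (g s) = f'.fiberToSpecResidueField s ≫ κ := pullback.lift_snd _ _ _
  have sq : IsPullback m (f'.fiberToSpecResidueField s) (f.fiberToSpecResidueField (g s)) κ := by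
    refine IsPullback.of_right ?_ hm₂ (IsPullback.of_hasPullback f (S.fromSpecResidueField (g s)))
    show IsPullback (m ≫ f.fiberι (g s)) _ f (κ ≫ _)
    rw [hm₁, hκ]
    exact (IsPullback.of_hasPullback f' (S'.fromSpecResidueField s)).paste_horiz h
  haveI : Flat m := MorphismProperty.of_isPullback sq.flip hκf
  haveI := isLocallyNoetherian_fiber f (g s)
  haveI := isLocallyNoetherian_fiber f' s
  refine (hU (g s) (m w) fun hc => hw ?_).trans (dim_le_of_flat m w)
  rw [← Scheme.Hom.comp_apply, hm₁] at hc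
  exact hc

/-- Extension over an open subscheme is insensitive to isomorphisms. -/
theorem essSurj_of_isOpenImmersion {U X : Scheme.{u}} (j : U ⟶ X) [IsOpenImmersion j]
    (h : (FEt.restrict j.opensRange.ι).EssSurj) : (FEt.restrict j).EssSurj := by
  let e : U ⟶ (j.opensRange : Scheme.{u}) := (IsOpenImmersion.isoOfRangeEq j j.opensRange.ι (by simp)).hom
  have he : e ≫ j.opensRange.ι = j := IsOpenImmersion.isoOfRangeEq_hom_fac _ _ _
  haveI := Groth.Agent.S0238.result e
  haveI := h
  exact Functor.essSurj_of_iso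
    ((Pur25.restrictComp e j.opensRange.ι).symm ≪≫ MorphismProperty.Over.pullbackCongr he)

set_option maxHeartbeats 800000 in
/-- Purity in relative codimension two over a Noetherian base. -/
theorem essSurj_restrict_of_codim_noetherian {X S : Scheme.{u}} (f : X ⟶ S) [Smooth f] [IsLocallyNoetherian S]
    (U : X.Opens) (hU : Codim2 f U) : (FEt.restrict U.ι).EssSurj := by
  haveI : IsLocallyNoetherian X := LocallyOfFiniteType.isLocallyNoetherian f
  have hUd := dense_of_codim f U hU
  have hx : ∀ x : X, x ∉ U → (2 : ℕ∞) ≤ LocCoh.depth (X.presheaf.stalk x) (X.presheaf.stalk x) ∧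
      FEt.PurityHolds (X.presheaf.stalk x) := by
    intro x hx
    haveI : Smooth (f.fiberToSpecResidueField (f x)) := MorphismProperty.pullback_snd _ _ inferInstance
    haveI : IsRegularLocalRing (CInt.fiberStalk f x) :=
      SmoothReg17.isRegularLocalRing_stalk (f.fiberToSpecResidueField (f x)) (f.asFiber x)
    have hdim : (2 : WithBot ℕ∞) ≤ ringKrullDim (CInt.fiberStalk f x) :=
      hU (f x) (f.asFiber x) (by rw [Scheme.Hom.fiberι_asFiber]; exact hx)
    refine ⟨by simpa using FibReg13.depth_stalk_ge f x 2 (by exact_mod_cast hdim), ?_⟩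
    letI : Algebra (S.presheaf.stalk (f x)) (X.presheaf.stalk x) := (f.stalkMap x).hom.toAlgebra
    haveI : IsLocalHom (algebraMap (S.presheaf.stalk (f x)) (X.presheaf.stalk x)) :=
      inferInstanceAs (IsLocalHom (f.stalkMap x).hom)
    haveI : Module.Flat (S.presheaf.stalk (f x)) (X.presheaf.stalk x) := Flat.stalkMap f x
    obtain ⟨e⟩ := FlatDepth.nonempty_fiberStalkEquiv f x
    let F := X.presheaf.stalk x ⧸
      (maximalIdeal (S.presheaf.stalk (f x))).map (algebraMap (S.presheaf.stalk (f x)) (X.presheaf.stalk x))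
    let e' : F ≃+* CInt.fiberStalk f x := e
    haveI : IsRegularLocalRing F := IsRegularLocalRing.of_ringEquiv e'.symm
    have h2 : 2 ≤ (maximalIdeal F).spanFinrank := by
      have h3 : (2 : WithBot ℕ∞) ≤ (maximalIdeal F).spanFinrank := by
        rw [IsRegularLocalRing.spanFinrank_maximalIdeal, ringKrullDim_eq_of_ringEquiv e']; exact hdim
      exact_mod_cast h3
    exact PurityFlat25.purityHolds_of_flat (A := S.presheaf.stalk (f x))
      ((by exact_mod_cast h2 : (2 : ℕ∞) ≤ ((maximalIdeal F).spanFinrank : ℕ∞)).trans (Pur25.le_depth_of_regular rfl))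
      (Pur25.purity_regular (maximalIdeal F).spanFinrank F rfl h2)
  refine essSurj_restrict_of_local U (fun V => ?_) (fun V hV => ?_)
  · refine FEtEq25.fullFaithful_of_depth_two (V.ι ⁻¹ᵁ U) (hUd.preimage V.ι.isOpenEmbedding.isOpenMap) fun y hy => ?_
    rw [depth_stalk_opens]; exact (hx (V.ι y) hy).1
  · haveI : CompactSpace (V : Scheme.{u}) := isCompact_iff_compactSpace.1 hV.isCompact
    haveI : IsNoetherian (V : Scheme.{u}) := {}
    exact PurityExt25.essSurj_restrict _ fun y hy => purityHolds_stalk_opens V y (hx (V.ι y) hy).2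

end Groth.Agent.RelPure25
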