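import Groth.Agent.Lib.RelPure25.Approx
import Groth.Agent.Lib.FEtEq25.Graph
import Groth.Agent.Lib.FEtEq25.Points

/-!
# Purity in relative codimension two over an arbitrary base
-/

set_option autoImplicit false
set_option linter.style.haveILetI false
set_option backward.isDefEq.respectTransparency false

universe u

open CategoryTheory CategoryTheory.Limits AlgebraicGeometry TopologicalSpace

noncomputable section

namespace Groth.Agent.RelPure25

/-- A clopen piece is finite étale. -/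
theorem fetProp_of_clopen {X : Scheme.{u}} (O : X.Opens) (h : IsClosed (O : Set X)) : FEt.prop O.ι := by
  haveI : IsClosedImmersion O.ι := IsClosedImmersion.of_isPreimmersion _ (by rwa [Scheme.Opens.range_ι])
  exact ⟨inferInstance, inferInstance⟩

set_option maxHeartbeats 1600000 in
/-- A quasi-compact open with dense fibrewise complement of codimension two inside an affine piece. -/
theorem exists_good_open {X S : Scheme.{u}} (f : X ⟶ S) [Smooth f] (U : X.Opens) (hU : Codim2 f U)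
    {W : S.Opens} (hW : IsAffineOpen W) {V : X.Opens} (hV : IsAffineOpen V) (hVW : V ≤ f ⁻¹ᵁ W) :
    ∃ U₀ : (V : Scheme.{u}).Opens, U₀ ≤ V.ι ⁻¹ᵁ U ∧ Codim2 (V.ι ≫ f) U₀ ∧ (FEt.restrict U₀.ι).EssSurj := by
  classical
  letI := (f.appLE W V hVW).hom.toAlgebra
  haveI : Algebra.Smooth Γ(S, W) Γ(X, V) := f.smooth_appLE hW hV hVW
  let A := Γ(X, V)
  let C : Set (PrimeSpectrum A) := hV.fromSpec ⁻¹' (U : Set X)ᶜ
  have hC : IsClosed C := U.2.isClosed_compl.preimage hV.fromSpec.continuous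
  let Jset : Set A := {g | X.basicOpen g ≤ U}
  have hJC : ∀ g ∈ Jset, ∀ q ∈ C, g ∈ q.asIdeal := by
    intro g hg q hq
    by_contra hgq
    refine hq (hg ?_)
    have : q ∈ hV.fromSpec ⁻¹ᵁ X.basicOpen g := by rw [hV.fromSpec_preimage_basicOpen]; exact hgq
    exact this
  have hloc : ∀ q : C, ∃ a b G, a ∈ Jset ∧ b ∈ Jset ∧ G ∉ q.1.asIdeal ∧
      ∀ y : PrimeSpectrum A, G ∉ y.asIdeal → Ideal.ofList [a, b] ≤ y.asIdeal →
        KoszulFibre4.FibReg y.asIdeal Γ(S, W) [a, b] := by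
    rintro ⟨q, hq⟩
    have hxV : hV.fromSpec q ∈ V := hV.range_fromSpec.le ⟨q, rfl⟩
    let x := hV.fromSpec q
    have hz : f.fiberι (f x) (f.asFiber x) ∈ V := by rw [Scheme.Hom.fiberι_asFiber]; exact hxV
    have hzq : (hV.primeIdealOf ⟨_, hz⟩) = q := hV.fromSpec.isOpenEmbedding.injective (by
      rw [hV.fromSpec_primeIdealOf]; exact f.fiberι_asFiber x)
    obtain ⟨a, b, ha, hb, hab, hreg⟩ := exists_fibReg_of_codim f hW hV hVW (f.asFiber x) hz U (hU (f x))
      (by rw [Scheme.Hom.fiberι_asFiber]; exact hq)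
    obtain ⟨G, hG, hGy⟩ := fibReg_open (R := Γ(S, W)) _ [a, b] hab hreg
    exact ⟨a, b, G, ha, hb, fun h => hG (by rw [hzq]; exact h), fun y => hGy y.asIdeal⟩
  choose a b G ha hb hG hreg using hloc
  obtain ⟨t, ht⟩ := hC.isCompact.elim_finite_subcover (fun q : C => (PrimeSpectrum.basicOpen (G q) : Set (PrimeSpectrum A)))
    (fun q => (PrimeSpectrum.basicOpen (G q)).2) (fun q hq => Set.mem_iUnion.2 ⟨⟨q, hq⟩, hG ⟨q, hq⟩⟩)
  let C' : Set (PrimeSpectrum A) := (⋃ q ∈ t, (PrimeSpectrum.basicOpen (G q) : Set (PrimeSpectrum A)))ᶜ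
  have hC' : IsClosed C' := (isOpen_biUnion fun q _ => (PrimeSpectrum.basicOpen (G q)).2).isClosed_compl
  have hh : ∀ q : C', ∃ h, h ∈ Jset ∧ h ∉ q.1.asIdeal := by
    rintro ⟨q, hq⟩
    have hqU : hV.fromSpec q ∈ U := by
      by_contra hc
      exact hq (ht hc)
    have hxV : hV.fromSpec q ∈ V := hV.range_fromSpec.le ⟨q, rfl⟩
    obtain ⟨g, hgU, hxg⟩ := hV.exists_basicOpen_le ⟨hV.fromSpec q, hqU⟩ hxV
    refine ⟨g, hgU, ?_⟩
    have : q ∈ hV.fromSpec ⁻¹ᵁ X.basicOpen g := hxg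
    rw [hV.fromSpec_preimage_basicOpen] at this
    exact this
  choose h hhU hhq using hh
  obtain ⟨t', ht'⟩ := hC'.isCompact.elim_finite_subcover (fun q : C' => (PrimeSpectrum.basicOpen (h q) : Set (PrimeSpectrum A)))
    (fun q => (PrimeSpectrum.basicOpen (h q)).2) (fun q hq => Set.mem_iUnion.2 ⟨⟨q, hq⟩, hhq ⟨q, hq⟩⟩)
  let J : Finset A := t.image a ∪ t.image b ∪ t'.image h
  have hJU : ∀ g ∈ J, X.basicOpen g ≤ U := by
    intro g hg
    rcases Finset.mem_union.1 hg with hg | hg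
    · rcases Finset.mem_union.1 hg with hg | hg
      · obtain ⟨q, -, rfl⟩ := Finset.mem_image.1 hg; exact ha q
      · obtain ⟨q, -, rfl⟩ := Finset.mem_image.1 hg; exact hb q
    · obtain ⟨q, -, rfl⟩ := Finset.mem_image.1 hg; exact hhU q
  have hpairs : ∀ (y : Ideal A) [y.IsPrime], (∀ g ∈ J, g ∈ y) →
      ∃ a' ∈ J, ∃ b' ∈ J, KoszulFibre4.FibReg y Γ(S, W) [a', b'] := by
    intro y _ hy
    have hyC : (⟨y, inferInstance⟩ : PrimeSpectrum A) ∉ C' := fun hc => by
      obtain ⟨q, hq, hq'⟩ := Set.mem_iUnion₂.1 (ht' hc)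
      exact hq' (hy _ (Finset.mem_union_right _ (Finset.mem_image_of_mem h hq)))
    obtain ⟨q, hq, hq'⟩ := Set.mem_iUnion₂.1 (not_not.1 hyC)
    have h1 : a q ∈ J := Finset.mem_union_left _ (Finset.mem_union_left _ (Finset.mem_image_of_mem a hq))
    have h2 : b q ∈ J := Finset.mem_union_left _ (Finset.mem_union_right _ (Finset.mem_image_of_mem b hq))
    refine ⟨a q, h1, b q, h2, hreg q ⟨y, inferInstance⟩ hq' (Ideal.span_le.2 fun g hg => ?_)⟩
    rcases List.mem_cons.1 hg with rfl | hg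
    · exact hy _ h1
    · rw [List.mem_singleton.1 hg]; exact hy _ h2
  let e : (V : Scheme.{u}) ⟶ Spec A := hV.isoSpec.hom
  let U₀ : (V : Scheme.{u}).Opens := e ⁻¹ᵁ openOf J
  have hmem : ∀ v : (V : Scheme.{u}), v ∈ U₀ ↔ ∃ g ∈ J, g ∉ (hV.primeIdealOf ⟨V.ι v, v.2⟩).asIdeal := fun v => Iff.rfl
  have hle : U₀ ≤ V.ι ⁻¹ᵁ U := by
    intro v hv
    obtain ⟨g, hg, hgv⟩ := (hmem v).1 hv
    exact hJU g hg ((KoszulFibre4.mem_basicOpen_iff hV g ⟨V.ι v, v.2⟩).2 hgv)
  refine ⟨U₀, hle, ?_, ?_⟩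
  · have hpre : U₀ = V.ι ⁻¹ᵁ (V.ι ''ᵁ U₀) := (V.ι.preimage_image_eq U₀).symm
    rw [hpre]
    refine codim2_of_range V.ι fun s w hwr hw => ?_
    rw [Scheme.Opens.range_ι] at hwr
    let v : (V : Scheme.{u}) := ⟨f.fiberι s w, hwr⟩
    have hv : v ∉ U₀ := fun hc => hw ⟨v, hc, rfl⟩
    rw [hmem] at hv
    push Not at hv
    obtain ⟨a', ha', b', hb', hr⟩ := hpairs (hV.primeIdealOf ⟨f.fiberι s w, hwr⟩).asIdeal hv
    refine two_le_ringKrullDim_of_fibReg f hW hV hVW w hwr a' b' (Ideal.span_le.2 fun g hg => ?_) hr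
    rcases List.mem_cons.1 hg with rfl | hg
    · exact hv _ ha'
    · rw [List.mem_singleton.1 hg]; exact hv _ hb'
  · haveI : IsIso e := inferInstanceAs (IsIso hV.isoSpec.hom)
    haveI := essSurj_restrict_openOf Γ(S, W) J hpairs
    have hr : (U₀.ι ≫ e).opensRange = openOf J := by
      apply Opens.ext
      show Set.range (U₀.ι ≫ e) = _
      rw [Scheme.Hom.comp_base, TopCat.coe_comp, Set.range_comp, Scheme.Opens.range_ι]
      exact Set.image_preimage_eq (openOf J : Set _) (show Function.Surjective e from (Scheme.Hom.homeomorph e).surjective)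
    haveI : (FEt.restrict (U₀.ι ≫ e)).EssSurj := essSurj_of_isOpenImmersion _ (by rw [hr]; infer_instance)
    haveI : (FEt.restrict e ⋙ FEt.restrict U₀.ι).EssSurj :=
      Functor.essSurj_of_iso (Pur25.restrictComp U₀.ι e)
    exact ⟨fun Y => ⟨(FEt.restrict e).obj ((FEt.restrict e ⋙ FEt.restrict U₀.ι).objPreimage Y),
      ⟨(FEt.restrict e ⋙ FEt.restrict U₀.ι).objObjPreimageIso Y⟩⟩⟩

set_option maxHeartbeats 1600000 in
/-- Clopens extend across a complement of relative codimension two. -/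
theorem exists_clopen_extension {X S : Scheme.{u}} (f : X ⟶ S) [Smooth f] (U : X.Opens) (hU : Codim2 f U)
    (C : Set X) (hCU : C ⊆ U) (hCo : IsOpen C) (hCc : IsOpen ((U : Set X) \ C)) :
    ∃ D : Set X, IsClopen D ∧ D ∩ U = C := by
  refine ⟨closure C, ⟨isClosed_closure, ?_⟩, ?_⟩
  swap
  · refine Set.Subset.antisymm (fun x hx => ?_) (fun x hx => ⟨subset_closure hx, hCU hx⟩)
    by_contra hxC
    obtain ⟨y, ⟨-, hyC⟩, hyC'⟩ := mem_closure_iff.1 hx.1 _ hCc ⟨hx.2, hxC⟩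
    exact hyC hyC'
  rw [isOpen_iff_forall_mem_open]
  intro x hx
  obtain ⟨W, hW, hxW, -⟩ := exists_isAffineOpen_mem_and_subset (X := S) (x := f x) (U := ⊤) trivial
  obtain ⟨V, hV, hxV, hVW⟩ := exists_isAffineOpen_mem_and_subset (X := X) (x := x) (U := f ⁻¹ᵁ W) hxW
  obtain ⟨U₀, hU₀, hd, hes⟩ := exists_good_open f U hU hW hV hVW
  have hdense : Dense (U₀ : Set (V : Scheme.{u})) := dense_of_codim _ U₀ hd
  let C₀ : (U₀ : Scheme.{u}).Opens := ⟨(U₀.ι ≫ V.ι) ⁻¹' C, hCo.preimage (U₀.ι ≫ V.ι).continuous⟩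
  have hC₀ : IsClosed (C₀ : Set (U₀ : Scheme.{u})) := by
    have : (C₀ : Set (U₀ : Scheme.{u})) = ((U₀.ι ≫ V.ι) ⁻¹' ((U : Set X) \ C))ᶜ := by
      ext z
      exact ⟨fun h h' => h'.2 h, fun h => by_contra fun h' => h ⟨hU₀ (show U₀.ι z ∈ U₀ from z.2), h'⟩⟩
    rw [this]
    exact (hCc.preimage (U₀.ι ≫ V.ι).continuous).isClosed_compl
  haveI := hes
  let O : FEt.Cat (U₀ : Scheme.{u}) := MorphismProperty.Over.mk ⊤ C₀.ι (fetProp_of_clopen C₀ hC₀)
  let E := (FEt.restrict U₀.ι).objPreimage O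
  let η := (FEt.restrict U₀.ι).objObjPreimageIso O
  let ηl : pullback E.hom U₀.ι ≅ (C₀ : Scheme.{u}) :=
    (MorphismProperty.Over.forget FEt.prop ⊤ _ ⋙ CategoryTheory.Over.forget _).mapIso η
  have hηl : ηl.hom ≫ C₀.ι = pullback.snd E.hom U₀.ι :=
    CategoryTheory.Over.w ((MorphismProperty.Over.forget FEt.prop ⊤ _).map η.hom)
  haveI : IsFinite E.hom := E.prop.1
  haveI : Etale E.hom := E.prop.2
  let D : Set (V : Scheme.{u}) := Set.range E.hom
  have hDc : IsClosed D := E.hom.isClosedMap.isClosed_range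
  have hDo : IsOpen D := E.hom.isOpenMap.isOpen_range
  have hD₀ : ∀ v : (U₀ : Scheme.{u}), U₀.ι v ∈ D ↔ v ∈ C₀ := by
    intro v
    have h1 : Set.range (pullback.snd E.hom U₀.ι) = Set.range C₀.ι := by
      rw [← hηl, Scheme.Hom.comp_base, TopCat.coe_comp]
      exact (show Function.Surjective ηl.hom from (Scheme.Hom.homeomorph ηl.hom).surjective).range_comp _
    rw [Scheme.Pullback.range_snd, Scheme.Opens.range_ι] at h1
    exact Set.ext_iff.1 h1 v
  let S1 : Set (V : Scheme.{u}) := V.ι ⁻¹' C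
  have hS1o : IsOpen S1 := hCo.preimage V.ι.continuous
  have hsub : S1 ⊆ D := by
    intro v hv
    by_contra hvD
    obtain ⟨w, ⟨hw1, hw2⟩, hwU⟩ := hdense.inter_open_nonempty _ (hS1o.inter hDc.isOpen_compl) ⟨v, hv, hvD⟩
    exact hw2 ((hD₀ ⟨w, hwU⟩).2 hw1)
  have hDsub : D ⊆ closure S1 := by
    intro v hv
    refine closure_mono ?_ (hdense.open_subset_closure_inter hDo hv)
    rintro w ⟨hwD, hwU⟩
    exact (hD₀ ⟨w, hwU⟩).1 hwD
  have hclosure : V.ι ⁻¹' closure C = D := by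
    refine Set.Subset.antisymm ?_ (hDsub.trans (V.ι.continuous.closure_preimage_subset C))
    rw [V.ι.isOpenEmbedding.isOpenMap.preimage_closure_eq_closure_preimage V.ι.continuous]
    exact closure_minimal hsub hDc
  refine ⟨V.ι '' D, ?_, V.ι.isOpenEmbedding.isOpenMap _ hDo, ?_⟩
  · rintro _ ⟨v, hv, rfl⟩
    exact (hclosure ▸ hv : v ∈ V.ι ⁻¹' closure C)
  · exact ⟨⟨x, hxV⟩, hclosure.le hx, rfl⟩

/-- Restriction across a complement of relative codimension two is fully faithful. -/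
theorem fullFaithful_of_codim {X U S : Scheme.{u}} (f : X ⟶ S) [Smooth f] (j : U ⟶ X) [IsOpenImmersion j]
    (hU : Codim2 f j.opensRange) : (FEt.restrict j).Full ∧ (FEt.restrict j).Faithful := by
  have hT : ∀ T : Set X, IsClopen T → T.Nonempty → (T ∩ Set.range j).Nonempty := fun T hT hne =>
    (dense_of_codim f j.opensRange hU).inter_open_nonempty T hT.2 hne
  refine ⟨FEtEq25.full_restrict _ hT fun {Z} h hh C hC => ?_, FEtEq25.faithful_restrict _ hT⟩
  haveI : IsFinite h := hh.1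
  haveI : Etale h := hh.2
  let a := pullback.fst h j
  have hr : Set.range a = ((h ⁻¹ᵁ j.opensRange : Z.Opens) : Set Z) := Scheme.Pullback.range_fst h j
  obtain ⟨D, hD, hDC⟩ := exists_clopen_extension (h ≫ f) (h ⁻¹ᵁ j.opensRange) (hU.comp h) (a '' C)
    (by rintro _ ⟨c, -, rfl⟩; exact hr.le ⟨c, rfl⟩) (a.isOpenEmbedding.isOpenMap _ hC.2)
    (by rw [← hr, ← Set.image_univ, ← Set.image_sdiff a.isOpenEmbedding.injective]
        exact a.isOpenEmbedding.isOpenMap _ (isOpen_univ.sdiff hC.1))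
  refine ⟨D, hD, Set.ext fun c => ⟨fun hc => ?_, fun hc => (hDC.ge ⟨c, hc, rfl⟩).1⟩⟩
  obtain ⟨c', hc', he⟩ := hDC.le ⟨hc, hr.le ⟨c, rfl⟩⟩
  rwa [← a.isOpenEmbedding.injective he]

set_option maxHeartbeats 800000 in
/-- Restriction across a complement of relative codimension two is an equivalence. -/
theorem isEquivalence_of_codim {X U S : Scheme.{u}} (f : X ⟶ S) [Smooth f] (j : U ⟶ X) [IsOpenImmersion j]
    (hU : Codim2 f j.opensRange) : (FEt.restrict j).IsEquivalence := by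
  obtain ⟨hfull, hfaith⟩ := fullFaithful_of_codim f j hU
  haveI : (FEt.restrict j).EssSurj := by
    refine essSurj_of_isOpenImmersion j (essSurj_restrict_of_basis j.opensRange
      (fun V => IsAffineOpen V ∧ ∃ W : S.Opens, IsAffineOpen W ∧ V ≤ f ⁻¹ᵁ W) ?_ (fun V => ?_) (fun V hV => ?_))
    · refine Opens.isBasis_iff_nbhd.2 fun {O x} hx => ?_
      obtain ⟨W, hW, hxW, -⟩ := exists_isAffineOpen_mem_and_subset (X := S) (x := f x) (U := ⊤) trivial
      obtain ⟨V, hV, hxV, hVO⟩ := exists_isAffineOpen_mem_and_subset (X := X) (x := x) (U := O ⊓ f ⁻¹ᵁ W) ⟨hx, hxW⟩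
      exact ⟨V, ⟨hV, W, hW, fun y hy => (hVO hy).2⟩, hxV, fun y hy => (hVO hy).1⟩
    · refine fullFaithful_of_codim (V.ι ≫ f) _ ?_
      rw [Scheme.Opens.opensRange_ι]
      exact hU.comp V.ι
    refine ⟨fun Y => ?_⟩
    let U' : (V : Scheme.{u}).Opens := V.ι ⁻¹ᵁ j.opensRange
    obtain ⟨hV, W, hW, hVW⟩ := hV
    ·
      obtain ⟨U₀, hU₀, hd, hes⟩ := exists_good_open f j.opensRange hU hW hV hVW
      let i : (U₀ : Scheme.{u}) ⟶ (U' : Scheme.{u}) := (V : Scheme.{u}).homOfLE hU₀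
      have hi : i ≫ U'.ι = U₀.ι := Scheme.homOfLE_ι _ hU₀
      obtain ⟨hfi, hfai⟩ : (FEt.restrict i).Full ∧ (FEt.restrict i).Faithful := by
        refine fullFaithful_of_codim (U'.ι ≫ V.ι ≫ f) i ?_
        have h1 : i.opensRange = U'.ι ⁻¹ᵁ U₀ := by
          apply Opens.ext
          show Set.range i = U'.ι ⁻¹' (U₀ : Set (V : Scheme.{u}))
          rw [← Set.preimage_image_eq (Set.range i) U'.ι.isOpenEmbedding.injective, ← Set.range_comp,
            ← TopCat.coe_comp, ← Scheme.Hom.comp_base, hi, Scheme.Opens.range_ι]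
        rw [h1]
        exact hd.comp U'.ι
      haveI := hfi; haveI := hfai; haveI := hes
      let E := (FEt.restrict U₀.ι).objPreimage ((FEt.restrict i).obj Y)
      let e : (FEt.restrict i).obj ((FEt.restrict U'.ι).obj E) ≅ (FEt.restrict i).obj Y :=
        (Pur25.restrictComp i U'.ι).symm.app E ≪≫ (MorphismProperty.Over.pullbackCongr hi).app E ≪≫
          (FEt.restrict U₀.ι).objObjPreimageIso _
      exact ⟨E, ⟨(Functor.FullyFaithful.ofFullyFaithful (FEt.restrict i)).preimageIso e⟩⟩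
  exact { faithful := hfaith, full := hfull }

end Groth.Agent.RelPure25
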