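import Groth.Agent.Lib.RelPure25.Main
import Groth.Agent.Lib.RelPure25.Descend
import Groth.Agent.Lib.FlatH4.LocCrit
import Groth.Agent.Lib.ResExt.Noeth
import Groth.Agent.Lib.Depth3.Zero
import Mathlib.RingTheory.Flat.TorsionFree

/-!
# Purity at points of relative dimension one
-/

set_option autoImplicit false
set_option linter.style.haveILetI false

universe u

open IsLocalRing TensorProduct

noncomputable section

namespace Groth.Agent.RelPure25

/-- The fibrewise criterion of flatness for local rings, with the base flat part on the target only. -/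
theorem flat_of_fibre {A B C : Type u} [CommRing A] [CommRing B] [CommRing C] [IsLocalRing A] [IsLocalRing B]
    [IsLocalRing C] [IsNoetherianRing A] [IsNoetherianRing B] [IsNoetherianRing C] [Algebra A B] [Algebra B C]
    [Algebra A C] [IsScalarTower A B C] [IsLocalHom (algebraMap A B)] [IsLocalHom (algebraMap B C)] [Module.Flat A C]
    (h : (Ideal.quotientMap ((maximalIdeal A).map (algebraMap A C)) (algebraMap B C)
      (show (maximalIdeal A).map (algebraMap A B) ≤ _ from Ideal.map_le_iff_le_comap.1 (by
        rw [Ideal.map_map, ← IsScalarTower.algebraMap_eq]))).Flat) :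
    Module.Flat B C := by
  set I := (maximalIdeal A).map (algebraMap A B) with hI
  refine FlatH4.flat_of_le_jacobson (S := C) I ?_ ?_ ?_
  · rw [IsLocalRing.jacobson_eq_maximalIdeal (⊥ : Ideal C) bot_ne_top, Ideal.map_le_iff_le_comap]
    exact fun x hx => map_nonunit (algebraMap B C) x
      ((Ideal.map_le_iff_le_comap.2 fun a ha => map_nonunit (algebraMap A B) a ha : I ≤ maximalIdeal B) hx)
  · let ι : maximalIdeal A →ₗ[A] I :=
      ((Algebra.linearMap A B).comp (maximalIdeal A).subtype).codRestrict (I.restrictScalars A)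
        fun a => Ideal.mem_map_of_mem _ a.2
    let θ : C ⊗[A] maximalIdeal A →+ C ⊗[B] I :=
      TensorProduct.liftAddHom
        { toFun := fun c =>
            { toFun := fun a => c ⊗ₜ[B] ι a
              map_zero' := by simp
              map_add' := fun a b => by rw [map_add, tmul_add] }
          map_zero' := by ext; simp
          map_add' := fun a b => by ext; simp [add_tmul] }
        (fun r c a => by
          show (r • c) ⊗ₜ[B] ι a = c ⊗ₜ[B] ι (r • a)
          rw [map_smul, ← algebraMap_smul B r c, smul_tmul]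
          refine congrArg (fun z => c ⊗ₜ[B] z) (Subtype.ext ?_)
          show algebraMap A B r * _ = r • _
          rw [Algebra.smul_def])
    have hθ : Function.Surjective θ := by
      intro z
      induction z with
      | zero => exact ⟨0, map_zero _⟩
      | add a b ha hb =>
        obtain ⟨x, rfl⟩ := ha
        obtain ⟨y, rfl⟩ := hb
        exact ⟨x + y, map_add _ _ _⟩
      | tmul c x =>
        obtain ⟨x, hx⟩ := x
        induction hx using Submodule.span_induction generalizing c with
        | mem x hx =>
          obtain ⟨a, ha, rfl⟩ := hx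
          exact ⟨c ⊗ₜ ⟨a, ha⟩, rfl⟩
        | zero =>
          refine ⟨0, ?_⟩
          rw [map_zero]
          exact (tmul_zero I c).symm
        | add x y hx hy ihx ihy =>
          obtain ⟨u, hu⟩ := ihx c
          obtain ⟨v, hv⟩ := ihy c
          exact ⟨u + v, by rw [map_add, hu, hv, ← tmul_add]; rfl⟩
        | smul b x hx ih =>
          obtain ⟨u, hu⟩ := ih (b • c)
          exact ⟨u, by rw [hu, smul_tmul]; rfl⟩
    have hinj : Function.Injective (LinearMap.lTensor C (maximalIdeal A).subtype) :=
      Module.Flat.lTensor_preserves_injective_linearMap _ (Submodule.subtype_injective _)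
    have key : ∀ z, (TensorProduct.rid B C) (LinearMap.lTensor C I.subtype (θ z)) =
        (TensorProduct.rid A C) (LinearMap.lTensor C (maximalIdeal A).subtype z) := by
      intro z
      induction z with
      | zero => simp
      | tmul c a =>
        show algebraMap A B a.1 • c = a.1 • c
        rw [algebraMap_smul]
      | add a b ha hb => simp only [map_add, ha, hb]
    rw [injective_iff_map_eq_zero]
    intro w hw
    obtain ⟨z, rfl⟩ := hθ w
    have := key z
    rw [hw, map_zero] at this
    rw [hinj ((TensorProduct.rid A C).injective (this.symm.trans (map_zero _).symm) |>.trans (map_zero _).symm),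
      map_zero]
  · let J := (maximalIdeal A).map (algebraMap A C)
    have hle : I.map (algebraMap B C) = J := by rw [hI, Ideal.map_map, ← IsScalarTower.algebraMap_eq]
    have hle' : I ≤ J.comap (algebraMap B C) := Ideal.map_le_iff_le_comap.1 hle.le
    letI : Algebra (B ⧸ I) (C ⧸ J) := (Ideal.quotientMap J (algebraMap B C) hle').toAlgebra
    haveI : Module.Flat (B ⧸ I) (C ⧸ J) := h
    haveI : IsScalarTower B (B ⧸ I) (C ⧸ J) := IsScalarTower.of_algebraMap_eq fun b => rfl
    have hJ : (I • ⊤ : Submodule B C) = J.restrictScalars B := by rw [Ideal.smul_top_eq_map, hle]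
    let e₀ : (B ⧸ I) ⊗[B] C ≃ₗ[B] (C ⧸ J) :=
      (quotTensorEquivQuotSMul C I).trans ((Submodule.quotEquivOfEq _ _ hJ).trans
        (Submodule.Quotient.restrictScalarsEquiv B J))
    let e : (B ⧸ I) ⊗[B] C ≃ₗ[B ⧸ I] (C ⧸ J) :=
      { e₀ with
        map_smul' := fun r z => by
          obtain ⟨b, rfl⟩ := Ideal.Quotient.mk_surjective r
          show e₀ (algebraMap B (B ⧸ I) b • z) = algebraMap B (B ⧸ I) b • e₀ z
          rw [algebraMap_smul, algebraMap_smul, map_smul] }
    exact Module.Flat.of_linearEquiv e

/-- A local ring of relative dimension one over a base of positive depth is pure, given a nonconstant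
arc over a complete extension of the base. -/
theorem purityHolds_of_arc {A B A' : Type u} [CommRing A] [CommRing B] [CommRing A'] [IsLocalRing A] [IsLocalRing B]
    [IsLocalRing A'] [IsNoetherianRing A] [IsNoetherianRing B] [IsNoetherianRing A']
    [IsAdicComplete (maximalIdeal A') A'] [IsAlgClosed (ResidueField A')]
    [Algebra A B] [IsLocalHom (algebraMap A B)] [Module.Flat A B] [Algebra A A'] [IsLocalHom (algebraMap A A')]
    [Module.Flat A A'] (hmA' : (maximalIdeal A).map (algebraMap A A') = maximalIdeal A')
    (hA : (1 : ℕ∞) ≤ LocCoh.depth A A)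
    [IsDomain (B ⧸ (maximalIdeal A).map (algebraMap A B))]
    [IsDiscreteValuationRing (B ⧸ (maximalIdeal A).map (algebraMap A B))]
    (φ : B →+* MvPowerSeries (Fin 1) A') [IsLocalHom φ]
    (hφ : ∀ a, φ (algebraMap A B a) = MvPowerSeries.C (algebraMap A A' a))
    (b : B) (hb : b ∈ maximalIdeal B) (hb' : φ b ∉ (maximalIdeal A').map MvPowerSeries.C) :
    FEt.PurityHolds B := by
  let C := MvPowerSeries (Fin 1) A'
  letI : Algebra B C := φ.toAlgebra
  haveI : IsScalarTower A B C := IsScalarTower.of_algebraMap_eq fun a =>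
    ((IsScalarTower.algebraMap_apply A A' C a).trans
      (RingHom.congr_fun MvPowerSeries.c_eq_algebraMap.symm _)).trans (hφ a).symm
  haveI : IsLocalHom (algebraMap B C) := ‹IsLocalHom φ›
  haveI : Module.Flat A C := Module.Flat.trans A A' C
  have hJ : (maximalIdeal A).map (algebraMap A C) = (maximalIdeal A').map MvPowerSeries.C := by
    rw [IsScalarTower.algebraMap_eq A A' C, ← Ideal.map_map, hmA', MvPowerSeries.c_eq_algebraMap]
  haveI hJp : ((maximalIdeal A).map (algebraMap A C)).IsPrime := hJ ▸ isPrime_map_C _
  have hle : (maximalIdeal A).map (algebraMap A B) ≤ ((maximalIdeal A).map (algebraMap A C)).comap (algebraMap B C) :=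
    Ideal.map_le_iff_le_comap.1 (by rw [Ideal.map_map, ← IsScalarTower.algebraMap_eq])
  let q := Ideal.quotientMap ((maximalIdeal A).map (algebraMap A C)) (algebraMap B C) hle
  haveI : IsLocalRing (B ⧸ (maximalIdeal A).map (algebraMap A B)) := inferInstance
  have hbq : q (Ideal.Quotient.mk _ b) ≠ 0 := by
    rw [Ideal.quotientMap_mk]
    intro h0
    rw [Ideal.Quotient.eq_zero_iff_mem, hJ] at h0
    exact hb' h0
  have hqinj : Function.Injective q := by
    rw [RingHom.injective_iff_ker_eq_bot]
    by_contra hne
    haveI := RingHom.ker_isPrime q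
    have hk := IsLocalRing.eq_maximalIdeal
      ((IsPrime.to_maximal_ideal (S := RingHom.ker q) hne))
    refine hbq (RingHom.mem_ker.1 ?_)
    rw [hk]
    haveI : IsLocalHom (Ideal.Quotient.mk ((maximalIdeal A).map (algebraMap A B))) :=
      IsLocalHom.of_surjective _ Ideal.Quotient.mk_surjective
    exact map_nonunit _ b hb
  have hflat : Module.Flat B C := by
    refine flat_of_fibre (A := A) (?_ : q.Flat)
    letI := q.toAlgebra
    show Module.Flat (B ⧸ (maximalIdeal A).map (algebraMap A B)) (C ⧸ (maximalIdeal A).map (algebraMap A C))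
    haveI : Module.IsTorsionFree (B ⧸ (maximalIdeal A).map (algebraMap A B))
        (C ⧸ (maximalIdeal A).map (algebraMap A C)) := by
      haveI : FaithfulSMul (B ⧸ (maximalIdeal A).map (algebraMap A B))
          (C ⧸ (maximalIdeal A).map (algebraMap A C)) := (faithfulSMul_iff_algebraMap_injective _ _).2 hqinj
      haveI : IsDomain (C ⧸ (maximalIdeal A).map (algebraMap A C)) := Ideal.Quotient.isDomain _
      infer_instance
    infer_instance
  have hd : (2 : ℕ∞) ≤ LocCoh.depth B B := by
    haveI : IsLocalRing (B ⧸ (⊥ : Ideal A).map (algebraMap A B)) := by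
      haveI : Nontrivial (B ⧸ (⊥ : Ideal A).map (algebraMap A B)) := by
        rw [Ideal.Quotient.nontrivial_iff, Ideal.map_bot]; exact bot_ne_top
      exact IsLocalRing.of_surjective' _ Ideal.Quotient.mk_surjective
    have h := PurityFlat25.depth_quot (A := A) (B := B) ⊥
    have e1 : LocCoh.depth A (A ⧸ (⊥ : Ideal A)) = LocCoh.depth A A :=
      DepthLib.idealDepth_congr (AlgEquiv.quotientBot A A).toLinearEquiv
    have e2 : LocCoh.depth (B ⧸ (⊥ : Ideal A).map (algebraMap A B)) (B ⧸ (⊥ : Ideal A).map (algebraMap A B)) =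
        LocCoh.depth B B := by
      rw [← FlatDepth.depth_eq_of_surjective (A := B) (M := B ⧸ (⊥ : Ideal A).map (algebraMap A B))
        Ideal.Quotient.mk_surjective]
      refine DepthLib.idealDepth_congr (Submodule.quotEquivOfEqBot _ ?_)
      rw [Ideal.map_bot]
    rw [e2, e1] at h
    rw [h]
    calc (2 : ℕ∞) = 1 + 1 := by norm_num
      _ ≤ _ := by
        refine add_le_add hA ?_
        obtain ⟨ϖ, hϖ⟩ := IsDiscreteValuationRing.exists_irreducible (B ⧸ (maximalIdeal A).map (algebraMap A B))
        refine DepthLib.one_le_idealDepth_of_regular (x := ϖ) hϖ.not_isUnit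
          (IsSMulRegular.of_right_eq_zero_of_smul fun z hz => (mul_eq_zero.1 hz).resolve_left hϖ.ne_zero)
  have hA' : ∀ p ∈ minimalPrimes A', p ≠ maximalIdeal A' := by
    intro p hp hpe
    have h1 : (1 : ℕ∞) ≤ LocCoh.depth A' A' :=
      hA.trans (FEtEq25.depth_le_of_flat_local (algebraMap A A') (RingHom.flat_algebraMap_iff.2 inferInstance))
    have h2 : maximalIdeal A' ∈ associatedPrimes A' A' := by
      rw [hpe] at hp
      refine Module.associatedPrimes.minimalPrimes_annihilator_subset_associatedPrimes A' A' ?_
      rwa [Module.annihilator_eq_bot.2 inferInstance]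
    rw [Depth3.depth_eq_zero_iff.2 h2] at h1
    simp at h1
  obtain ⟨d, hdim⟩ : ∃ d : ℕ, ringKrullDim A' ≤ d :=
    ⟨(maximalIdeal A').spanFinrank, ringKrullDim_le_spanFinrank_maximalIdeal A'⟩
  refine purityHolds_of_flat_extension φ hflat hd ?_ (purityHolds_series le_rfl d A' hdim hA')
  rw [Ideal.radical_eq_sInf]
  refine le_sInf ?_
  rintro P ⟨hP1, hP2⟩
  haveI := hP2
  have hmem : φ b ∈ P := hP1 (Ideal.mem_map_of_mem φ hb)
  have hm : (maximalIdeal A').map MvPowerSeries.C ≤ P := by
    rw [← hJ, IsScalarTower.algebraMap_eq A B C, ← Ideal.map_map]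
    have hh : (maximalIdeal A).map (algebraMap A B) ≤ maximalIdeal B :=
      Ideal.map_le_iff_le_comap.2 fun a ha => map_nonunit (algebraMap A B) a ha
    exact (Ideal.map_mono hh).trans hP1
  haveI := isPrime_map_C (n := 1) (maximalIdeal A')
  letI : Field (A' ⧸ maximalIdeal A') := Ideal.Quotient.field _
  haveI : IsPrincipalIdealRing (MvPowerSeries (Fin 1) (A' ⧸ maximalIdeal A')) :=
    IsPrincipalIdealRing.of_surjective _
      (MvPowerSeries.renameEquiv (R := A' ⧸ maximalIdeal A') (Equiv.ofUnique (Fin 1) Unit).symm).surjective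
  have hk : RingHom.ker (MvPowerSeries.map (σ := Fin 1) (Ideal.Quotient.mk (maximalIdeal A'))) =
      (maximalIdeal A').map MvPowerSeries.C := by rw [ker_map, Ideal.mk_ker]
  have hP' : (P.map (MvPowerSeries.map (Ideal.Quotient.mk (maximalIdeal A')))).IsPrime :=
    Ideal.map_isPrime_of_surjective (map_surjective _ Ideal.Quotient.mk_surjective) (hk ▸ hm)
  have hP0 : P.map (MvPowerSeries.map (Ideal.Quotient.mk (maximalIdeal A'))) ≠ ⊥ := by
    intro h0
    rw [Ideal.map_eq_bot_iff_le_ker, hk] at h0
    exact hb' (h0 hmem)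
  haveI : IsDomain (MvPowerSeries (Fin 1) (A' ⧸ maximalIdeal A')) := NoZeroDivisors.to_isDomain _
  have hmax : (P.map (MvPowerSeries.map (Ideal.Quotient.mk (maximalIdeal A')))).IsMaximal :=
    IsPrime.to_maximal_ideal hP0
  have := Ideal.comap_isMaximal_of_surjective _ (map_surjective (n := 1) _ Ideal.Quotient.mk_surjective)
    (K := P.map (MvPowerSeries.map (Ideal.Quotient.mk (maximalIdeal A'))))
  rw [Ideal.comap_map_of_surjective' _ (map_surjective _ Ideal.Quotient.mk_surjective), hk, sup_eq_left.2 hm] at this
  rw [IsLocalRing.eq_maximalIdeal this]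

end Groth.Agent.RelPure25
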