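import Groth.Agent.Lib.Slice4.Regular
import Groth.Agent.Lib.KoszulFibre4.Fibre
import Mathlib

/-!
# Fibrewise regular sequences under an arbitrary change of the base
-/

set_option autoImplicit false
set_option linter.style.haveILetI false

universe u

open TensorProduct RingTheory.Sequence

noncomputable section

namespace Groth.Agent.RelPure25

/-- Colon ideals commute with flat extensions. -/
theorem mem_map_colon {A E : Type u} [CommRing A] [CommRing E] (φ : A →+* E) (hφ : φ.Flat) (J : Ideal A) (f : A)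
    {x : E} (h : φ f * x ∈ J.map φ) : x ∈ Ideal.map φ (Submodule.comap (LinearMap.mulLeft A f) J) := by
  letI := φ.toAlgebra
  haveI : Module.Flat A E := hφ
  obtain ⟨n, c, g, hg⟩ := Submodule.mem_span_set'.1 (show φ f * x ∈ Submodule.span E (φ '' (J : Set A)) from h)
  choose j hj hjg using fun i => (g i).2
  have hsum : ∑ o : Option (Fin n), (o.elim f fun i => -j i : A) • (o.elim x c : E) = 0 := by
    have h1 : ∀ i, -j i • c i = -(c i • (g i : E)) := fun i => by
      rw [neg_smul, ← hjg i, Algebra.smul_def, RingHom.algebraMap_toAlgebra, smul_eq_mul, mul_comm]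
    rw [Fintype.sum_option]
    simp only [Option.elim_none, Option.elim_some, h1, Finset.sum_neg_distrib, hg]
    rw [Algebra.smul_def, RingHom.algebraMap_toAlgebra, add_neg_cancel]
  obtain ⟨k, a, y, hx, ha⟩ := Module.Flat.isTrivialRelation_of_sum_smul_eq_zero (R := A) (M := E) (ι := Option (Fin n)) (f := fun o => o.elim f fun i => -j i) (x := fun o => o.elim x c) (by convert hsum using 1)
  rw [show x = ∑ l, a none l • y l from hx none]
  refine Ideal.sum_mem _ fun l _ => ?_
  rw [Algebra.smul_def]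
  refine Ideal.mul_mem_right _ _ (Ideal.mem_map_of_mem _ ?_)
  show f * a none l ∈ J
  have h2 := ha l
  rw [Fintype.sum_option] at h2
  simp only [Option.elim_none, Option.elim_some] at h2
  rw [eq_neg_of_add_eq_zero_left h2]
  exact J.neg_mem (J.sum_mem fun i _ => J.mul_mem_right _ (J.neg_mem (hj i)))

variable {R₀ R A₀ A : Type u} [CommRing R₀] [CommRing R] [CommRing A₀] [CommRing A] [Algebra R₀ R] [Algebra R₀ A₀]
  [Algebra R A] [Algebra A₀ A] [Algebra R₀ A] [IsScalarTower R₀ R A] [IsScalarTower R₀ A₀ A]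
  [hP : Algebra.IsPushout R₀ R A₀ A]

/-- The data of a fibre: a flat map from the reduced algebra downstairs, and its contraction upstairs. -/
theorem exists_fibre (q : Ideal A) [q.IsPrime] :
    ∃ (E : Type u) (_ : CommRing E) (θ : A →+* E)
      (σ : A₀ ⧸ ((q.comap (algebraMap A₀ A)).comap (algebraMap R₀ A₀)).map (algebraMap R₀ A₀) →+* E),
      σ.Flat ∧ σ.comp (Ideal.Quotient.mk _) = θ.comp (algebraMap A₀ A) ∧
      (q.comap (algebraMap R A)).map (algebraMap R A) ≤ RingHom.ker θ ∧
      (∀ (I : Ideal A) (x : A), θ x ∈ I.map θ →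
        ∃ r, algebraMap R A r ∉ q ∧ algebraMap R A r * x ∈ (q.comap (algebraMap R A)).map (algebraMap R A) ⊔ I) ∧
      ∃ q' : Ideal E, q'.IsPrime ∧ q'.comap θ = q := by
  classical
  let p := q.comap (algebraMap R A)
  let p₀ := (q.comap (algebraMap A₀ A)).comap (algebraMap R₀ A₀)
  have hp₀ : p.comap (algebraMap R₀ R) = p₀ := by
    simp only [p, p₀, Ideal.comap_comap, ← IsScalarTower.algebraMap_eq]
  let K := p.ResidueField
  let E := K ⊗[R] A
  letI : Algebra A E := Algebra.TensorProduct.includeRight.toRingHom.toAlgebra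
  haveI : IsScalarTower R A E := IsScalarTower.of_algebraMap_eq fun r => by
    show algebraMap R E r = (1 : K) ⊗ₜ algebraMap R A r
    exact (Algebra.TensorProduct.includeRight (R := R) (A := K) (B := A)).commutes r |>.symm
  letI : Algebra A₀ E := ((algebraMap A E).comp (algebraMap A₀ A)).toAlgebra
  haveI : IsScalarTower A₀ A E := IsScalarTower.of_algebraMap_eq fun _ => rfl
  haveI : IsScalarTower R₀ R E := inferInstance
  haveI : IsScalarTower R₀ K E := IsScalarTower.of_algebraMap_eq fun r => by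
    rw [IsScalarTower.algebraMap_apply R₀ R E, IsScalarTower.algebraMap_apply R₀ R K,
      IsScalarTower.algebraMap_apply R K E]
  haveI : IsScalarTower R₀ A₀ E := IsScalarTower.of_algebraMap_eq fun r => by
    show algebraMap R₀ E r = algebraMap A E (algebraMap A₀ A (algebraMap R₀ A₀ r))
    rw [IsScalarTower.algebraMap_apply R₀ R E]
    rw [← IsScalarTower.algebraMap_apply R₀ A₀ A, IsScalarTower.algebraMap_apply R₀ R A,
      ← IsScalarTower.algebraMap_apply R A E]
  haveI : IsScalarTower R₀ A E := IsScalarTower.of_algebraMap_eq fun r => by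
    rw [IsScalarTower.algebraMap_apply R₀ R E, IsScalarTower.algebraMap_apply R₀ R A,
      ← IsScalarTower.algebraMap_apply R A E]
  haveI : Algebra.IsPushout R K A E := inferInstance
  haveI : Algebra.IsPushout R₀ K A₀ E :=
    (Algebra.IsPushout.comp_iff (R := R₀) (S := R) (R' := A₀) (S' := A) (T := K) (T' := E)).2 inferInstance
  have hker : p₀ = RingHom.ker (algebraMap R₀ K) := by
    rw [← hp₀, IsScalarTower.algebraMap_eq R₀ R K, ← RingHom.comap_ker, Ideal.ker_algebraMap_residueField]
  have hkill : p.map (algebraMap R A) ≤ RingHom.ker (algebraMap A E) :=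
    Ideal.map_le_iff_le_comap.2 fun r hr => by
      rw [Ideal.mem_comap, RingHom.mem_ker, ← IsScalarTower.algebraMap_apply,
        IsScalarTower.algebraMap_apply R K E, Ideal.algebraMap_residueField_eq_zero.2 hr, map_zero]
  let σ : A₀ ⧸ p₀.map (algebraMap R₀ A₀) →+* E := Ideal.Quotient.lift _ (algebraMap A₀ E) (fun a ha => by
    refine (show p₀.map (algebraMap R₀ A₀) ≤ RingHom.ker (algebraMap A₀ E) from Ideal.map_le_iff_le_comap.2
      fun r hr => ?_) ha
    rw [Ideal.mem_comap, RingHom.mem_ker, ← IsScalarTower.algebraMap_apply, IsScalarTower.algebraMap_apply R₀ K E]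
    rw [hker, RingHom.mem_ker] at hr
    rw [hr, map_zero])
  -- the localized reduction upstairs
  let Ab := A ⧸ p.map (algebraMap R A)
  let π : A →+* Ab := Ideal.Quotient.mk _
  let S : Submonoid Ab := p.primeCompl.map (π.comp (algebraMap R A))
  let M := Localization S
  let ρ : R →+* M := (algebraMap Ab M).comp (π.comp (algebraMap R A))
  let ρK : K →+* M := Ideal.ResidueField.lift p ρ (fun r hr => by
      show algebraMap Ab M (π (algebraMap R A r)) = 0
      rw [show π (algebraMap R A r) = 0 from Ideal.Quotient.eq_zero_iff_mem.2 (Ideal.mem_map_of_mem _ hr), map_zero])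
    (fun r hr => IsLocalization.map_units M (⟨_, Submonoid.mem_map_of_mem _ hr⟩ : S))
  let hK : K →ₐ[R] M := { ρK with commutes' := fun r => (Ideal.ResidueField.lift_algebraMap _ _ _ _ r).trans rfl }
  let hA : A →ₐ[R] M := { (algebraMap Ab M).comp π with commutes' := fun r => rfl }
  let h : E →ₐ[R] M := Algebra.TensorProduct.lift hK hA fun a b => mul_comm _ _
  have hh : ∀ a, h (algebraMap A E a) = algebraMap Ab M (π a) := fun a => by
    show Algebra.TensorProduct.lift hK hA (fun a b => mul_comm _ _) ((1 : K) ⊗ₜ[R] a) = _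
    rw [Algebra.TensorProduct.lift_tmul, map_one, one_mul]
    rfl
  refine ⟨E, inferInstance, algebraMap A E, σ,
    KoszulFibre4.flat_lift_of_isPushout (K := K) (A := A₀) (A' := E) p₀ hker σ rfl, rfl, hkill, ?_, ?_⟩
  · intro I x hx
    have h1 := Ideal.mem_map_of_mem h.toRingHom hx
    rw [Ideal.map_map, show (h.toRingHom.comp (algebraMap A E)) = (algebraMap Ab M).comp π from RingHom.ext hh,
      ← Ideal.map_map, show h.toRingHom (algebraMap A E x) = algebraMap Ab M (π x) from hh x] at h1
    obtain ⟨s, hs, hsx⟩ := (CI2.mem_map_localization S).1 h1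
    obtain ⟨r, hr, rfl⟩ := Submonoid.mem_map.1 hs
    refine ⟨r, hr, ?_⟩
    rw [RingHom.comp_apply, ← map_mul, Ideal.mem_quotient_iff_mem_sup, sup_comm] at hsx
    exact hsx
  · let qb : Ideal Ab := q.map π
    have hle : p.map (algebraMap R A) ≤ q := Ideal.map_comap_le
    haveI : qb.IsPrime := Ideal.map_isPrime_of_surjective Ideal.Quotient.mk_surjective (by rwa [Ideal.mk_ker])
    have hqb : qb.comap π = q := by
      rw [Ideal.comap_map_of_surjective _ Ideal.Quotient.mk_surjective, ← RingHom.ker_eq_comap_bot, Ideal.mk_ker,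
        sup_eq_left.2 hle]
    have hdis : Disjoint (S : Set Ab) (qb : Set Ab) := Set.disjoint_left.2 fun s hs hsq => by
      obtain ⟨r, hr, rfl⟩ := Submonoid.mem_map.1 hs
      exact hr (show algebraMap R A r ∈ q from hqb.le hsq)
    haveI := IsLocalization.isPrime_of_isPrime_disjoint S M qb inferInstance hdis
    refine ⟨(qb.map (algebraMap Ab M)).comap h.toRingHom, inferInstance, ?_⟩
    rw [Ideal.comap_comap, show (h.toRingHom.comp (algebraMap A E)) = (algebraMap Ab M).comp π from RingHom.ext hh,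
      ← Ideal.comap_comap]
    rw [show (qb.map (algebraMap Ab M)).comap (algebraMap Ab M) = qb from
      IsLocalization.comap_map_of_isPrime_disjoint S M inferInstance hdis, hqb]

/-- Fibrewise regularity is inherited by base change. -/
theorem fibReg_baseChange (q : Ideal A) [q.IsPrime] (fs : List A₀)
    (h : KoszulFibre4.FibReg (q.comap (algebraMap A₀ A)) R₀ fs) :
    KoszulFibre4.FibReg q R (fs.map (algebraMap A₀ A)) := by
  classical
  obtain ⟨E, _, θ, σ, hσ, hσθ, hkill, hloc, -⟩ := exists_fibre (R₀ := R₀) (R := R) (A₀ := A₀) q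
  intro j hj b t ht hmem
  rw [List.getElem_map, ← List.map_take, ← Ideal.map_ofList] at hmem
  simp only [List.length_map] at hj
  rw [← List.map_take, ← Ideal.map_ofList]
  let q₀ := q.comap (algebraMap A₀ A)
  let P₀ := (q₀.comap (algebraMap R₀ A₀)).map (algebraMap R₀ A₀)
  let I₀ := Ideal.ofList (fs.take j)
  let mk := Ideal.Quotient.mk P₀
  have hI : (I₀.map (algebraMap A₀ A)).map θ = (I₀.map mk).map σ := by
    rw [Ideal.map_map, Ideal.map_map, hσθ]
  have hmem' : σ (mk fs[j]) * θ (t * b) ∈ (I₀.map mk).map σ := by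
    rw [← hI, show σ (mk fs[j]) = θ (algebraMap A₀ A fs[j]) from RingHom.congr_fun hσθ _, ← map_mul]
    obtain ⟨u, hu, v, hv, huv⟩ := Submodule.mem_sup.1 hmem
    have e : algebraMap A₀ A fs[j] * (t * b) = u + v := by rw [huv]; ring
    rw [e, map_add, RingHom.mem_ker.1 (hkill hu), zero_add]
    exact Ideal.mem_map_of_mem _ hv
  obtain ⟨n, c, g, hg⟩ := Submodule.mem_span_set'.1
    (show θ (t * b) ∈ Submodule.span E (σ '' _) from mem_map_colon σ hσ _ _ hmem')
  choose a ha hag using fun i => (g i).2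
  choose a' ha' using fun i => Ideal.Quotient.mk_surjective (a i)
  have key : ∀ i, ∃ s ∉ q₀, s * a' i ∈ P₀ ⊔ I₀ := fun i => h j hj (a' i) 1
    (fun h1 => (Ideal.IsPrime.ne_top inferInstance : q₀ ≠ ⊤) ((Ideal.eq_top_iff_one _).2 h1)) (by
      have h1 : mk fs[j] * a i ∈ I₀.map mk := Submodule.mem_comap.1 (ha i)
      rw [← ha' i, ← map_mul, Ideal.mem_quotient_iff_mem_sup, sup_comm] at h1
      rw [one_mul]; exact h1)
  choose s hs hsa using key
  let T := ∏ i, s i
  have hT : T ∉ q₀ := fun hc => by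
    obtain ⟨i, -, hi⟩ := (Ideal.IsPrime.prod_mem_iff (hp := (inferInstance : q₀.IsPrime))).1 hc
    exact hs i hi
  have h3 : θ (algebraMap A₀ A T * (t * b)) ∈ (I₀.map (algebraMap A₀ A)).map θ := by
    rw [map_mul, ← hg, Finset.mul_sum, hI]
    refine Ideal.sum_mem _ fun i _ => ?_
    rw [smul_eq_mul, mul_left_comm, ← hag i, show θ (algebraMap A₀ A T) = σ (mk T) from (RingHom.congr_fun hσθ T).symm]
    refine Ideal.mul_mem_left _ _ ?_
    rw [← ha' i, ← map_mul, ← map_mul]
    refine Ideal.mem_map_of_mem _ ?_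
    rw [Ideal.mem_quotient_iff_mem_sup, sup_comm]
    obtain ⟨w, hw⟩ : s i ∣ T := Finset.dvd_prod_of_mem s (Finset.mem_univ i)
    rw [hw, mul_right_comm]
    exact Ideal.mul_mem_right _ _ (hsa i)
  obtain ⟨r, hr, hrx⟩ := hloc _ _ h3
  refine ⟨algebraMap R A r * algebraMap A₀ A T * t, fun hc => ?_, by convert hrx using 1; ring⟩
  rcases Ideal.IsPrime.mem_or_mem inferInstance hc with hc | hc
  · exact (Ideal.IsPrime.mem_or_mem inferInstance hc).elim hr hT
  · exact ht hc

/-- Fibrewise regularity descends along base change. -/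
theorem fibReg_descend (q : Ideal A) [q.IsPrime] (fs : List A₀)
    (h : KoszulFibre4.FibReg q R (fs.map (algebraMap A₀ A))) :
    KoszulFibre4.FibReg (q.comap (algebraMap A₀ A)) R₀ fs := by
  obtain ⟨E, _, θ, σ, hσ, hσθ, hkill, -, q', hq', hq'θ⟩ := exists_fibre (R₀ := R₀) (R := R) (A₀ := A₀) q
  intro j hj b t ht hmem
  let q₀ := q.comap (algebraMap A₀ A)
  let P₀ := (q₀.comap (algebraMap R₀ A₀)).map (algebraMap R₀ A₀)
  let I₀ := Ideal.ofList (fs.take j)
  let mk := Ideal.Quotient.mk P₀
  have hP₀ : P₀.map (algebraMap A₀ A) ≤ (q.comap (algebraMap R A)).map (algebraMap R A) := by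
    rw [Ideal.map_map, ← IsScalarTower.algebraMap_eq, IsScalarTower.algebraMap_eq R₀ R A, ← Ideal.map_map]
    refine Ideal.map_mono (Ideal.map_le_iff_le_comap.2 ?_)
    simp only [q₀, Ideal.comap_comap, ← IsScalarTower.algebraMap_eq]
    exact le_rfl
  have hup := Ideal.mem_map_of_mem (algebraMap A₀ A) hmem
  rw [Ideal.map_sup, map_mul, map_mul] at hup
  obtain ⟨s, hs, hsb⟩ := h j (by simpa using hj) (algebraMap A₀ A b) (algebraMap A₀ A t) ht (by
    rw [List.getElem_map, ← List.map_take, ← Ideal.map_ofList]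
    exact sup_le_sup_right hP₀ _ hup)
  rw [← List.map_take, ← Ideal.map_ofList] at hsb
  have hI : (I₀.map (algebraMap A₀ A)).map θ = (I₀.map mk).map σ := by
    rw [Ideal.map_map, Ideal.map_map, hσθ]
  have h1 : σ (mk b) * θ s ∈ (I₀.map mk).map σ := by
    rw [← hI, show σ (mk b) = θ (algebraMap A₀ A b) from RingHom.congr_fun hσθ _, ← map_mul, mul_comm]
    obtain ⟨u, hu, v, hv, huv⟩ := Submodule.mem_sup.1 hsb
    rw [← huv, map_add, RingHom.mem_ker.1 (hkill hu), zero_add]
    exact Ideal.mem_map_of_mem _ hv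
  have h2 := mem_map_colon σ hσ _ _ h1
  by_contra hcon
  push Not at hcon
  have h3 : Submodule.comap (LinearMap.mulLeft (A₀ ⧸ P₀) (mk b)) (I₀.map mk) ≤ q'.comap σ := by
    intro a ha
    obtain ⟨a, rfl⟩ := Ideal.Quotient.mk_surjective a
    by_contra ha'
    refine hcon a (fun hq => ha' ?_) ?_
    · show σ (mk a) ∈ q'
      rw [show σ (mk a) = θ (algebraMap A₀ A a) from RingHom.congr_fun hσθ _]
      exact hq'θ.ge hq
    · have : mk b * mk a ∈ I₀.map mk := ha
      rw [← map_mul, Ideal.mem_quotient_iff_mem_sup, sup_comm, mul_comm] at this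
      exact this
  exact hs (hq'θ.le (Ideal.map_le_iff_le_comap.2 h3 h2))

variable [Algebra.FinitePresentation R A] [Module.Flat R A]

/-- Fibrewise regularity is open along the zero locus of the sequence. -/
theorem fibReg_open (q : Ideal A) [q.IsPrime] (fs : List A) (hq : Ideal.ofList fs ≤ q)
    (h : KoszulFibre4.FibReg q R fs) :
    ∃ G ∉ q, ∀ (y : Ideal A) [y.IsPrime], G ∉ y → Ideal.ofList fs ≤ y → KoszulFibre4.FibReg y R fs := by
  obtain ⟨G, hG, hdata⟩ := Slice4.exists_regular_flat_away q fs hq h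
  refine ⟨G, hG, fun y _ hy _ => ?_⟩
  let B := Localization.Away G
  obtain ⟨hwr, hfl⟩ := hdata G dvd_rfl B
  let p := y.comap (algebraMap R A)
  let B' := B ⧸ p.map (algebraMap R B)
  have hreg : IsWeaklyRegular B' ((fs.map (algebraMap A B)).map (algebraMap B B')) := by
    letI : Algebra B ((R ⧸ p) ⊗[R] B) := Algebra.TensorProduct.rightAlgebra
    haveI : Algebra.IsPushout R (R ⧸ p) B B' :=
      Algebra.IsPushout.of_equiv (Algebra.TensorProduct.quotIdealMapEquivQuotTensor B p).symm
        (RingHom.ext fun x => (Algebra.TensorProduct.quotIdealMapEquivQuotTensor B p).symm_apply_eq.2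
          (Algebra.TensorProduct.quotIdealMapEquivQuotTensor_mk B p x).symm)
    exact Slice4.isWeaklyRegular_pushout (R := R) (R' := R ⧸ p) _ (fun j hj => hfl j (by simpa using hj)) hwr
  let τ : A →+* B' := (algebraMap B B').comp (algebraMap A B)
  intro j hj b t ht hmem
  have hτ : ∀ x, τ x ∈ (Ideal.ofList (fs.take j)).map τ → ∃ n : ℕ, G ^ n * x ∈ p.map (algebraMap R A) ⊔ Ideal.ofList (fs.take j) := by
    intro x hx
    rw [← Ideal.map_map, show algebraMap B B' = Ideal.Quotient.mk (p.map (algebraMap R B)) from rfl,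
      show τ x = Ideal.Quotient.mk (p.map (algebraMap R B)) (algebraMap A B x) from rfl,
      Ideal.mem_quotient_iff_mem_sup, IsScalarTower.algebraMap_eq R A B, ← Ideal.map_map, ← Ideal.map_sup,
      CI2.mem_map_localization (Submonoid.powers G), sup_comm] at hx
    obtain ⟨_, ⟨n, rfl⟩, hn⟩ := hx
    exact ⟨n, hn⟩
  have h1 := (EmbDef.isWeaklyRegular_self_iff _).mp hreg j (by simpa using hj) (τ (t * b)) (by
    rw [List.getElem_map, List.getElem_map, ← List.map_take, ← List.map_take, ← Ideal.map_ofList, ← Ideal.map_ofList,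
      Ideal.map_map, show algebraMap B B' (algebraMap A B fs[j]) = τ fs[j] from rfl, ← map_mul]
    have h2 := Ideal.mem_map_of_mem τ hmem
    rw [Ideal.map_sup, Ideal.map_map (algebraMap R A) τ,
      show τ.comp (algebraMap R A) = (algebraMap B B').comp (algebraMap R B) from by
        rw [RingHom.comp_assoc, ← IsScalarTower.algebraMap_eq], ← Ideal.map_map,
      show (p.map (algebraMap R B)).map (algebraMap B B') = ⊥ from Ideal.map_quotient_self _, bot_sup_eq] at h2
    convert h2 using 2; ring)
  rw [← List.map_take, ← List.map_take, ← Ideal.map_ofList, ← Ideal.map_ofList, Ideal.map_map] at h1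
  obtain ⟨n, hn⟩ := hτ _ h1
  refine ⟨G ^ n * t, fun hc => ?_, by rwa [mul_assoc]⟩
  rcases Ideal.IsPrime.mem_or_mem inferInstance hc with hc | hc
  · exact hy (Ideal.IsPrime.mem_of_pow_mem inferInstance n hc)
  · exact ht hc

end Groth.Agent.RelPure25
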