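import Groth.Agent.Lib.RelPure25.FibSeq
import Groth.Agent.Lib.RelPure25.Stalk
import Groth.Agent.Lib.Hartogs3.Normal
import Groth.Agent.Lib.SecDiv18.Regular
import Groth.Agent.Lib.RegLoc.Basic
import Groth.Agent.Lib.RegLoc.GlobalDim
import Groth.Agent.Lib.RegLoc.UFD
import Groth.Agent.Lib.Depth.CM
import Groth.Agent.Lib.KoszulFibre4.Locus

/-!
# Fibrewise regular pairs at points of codimension two in their fibres
-/

set_option autoImplicit false
set_option linter.style.haveILetI false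
set_option backward.isDefEq.respectTransparency false

universe u

open CategoryTheory AlgebraicGeometry RingTheory.Sequence IsLocalRing

noncomputable section

namespace Groth.Agent.RelPure25

variable {X S : Scheme.{u}} (f : X ⟶ S)

/-- The ring of sections mapping to the stalk of a fibre. -/
def toFibre {V : X.Opens} {y : S} (z : f.fiber y) (hz : f.fiberι y z ∈ V) :
    Γ(X, V) →+* (f.fiber y).presheaf.stalk z :=
  ((f.fiberι y).stalkMap z).hom.comp (X.presheaf.germ V (f.fiberι y z) hz).hom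

theorem map_σ {x : X} {y' : S} (h : f x ⤳ y') (he : f x = y') :
    (maximalIdeal (S.presheaf.stalk y')).map (DivDesc12.σ f x h) =
      (maximalIdeal (S.presheaf.stalk (f x))).map (f.stalkMap x).hom := by
  subst he
  refine congrArg₂ Ideal.map (RingHom.ext fun a => ?_) rfl
  show f.stalkMap x (DivDesc12.sp h a) = _
  rw [DivDesc12.sp_self]

variable {W : S.Opens} (hW : IsAffineOpen W) {V : X.Opens} (hV : IsAffineOpen V) (hVW : V ≤ f ⁻¹ᵁ W)
  {y : S} (z : f.fiber y) (hz : f.fiberι y z ∈ V)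

include hW hV hVW in
theorem exists_toFibre :
    (∀ l, ∃ a t, t ∉ (hV.primeIdealOf ⟨_, hz⟩).asIdeal ∧ l * toFibre f z hz t = toFibre f z hz a) ∧
    (∀ t, t ∉ (hV.primeIdealOf ⟨_, hz⟩).asIdeal ↔ IsUnit (toFibre f z hz t)) ∧
    (∀ (I : Ideal Γ(X, V)) (b : Γ(X, V)), toFibre f z hz b ∈ I.map (toFibre f z hz) ↔
      ∃ s ∉ (hV.primeIdealOf ⟨_, hz⟩).asIdeal, s * b ∈
        ((hV.primeIdealOf ⟨_, hz⟩).asIdeal.comap (f.appLE W V hVW).hom).map (f.appLE W V hVW).hom ⊔ I) := by
  let q := (hV.primeIdealOf ⟨_, hz⟩).asIdeal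
  letI := X.presheaf.algebra_section_stalk (U := V) ⟨f.fiberι y z, hz⟩
  haveI : IsLocalization.AtPrime (X.presheaf.stalk (f.fiberι y z)) q := hV.isLocalization_stalk ⟨_, hz⟩
  let g : Γ(X, V) →+* X.presheaf.stalk (f.fiberι y z) := (X.presheaf.germ V (f.fiberι y z) hz).hom
  let k := ((f.fiberι y).stalkMap z).hom
  have hks : Function.Surjective k := (f.fiberι y).stalkMap_surjective z
  have hxy : f (f.fiberι y z) = y := by
    show (f.fiberι y ≫ f) z = y
    have h1 : (f.fiberι y ≫ f) = f.fiberToSpecResidueField y ≫ S.fromSpecResidueField y := Limits.pullback.condition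
    rw [h1]
    exact S.fromSpecResidueField_apply y _
  have hkk : RingHom.ker k =
      (((q.comap (f.appLE W V hVW).hom).map (f.appLE W V hVW).hom)).map g := by
    rw [show g = (X.presheaf.germ V (f.fiberι y z) hz).hom from rfl, ← CMSlice4.map_maximalIdeal_stalkMap f hW hV hVW hz,
      ← map_σ f (y' := y) (by rw [hxy]) hxy]
    exact Ideal.ext fun b => DivDesc12.stalkMap_fiberι_eq_zero_iff f _ hxy (by rw [hxy]) z rfl b
  refine ⟨fun l => ?_, fun t => ?_, fun I b => ?_⟩
  · obtain ⟨r, rfl⟩ := hks l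
    obtain ⟨⟨a, t⟩, h⟩ := IsLocalization.surj q.primeCompl r
    exact ⟨a, t, t.2, (map_mul k _ _).symm.trans (congrArg k h)⟩
  · haveI : IsLocalHom k := IsLocalHom.of_surjective k hks
    show t ∈ q.primeCompl ↔ IsUnit (k (g t))
    rw [isUnit_map_iff]
    exact ⟨fun h => IsLocalization.map_units (X.presheaf.stalk (f.fiberι y z)) (⟨t, h⟩ : q.primeCompl),
      fun h hq => (IsLocalization.AtPrime.to_map_mem_maximal_iff (X.presheaf.stalk (f.fiberι y z)) q t).2 hq h⟩
  · show k (g b) ∈ I.map (k.comp g) ↔ _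
    rw [← Ideal.map_map, ← Ideal.mem_comap, Ideal.comap_map_of_surjective k hks, ← RingHom.ker_eq_comap_bot, hkk,
      ← Ideal.map_sup, show g = algebraMap Γ(X, V) (X.presheaf.stalk (f.fiberι y z)) from rfl,
      CI2.mem_map_localization q.primeCompl, sup_comm]
    rfl

include hW in
/-- A fibrewise regular pair gives local dimension at least two in the fibre. -/
theorem two_le_ringKrullDim_of_fibReg [Smooth f] (a b : Γ(X, V))
    (hab : Ideal.ofList [a, b] ≤ (hV.primeIdealOf ⟨_, hz⟩).asIdeal)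
    (h : letI := (f.appLE W V hVW).hom.toAlgebra
      KoszulFibre4.FibReg (hV.primeIdealOf ⟨_, hz⟩).asIdeal Γ(S, W) [a, b]) :
    2 ≤ ringKrullDim ((f.fiber y).presheaf.stalk z) := by
  letI := (f.appLE W V hVW).hom.toAlgebra
  obtain ⟨hsurj, hunit, hmem⟩ := exists_toFibre f hW hV hVW z hz
  haveI : Smooth (f.fiberToSpecResidueField y) := MorphismProperty.pullback_snd _ _ inferInstance
  haveI : IsRegularLocalRing ((f.fiber y).presheaf.stalk z) :=
    SmoothReg17.isRegularLocalRing_stalk (f.fiberToSpecResidueField y) z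
  let θ := toFibre f z hz
  have hwr : IsWeaklyRegular ((f.fiber y).presheaf.stalk z) ([a, b].map θ) := by
    refine (EmbDef.isWeaklyRegular_self_iff _).mpr fun j hj l hl => ?_
    obtain ⟨c, t, ht, htl⟩ := hsurj l
    rw [← List.map_take, ← Ideal.map_ofList] at hl ⊢
    have h1 : θ ([a, b][j]'(by simpa using hj) * c) ∈ (Ideal.ofList ([a, b].take j)).map θ := by
      rw [map_mul, ← htl, ← mul_assoc]
      refine Ideal.mul_mem_right _ _ ?_
      rw [List.getElem_map] at hl
      convert hl using 1; ring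
    obtain ⟨s, hs, hsc⟩ := (hmem _ _).1 h1
    obtain ⟨s', hs', hs'c⟩ := h j (by simpa using hj) c s hs (by rw [mul_assoc]; exact hsc)
    have h2 := (hmem (Ideal.ofList ([a, b].take j)) c).2 ⟨s', hs', hs'c⟩
    rw [← htl] at h2
    exact (Ideal.mul_unit_mem_iff_mem _ ((hunit t).1 ht)).1 h2
  have hm : ∀ r ∈ [a, b].map θ, r ∈ maximalIdeal ((f.fiber y).presheaf.stalk z) := by
    intro r hr
    obtain ⟨c, hc, rfl⟩ := List.mem_map.1 hr
    exact fun hu => (hunit c).2 hu (hab (Ideal.subset_span hc))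
  have h2 := DepthLib.length_le_idealDepth hwr hm
  have h3 : (2 : ℕ∞) ≤ LocCoh.depth ((f.fiber y).presheaf.stalk z) ((f.fiber y).presheaf.stalk z) := by
    refine le_trans ?_ h2
    simp
  rw [← Module.supportDim_self_eq_ringKrullDim]
  exact le_trans (WithBot.coe_le_coe.2 h3 : ((2 : ℕ∞) : WithBot ℕ∞) ≤ _) DepthLib.depth_le_supportDim

include hW hVW in
/-- A point of codimension two in its fibre outside an open has a fibrewise regular pair vanishing off the open. -/
theorem exists_fibReg_of_codim [Smooth f] (U : X.Opens)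
    (hU : ∀ w : f.fiber y, f.fiberι y w ∉ U → 2 ≤ ringKrullDim ((f.fiber y).presheaf.stalk w))
    (hzU : f.fiberι y z ∉ U) :
    ∃ a b : Γ(X, V), X.basicOpen a ≤ U ∧ X.basicOpen b ≤ U ∧
      Ideal.ofList [a, b] ≤ (hV.primeIdealOf ⟨_, hz⟩).asIdeal ∧
      (letI := (f.appLE W V hVW).hom.toAlgebra
       KoszulFibre4.FibReg (hV.primeIdealOf ⟨_, hz⟩).asIdeal Γ(S, W) [a, b]) := by
  classical
  letI := (f.appLE W V hVW).hom.toAlgebra
  obtain ⟨hsurj, hunit, hmem⟩ := exists_toFibre f hW hV hVW z hz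
  haveI : Smooth (f.fiberToSpecResidueField y) := MorphismProperty.pullback_snd _ _ inferInstance
  let L := (f.fiber y).presheaf.stalk z
  haveI : IsRegularLocalRing L := SmoothReg17.isRegularLocalRing_stalk (f.fiberToSpecResidueField y) z
  let θ : Γ(X, V) →+* L := toFibre f z hz
  let C : Set (PrimeSpectrum Γ(X, V)) := hV.fromSpec ⁻¹' (U : Set X)ᶜ
  have hC : IsClosed C := U.2.isClosed_compl.preimage hV.fromSpec.continuous
  let J := PrimeSpectrum.vanishingIdeal C
  have hJC : PrimeSpectrum.zeroLocus (J : Set Γ(X, V)) = C := by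
    rw [PrimeSpectrum.zeroLocus_vanishingIdeal_eq_closure, hC.closure_eq]
  have hJU : ∀ g ∈ J, X.basicOpen g ≤ U := by
    intro g hg x hx
    have hxV : x ∈ V := X.basicOpen_le g hx
    by_contra hxU
    have h1 : hV.primeIdealOf ⟨x, hxV⟩ ∈ C := by
      show hV.fromSpec (hV.primeIdealOf ⟨x, hxV⟩) ∉ U
      rw [hV.fromSpec_primeIdealOf]; exact hxU
    exact (KoszulFibre4.mem_basicOpen_iff hV g ⟨x, hxV⟩).1 hx ((PrimeSpectrum.mem_vanishingIdeal _ _).1 hg _ h1)
  have hJq : J ≤ (hV.primeIdealOf ⟨_, hz⟩).asIdeal := fun g hg => by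
    refine (PrimeSpectrum.mem_vanishingIdeal _ _).1 hg _ ?_
    show hV.fromSpec (hV.primeIdealOf ⟨_, hz⟩) ∉ U
    rw [hV.fromSpec_primeIdealOf]; exact hzU
  have hmap : (f.fiber y).fromSpecStalk z ≫ f.fiberι y = Spec.map (CommRingCat.ofHom θ) ≫ hV.fromSpec := by
    rw [← Scheme.SpecMap_stalkMap_fromSpecStalk, ← hV.fromSpecStalk_eq_fromSpecStalk hz]
    show Spec.map ((f.fiberι y).stalkMap z) ≫ Spec.map (X.presheaf.germ V (f.fiberι y z) hz) ≫ hV.fromSpec = _
    rw [← Category.assoc, ← Spec.map_comp]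
    rfl
  have hht : ∀ P : Ideal L, P.IsPrime → J.map θ ≤ P → (2 : ℕ∞) ≤ P.height := by
    intro P hP hJP
    let P' : PrimeSpectrum L := ⟨P, hP⟩
    let e := (f.fiber y).fromSpecStalk z
    have hw : f.fiberι y (e P') ∉ U := by
      rw [← Scheme.Hom.comp_apply, hmap, Scheme.Hom.comp_apply]
      show hV.fromSpec (PrimeSpectrum.comap θ P') ∈ (U : Set X)ᶜ
      show PrimeSpectrum.comap θ P' ∈ C
      rw [← hJC]
      exact fun g hg => hJP (Ideal.mem_map_of_mem θ hg)
    have h2 := hU _ hw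
    rw [ringKrullDim_stalk_eq_coheight] at h2
    obtain ⟨c, hc0, hc1⟩ := Order.exists_series_of_le_coheight (e P') (n := 2) (WithBot.coe_le_coe.1 h2)
    have hch : ∀ i, ∃ Q : PrimeSpectrum L, e Q = c i := fun i => by
      have h3 : c i ⤳ z := by
        refine (show c i ⤳ e P' from ?_).trans ?_
        · rw [← hc0]; exact c.monotone (Fin.zero_le i)
        · exact (IsLocalRing.specializes_closedPoint (R := L) P').map e.continuous |>.trans
            (specializes_of_eq Scheme.fromSpecStalk_closedPoint)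
      have h4 : c i ∈ Set.range e := by rw [Scheme.range_fromSpecStalk]; exact h3
      exact h4
    choose Q hQ using hch
    have hlt : ∀ i j, i < j → (Q j).asIdeal < (Q i).asIdeal := fun i j hij => by
      have h3 : c i < c j := c.strictMono hij
      have h4 : Q j ⤳ Q i := by
        rw [← e.isEmbedding.isInducing.specializes_iff, hQ, hQ]; exact h3.le
      refine lt_of_le_of_ne ((PrimeSpectrum.le_iff_specializes _ _).2 h4) fun heq => h3.ne ?_
      rw [← hQ, ← hQ, PrimeSpectrum.ext heq]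
    have h0 : (Q 0).asIdeal = P := by
      have h5 : e (Q 0) = e P' := (hQ 0).trans hc0
      exact congrArg PrimeSpectrum.asIdeal (e.isEmbedding.injective h5)
    have hne1 : (0 : Fin (c.length + 1)) < ⟨1, by omega⟩ := by
      show (0 : ℕ) < 1; omega
    have hne2 : (⟨1, by omega⟩ : Fin (c.length + 1)) < ⟨2, by omega⟩ := by
      show (1 : ℕ) < 2; omega
    have k1 := Ideal.height_add_one_le_of_lt_of_isPrime (hlt _ _ hne2)
    have k2 := Ideal.height_add_one_le_of_lt_of_isPrime (hlt _ _ hne1)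
    rw [h0] at k2
    calc (2 : ℕ∞) ≤ (Q ⟨2, by omega⟩).asIdeal.height + 1 + 1 := by
          rw [add_assoc]; exact le_add_left (by norm_num)
      _ ≤ (Q ⟨1, by omega⟩).asIdeal.height + 1 := by gcongr
      _ ≤ P.height := k2
  have hloc : ∀ (P : Ideal L) [P.IsPrime], IsDomain (Localization.AtPrime P) ∧
      IsIntegrallyClosed (Localization.AtPrime P) := by
    intro P _
    haveI := RegLoc.isRegularLocalRing_localization L P
    haveI := RegLoc.isDomain (Localization.AtPrime P)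
    haveI := RegLoc.ufd_of_isRegularLocalRing (Localization.AtPrime P)
    exact ⟨inferInstance, inferInstance⟩
  obtain ⟨x, hx, x', hx', hxreg, hxx'⟩ := Hartogs3.exists_pair (J.map θ) hloc hht
  obtain ⟨a, t, ht, hta⟩ := hsurj x
  obtain ⟨b, t', ht', htb⟩ := hsurj x'
  have hlift : ∀ (x : L) (a t : Γ(X, V)), x ∈ J.map θ → t ∉ (hV.primeIdealOf ⟨_, hz⟩).asIdeal → x * θ t = θ a →
      ∃ a' t', t' ∉ (hV.primeIdealOf ⟨_, hz⟩).asIdeal ∧ a' ∈ J ∧ x * θ t' = θ a' := by
    intro x a t hx ht hta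
    have h1 : θ a ∈ J.map θ := hta ▸ Ideal.mul_mem_right _ _ hx
    obtain ⟨s, hs, hsa⟩ := (hmem J a).1 h1
    obtain ⟨u, hu, v, hv, huv⟩ := Submodule.mem_sup.1 hsa
    refine ⟨v, t * s, fun hc => ((Ideal.IsPrime.mem_or_mem inferInstance hc).elim ht hs), hv, ?_⟩
    have h2 : θ u = 0 := by
      have h3 := (hmem ⊥ u).2 ⟨1, fun h => (Ideal.IsPrime.ne_top inferInstance :
        (hV.primeIdealOf ⟨_, hz⟩).asIdeal ≠ ⊤) ((Ideal.eq_top_iff_one _).2 h), by rw [one_mul, sup_bot_eq]; exact hu⟩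
      rwa [Ideal.map_bot, Ideal.mem_bot] at h3
    rw [map_mul, ← mul_assoc, hta, ← map_mul, mul_comm, ← huv, map_add, h2, zero_add]
  obtain ⟨a', s, hs, ha', hsa⟩ := hlift x a t hx ht hta
  obtain ⟨b', s', hs', hb', hsb⟩ := hlift x' b t' hx' ht' htb
  have hle : Ideal.ofList [a', b'] ≤ (hV.primeIdealOf ⟨_, hz⟩).asIdeal := by
    refine Ideal.span_le.2 fun g hg => hJq ?_
    rcases List.mem_cons.1 hg with rfl | hg
    · exact ha'
    · rwa [List.mem_singleton.1 hg]
  refine ⟨a', b', hJU a' ha', hJU b' hb', hle, ?_⟩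
  obtain ⟨u, hu⟩ := (hunit s).1 hs
  obtain ⟨u', hu'⟩ := (hunit s').1 hs'
  intro j hj c r hr hmem'
  have h1 : θ ([a', b'][j] * c) ∈ (Ideal.ofList ([a', b'].take j)).map θ :=
    (hmem _ _).2 ⟨r, hr, by rw [← mul_assoc]; exact hmem'⟩
  apply (hmem _ _).1
  match j, hj with
  | 0, _ =>
    simp only [List.take_zero, Ideal.ofList_nil, Ideal.map_bot, Ideal.mem_bot] at h1 ⊢
    refine hxreg _ ?_
    have h3 : θ (a' * c) = 0 := h1
    rw [map_mul, ← hsa, ← hu] at h3
    have h4 : (u : L) * (x * θ c) = 0 := by rw [← h3]; ring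
    exact (Units.mul_right_eq_zero u).1 h4
  | 1, _ =>
    simp only [List.take_succ_cons, List.take_zero, Ideal.ofList_singleton, Ideal.map_span, Set.image_singleton,
      Ideal.mem_span_singleton] at h1 ⊢
    have hxu : θ a' = x * u := by rw [hu]; exact hsa.symm
    have h3 : θ a' ∣ θ (b' * c) := h1
    show θ a' ∣ θ c
    rw [hxu, Units.mul_right_dvd] at h3 ⊢
    refine hxx' _ ?_
    rw [map_mul, ← hsb, ← hu', mul_comm x', mul_assoc] at h3
    exact (Units.dvd_mul_left (u := u')).1 h3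

end Groth.Agent.RelPure25
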