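import Groth.Agent.Lib.RelPure25.Sections
import Groth.Agent.Lib.Pur25.Regular
import Groth.Agent.Lib.Hens.Local
import Groth.Agent.Lib.Compl.Complete

/-!
# Finite étale covers of strictly henselian local rings are split
-/

set_option autoImplicit false
set_option linter.style.haveILetI false

universe u

open CategoryTheory CategoryTheory.Limits AlgebraicGeometry TopologicalSpace

noncomputable section

namespace Groth.Agent.RelPure25

/-- Splitting only depends on the isomorphism class. -/
theorem SplitBy.of_iso {V V' U : Scheme.{u}} {v : V ⟶ U} {v' : V' ⟶ U} (h : SplitBy v) (e : V ≅ V')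
    (he : e.hom ≫ v' = v) : SplitBy v' := by
  obtain ⟨ι, hι, τ, hτ, hinj, hsurj⟩ := h
  refine ⟨ι, hι, fun t => τ t ≫ e.hom, fun t => by rw [Category.assoc, he, hτ], fun t t' x x' hx => ?_,
    fun z => ?_⟩
  · exact hinj t t' x x' (e.hom.isOpenEmbedding.injective (by rwa [← Scheme.Hom.comp_apply, ← Scheme.Hom.comp_apply]))
  · obtain ⟨t, x, hx⟩ := hsurj (e.inv z)
    refine ⟨t, x, ?_⟩
    rw [Scheme.Hom.comp_apply, hx, ← Scheme.Hom.comp_apply, e.inv_hom_id]
    rfl

/-- Finite étale algebras over strictly henselian local rings are split. -/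
theorem splitBy_spec (C : Type u) [CommRing C] [HenselianLocalRing C] [IsAlgClosed (IsLocalRing.ResidueField C)]
    (B : Type u) [CommRing B] [Algebra C B] [Module.Finite C B] [Algebra.Etale C B] :
    SplitBy (Spec.map (CommRingCat.ofHom (algebraMap C B))) := by
  haveI : Finite (MaximalSpectrum B) := Hens.finite_maximalSpectrum (A := C) (B := B)
  have hbij := Hens.bijective_pi_localization_of_henselian (A := C) (B := B)
  set Φ := RingHom.pi (fun n : MaximalSpectrum B => algebraMap B (Localization.AtPrime n.asIdeal)) with hΦ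
  have hloc : ∀ n : MaximalSpectrum B, Function.Bijective (algebraMap C (Localization.AtPrime n.asIdeal)) := by
    intro n
    haveI : Module.Finite C (Localization.AtPrime n.asIdeal) := by
      refine Module.Finite.of_surjective
        (IsScalarTower.toAlgHom C B (Localization.AtPrime n.asIdeal)).toLinearMap fun z => ?_
      classical
      obtain ⟨b, hb⟩ := hbij.2 (Pi.single n z)
      refine ⟨b, ?_⟩
      have := congrFun hb n
      rwa [Pi.single_eq_same] at this
    haveI : Algebra.FormallyUnramified C (Localization.AtPrime n.asIdeal) :=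
      Algebra.FormallyUnramified.comp C B _
    haveI : IsLocalHom (algebraMap C (Localization.AtPrime n.asIdeal)) := by
      refine ((IsLocalRing.local_hom_TFAE (algebraMap C (Localization.AtPrime n.asIdeal))).out 0 4).2 ?_
      exact IsLocalRing.eq_maximalIdeal (Ideal.isMaximal_comap_of_isIntegral_of_isMaximal _)
    have hres : Function.Surjective (algebraMap (IsLocalRing.ResidueField C)
        (IsLocalRing.ResidueField (Localization.AtPrime n.asIdeal))) :=
      (IsAlgClosed.algebraMap_bijective_of_isIntegral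
        (k := IsLocalRing.ResidueField C) (K := IsLocalRing.ResidueField (Localization.AtPrime n.asIdeal))).2
    haveI : Module.Flat C (Localization.AtPrime n.asIdeal) := Module.Flat.trans C B _
    refine ⟨?_, ?_⟩
    · haveI : Module.FaithfullyFlat C (Localization.AtPrime n.asIdeal) :=
        Module.FaithfullyFlat.of_flat_of_isLocalHom
      exact FaithfulSMul.algebraMap_injective C (Localization.AtPrime n.asIdeal)
    have h : (⊤ : Submodule C (Localization.AtPrime n.asIdeal)) ≤
        LinearMap.range (Algebra.linearMap C (Localization.AtPrime n.asIdeal)) := by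
      refine Submodule.le_of_le_smul_of_le_jacobson_bot Module.Finite.fg_top
        (IsLocalRing.maximalIdeal_le_jacobson _) fun z _ => ?_
      obtain ⟨a, ha⟩ := hres (IsLocalRing.residue _ z)
      obtain ⟨c, rfl⟩ := IsLocalRing.residue_surjective a
      rw [IsLocalRing.ResidueField.algebraMap_residue] at ha
      rw [Submodule.mem_sup]
      refine ⟨algebraMap C _ c, ⟨c, rfl⟩, z - algebraMap C _ c, ?_, by ring⟩
      rw [Ideal.smul_top_eq_map, Submodule.restrictScalars_mem, Algebra.FormallyUnramified.map_maximalIdeal,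
        ← IsLocalRing.residue_eq_zero_iff, map_sub, ← ha, sub_self]
    exact fun z => h (Submodule.mem_top (x := z))
  let π : MaximalSpectrum B → (B →+* C) := fun n =>
    (RingEquiv.ofBijective _ (hloc n)).symm.toRingHom.comp (algebraMap B (Localization.AtPrime n.asIdeal))
  have hπ : ∀ n c, π n (algebraMap C B c) = c := fun n c => by
    show (RingEquiv.ofBijective _ (hloc n)).symm (algebraMap B _ (algebraMap C B c)) = c
    rw [← IsScalarTower.algebraMap_apply]
    exact (RingEquiv.ofBijective _ (hloc n)).symm_apply_apply c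
  refine ⟨MaximalSpectrum B, inferInstance, fun n => Spec.map (CommRingCat.ofHom (π n)), fun n => ?_, ?_, ?_⟩
  · rw [← Spec.map_comp, ← Spec.map_id]
    congr 1
    ext c
    exact hπ n c
  · intro n n' (x : PrimeSpectrum C) (x' : PrimeSpectrum C) hx
    by_contra hne
    classical
    obtain ⟨b, hb⟩ := hbij.2 (Pi.single n 1)
    have h1 : π n b = 1 := by
      have := congrFun hb n
      rw [Pi.single_eq_same] at this
      show (RingEquiv.ofBijective _ (hloc n)).symm (algebraMap B _ b) = 1
      rw [show algebraMap B (Localization.AtPrime n.asIdeal) b = 1 from this, map_one]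
    have h2 : π n' b = 0 := by
      have := congrFun hb n'
      rw [Pi.single_eq_of_ne (Ne.symm hne)] at this
      show (RingEquiv.ofBijective _ (hloc n')).symm (algebraMap B _ b) = 0
      rw [show algebraMap B (Localization.AtPrime n'.asIdeal) b = 0 from this, map_zero]
    have hmem : b ∈ (x'.comap (π n')).asIdeal := by
      show π n' b ∈ x'.asIdeal
      rw [h2]; exact zero_mem _
    have hx' : x.comap (π n) = x'.comap (π n') := hx
    rw [← hx'] at hmem
    exact x.2.ne_top ((Ideal.eq_top_iff_one _).2 (h1 ▸ hmem))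
  · intro (z : PrimeSpectrum B)
    let E := RingEquiv.ofBijective Φ hbij
    obtain ⟨n, q, hq⟩ := PrimeSpectrum.exists_comap_evalRingHom_eq (z.comap E.symm.toRingHom)
    refine ⟨n, q.comap (RingEquiv.ofBijective _ (hloc n)).toRingHom, ?_⟩
    refine PrimeSpectrum.ext (Ideal.ext fun b => ?_)
    show (RingEquiv.ofBijective _ (hloc n)) ((RingEquiv.ofBijective _ (hloc n)).symm (algebraMap B _ b)) ∈ q.asIdeal ↔ _
    rw [RingEquiv.apply_symm_apply]
    have : E.symm (Φ b) = b := E.symm_apply_apply b
    have hq' := congrArg (fun w : PrimeSpectrum _ => Φ b ∈ w.asIdeal) hq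
    simp only [PrimeSpectrum.comap_asIdeal, Ideal.mem_comap, RingEquiv.toRingHom_eq_coe, RingEquiv.coe_toRingHom,
      this] at hq'
    exact iff_of_eq hq'

/-- Finite étale covers of the spectrum of a strictly henselian local ring are split. -/
theorem splitBy_of_henselian {C : Type u} [CommRing C] [HenselianLocalRing C]
    [IsAlgClosed (IsLocalRing.ResidueField C)] (Y : FEt.Cat (Spec (CommRingCat.of C))) : SplitBy Y.hom := by
  let y : Y.left ⟶ Spec (CommRingCat.of C) := Y.hom
  haveI : IsFinite y := Y.prop.1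
  haveI : Etale y := Y.prop.2
  haveI : IsAffine Y.left := isAffine_of_isAffineHom y
  obtain ⟨φ, hφ⟩ := Spec.map_surjective (Y.left.isoSpec.inv ≫ y)
  letI : Algebra C Γ(Y.left, ⊤) := φ.hom.toAlgebra
  haveI h1 : IsFinite (Spec.map φ) := by rw [hφ]; infer_instance
  haveI h2 : Etale (Spec.map φ) := by rw [hφ]; infer_instance
  haveI : Module.Finite C Γ(Y.left, ⊤) := (IsFinite.SpecMap_iff _).1 h1
  haveI : Algebra.Etale C Γ(Y.left, ⊤) := (HasRingHomProperty.Spec_iff (P := @Etale)).1 h2
  exact (splitBy_spec C Γ(Y.left, ⊤)).of_iso Y.left.isoSpec.symm hφ.symm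

/-- A split cover of the punctured spectrum extends. -/
theorem extends_of_splitBy {A : Type u} [CommRing A] [IsLocalRing A] [IsNoetherianRing A]
    (V : FEt.Cat (FEt.puncturedSpec A : Scheme.{u})) (h : SplitBy V.hom) :
    ∃ Y : FEt.Cat (Spec (CommRingCat.of A)), Nonempty ((FEt.restrict (FEt.puncturedSpec A).ι).obj Y ≅ V) := by
  classical
  obtain ⟨ι, hι, τ, hτ, hinj, hsurj⟩ := h
  haveI := Fintype.ofFinite ι
  let v : V.left ⟶ (FEt.puncturedSpec A : Scheme.{u}) := V.hom
  haveI : IsFinite v := V.prop.1
  haveI : Etale v := V.prop.2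
  haveI : ∀ t, IsOpenImmersion (τ t) := fun t => by
    haveI : Etale (τ t ≫ v) := by rw [hτ]; infer_instance
    haveI : Etale (τ t) := Etale.of_comp (τ t) v
    haveI : IsSplitMono (τ t) := ⟨⟨⟨v, hτ t⟩⟩⟩
    exact IsOpenImmersion.of_flat_of_mono (τ t)
  obtain ⟨hc⟩ := nonempty_isColimit_cofanMk_of τ (by
      ext z
      simpa using hsurj z)
    (fun t t' hne => by
      rw [Function.onFun_apply, ← TopologicalSpace.Opens.coe_disjoint, Scheme.Hom.coe_opensRange,
        Scheme.Hom.coe_opensRange, Set.disjoint_iff_forall_ne]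
      rintro _ ⟨x, rfl⟩ _ ⟨x', rfl⟩ he
      exact hne (hinj t t' x x' he))
  let ev : ι → (Spec (CommRingCat.of A) ⟶ Spec (CommRingCat.of (ι → A))) := fun t =>
    Spec.map (CommRingCat.ofHom (Pi.evalRingHom (fun _ : ι => A) t))
  let U := FEt.puncturedSpec A
  let j : V.left ⟶ Spec (CommRingCat.of (ι → A)) := hc.desc (Cofan.mk _ fun t => U.ι ≫ ev t)
  have hj : ∀ t, τ t ≫ j = U.ι ≫ ev t := fun t => hc.fac (Cofan.mk _ fun t => U.ι ≫ ev t) ⟨t⟩
  have hev : ∀ t, ev t ≫ Spec.map (CommRingCat.ofHom (algebraMap A (ι → A))) = 𝟙 _ := fun t => by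
    rw [← Spec.map_comp, ← Spec.map_id]
    congr 1
  obtain ⟨n, x, hx⟩ := Pur25.exists_generators A
  have hjg : j ≫ Spec.map (CommRingCat.ofHom (algebraMap A (ι → A))) = V.hom ≫ U.ι := by
    refine Cofan.IsColimit.hom_ext hc _ _ fun t => ?_
    show τ t ≫ _ = τ t ≫ _
    rw [reassoc_of% hj t, hev, Category.comp_id]
    exact (((Category.assoc _ _ _).symm.trans (congrArg (· ≫ U.ι) (hτ t))).trans (Category.id_comp _)).symm
  haveI : IsOpenImmersion j := by
    haveI : ∀ t, IsOpenImmersion (ev t) := fun t => inferInstance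
    let d := Sigma.desc fun t => U.ι ≫ ev t
    haveI : IsOpenImmersion d := by
      refine isOpenImmersion_sigmaDesc _ _ fun t t' hne => ?_
      rw [Function.onFun_apply, Set.disjoint_iff_forall_ne]
      rintro _ ⟨a, rfl⟩ _ ⟨b, rfl⟩ he
      have key : ∀ (qa qb : PrimeSpectrum A), qa.comap (Pi.evalRingHom (fun _ : ι => A) t) =
          qb.comap (Pi.evalRingHom (fun _ : ι => A) t') → False := by
        intro qa qb hab
        have h1 : (Pi.single t 1 : ι → A) ∈ (qb.comap (Pi.evalRingHom (fun _ : ι => A) t')).asIdeal := by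
          show Pi.evalRingHom (fun _ : ι => A) t' (Pi.single t 1) ∈ qb.asIdeal
          simp [Ne.symm hne]
        rw [← hab] at h1
        have h2 : Pi.evalRingHom (fun _ : ι => A) t (Pi.single t 1) ∈ qa.asIdeal := h1
        simp only [Pi.evalRingHom_apply, Pi.single_eq_same] at h2
        exact qa.2.ne_top ((Ideal.eq_top_iff_one _).2 h2)
      exact key (U.ι a) (U.ι b) he
    let e := hc.coconePointUniqueUpToIso (coproductIsCoproduct _)
    have : j = e.hom ≫ d := by
      refine Cofan.IsColimit.hom_ext hc _ _ fun t => ?_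
      show τ t ≫ j = τ t ≫ _
      rw [hj]
      have he : τ t ≫ e.hom = Sigma.ι (fun _ : ι => (U : Scheme.{u})) t :=
        hc.comp_coconePointUniqueUpToIso_hom (coproductIsCoproduct _) ⟨t⟩
      rw [reassoc_of% he, Sigma.ι_desc]
    rw [this]; infer_instance
  refine Pur25.extends_of_etale_model hx V j hjg (Set.ext fun q => ⟨?_, fun hq => ?_⟩)
  · rintro ⟨z, rfl⟩
    have h1 := (Pur25.mem_puncturedSpec_iff hx (U.ι (v z))).1 (v z).2
    rw [← Scheme.Hom.comp_apply, ← hjg, Scheme.Hom.comp_apply] at h1
    exact h1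
  · obtain ⟨t, (p : PrimeSpectrum A), hp⟩ := PrimeSpectrum.exists_comap_evalRingHom_eq (show PrimeSpectrum (ι → A) from q)
    subst hp
    have hpU : p ∈ U := (Pur25.mem_puncturedSpec_iff hx p).2 hq
    refine ⟨τ t ⟨p, hpU⟩, ?_⟩
    rw [← Scheme.Hom.comp_apply, hj]
    rfl

end Groth.Agent.RelPure25
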