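import Groth.Agent.Lib.RelPure25.Power
import Groth.Agent.Lib.CohenAlg3.Exists

/-!
# Purity for power series rings over complete local rings: the induction
-/

set_option autoImplicit false
set_option linter.style.haveILetI false

universe u

open CategoryTheory CategoryTheory.Limits AlgebraicGeometry TopologicalSpace IsLocalRing
open scoped TensorProduct

noncomputable section

namespace Groth.Agent.RelPure25

variable {n : ℕ}

theorem le_of_succ_le {x : WithBot ℕ∞} {m : ℕ} (h : x + 1 ≤ ((m + 1 : ℕ) : WithBot ℕ∞)) : x ≤ m := by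
  induction x with
  | bot => exact bot_le
  | coe e =>
    have h' : e + 1 ≤ ((m : ℕ∞) + 1) := by exact_mod_cast h
    exact_mod_cast (WithTop.add_le_add_iff_right ENat.one_ne_top).1 h'

theorem isAlgClosed_residue_series (A : Type u) [CommRing A] [IsLocalRing A] [IsAlgClosed (ResidueField A)] :
    IsAlgClosed (ResidueField (MvPowerSeries (Fin n) A)) := by
  have hs : Function.Surjective (MvPowerSeries.constantCoeff : MvPowerSeries (Fin n) A →+* A) :=
    fun a => ⟨MvPowerSeries.C a, MvPowerSeries.constantCoeff_C a⟩
  haveI : IsLocalHom (MvPowerSeries.constantCoeff : MvPowerSeries (Fin n) A →+* A) :=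
    ⟨fun f hf => (MvPowerSeries.isUnit_iff_constantCoeff).2 hf⟩
  have hb : Function.Bijective (ResidueField.map (MvPowerSeries.constantCoeff : MvPowerSeries (Fin n) A →+* A)) := by
    refine ⟨RingHom.injective _, fun z => ?_⟩
    obtain ⟨a, rfl⟩ := residue_surjective z
    obtain ⟨f, rfl⟩ := hs a
    exact ⟨residue _ f, rfl⟩
  exact IsAlgClosed.of_ringEquiv (ResidueField A) _ (RingEquiv.ofBijective _ hb).symm

theorem henselian_series (A : Type u) [CommRing A] [IsLocalRing A] [IsNoetherianRing A]
    [IsAdicComplete (maximalIdeal A) A] : HenselianLocalRing (MvPowerSeries (Fin n) A) :=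
  haveI := ArtFunLib.isAdicComplete_mvPowerSeries (A := A) (n := n)
  Hens.henselianLocalRing_iff.2 (IsAdicComplete.henselianRing _ _)

/-- Covers of the punctured spectrum are split once purity holds. -/
theorem splitBy_of_purity {A : Type u} [CommRing A] [HenselianLocalRing A] [IsAlgClosed (ResidueField A)]
    (h : FEt.PurityHolds A) (V : FEt.Cat (FEt.puncturedSpec A : Scheme.{u})) : SplitBy V.hom := by
  haveI : (FEt.restrict (FEt.puncturedSpec A).ι).EssSurj := h
  let Y := (FEt.restrict (FEt.puncturedSpec A).ι).objPreimage V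
  let e := (FEt.restrict (FEt.puncturedSpec A).ι).objObjPreimageIso V
  let el : pullback Y.hom (FEt.puncturedSpec A).ι ≅ V.left :=
    { hom := e.hom.left, inv := e.inv.left
      hom_inv_id := congrArg (fun z => z.left) e.hom_inv_id
      inv_hom_id := congrArg (fun z => z.left) e.inv_hom_id }
  exact ((splitBy_of_henselian Y).pullback (FEt.puncturedSpec A).ι).of_iso el (Over.w e.hom.hom)

/-- **Purity for power series over a complete local ring with algebraically closed residue field.** -/
theorem purityHolds_series (hn : 1 ≤ n) : ∀ (d : ℕ) (A : Type u) [CommRing A] [IsLocalRing A] [IsNoetherianRing A]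
    [IsAdicComplete (maximalIdeal A) A] [IsAlgClosed (ResidueField A)], ringKrullDim A ≤ d →
    (∀ p ∈ minimalPrimes A, p ≠ maximalIdeal A) → FEt.PurityHolds (MvPowerSeries (Fin n) A) := by
  intro d
  induction d using Nat.strong_induction_on with
  | _ d ih =>
  -- normal domains
  have normal : ∀ (A : Type u) [CommRing A] [IsLocalRing A] [IsNoetherianRing A] [IsDomain A] [IsIntegrallyClosed A]
      [IsAdicComplete (maximalIdeal A) A] [IsAlgClosed (ResidueField A)], ringKrullDim A ≤ d → ¬ IsField A →
      FEt.PurityHolds (MvPowerSeries (Fin n) A) := by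
    intro A _ _ _ _ _ _ _ hdim hF
    by_cases h2 : (2 : WithBot ℕ∞) ≤ ringKrullDim A
    · obtain ⟨a, ha, ha0⟩ : ∃ a ∈ maximalIdeal A, a ≠ 0 := by
        by_contra! hc
        exact hF (isField_iff_maximalIdeal_eq.2 ((Submodule.eq_bot_iff _).2 hc))
      let C := MvPowerSeries (Fin n) A
      have hle : (maximalIdeal A).map (algebraMap A C) ≤ maximalIdeal C := by
        refine Ideal.map_le_iff_le_comap.2 fun x hx hu => ?_
        have hu' := hu.map (MvPowerSeries.constantCoeff (σ := Fin n) (R := A))
        rw [← MvPowerSeries.c_eq_algebraMap, MvPowerSeries.constantCoeff_C] at hu'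
        exact hx hu'
      haveI : IsLocalHom (algebraMap A C) := ((local_hom_TFAE (algebraMap A C)).out 0 2).2 hle
      have hp : ((maximalIdeal A).map (algebraMap A C)).IsPrime := by
        rw [← MvPowerSeries.c_eq_algebraMap]; exact isPrime_map_C _
      haveI := hp
      haveI : IsLocalRing (C ⧸ (maximalIdeal A).map (algebraMap A C)) :=
        IsLocalRing.of_surjective' _ Ideal.Quotient.mk_surjective
      haveI : IsLocalRing (C ⧸ (⊥ : Ideal A).map (algebraMap A C)) := by
        haveI : Nontrivial (C ⧸ (⊥ : Ideal A).map (algebraMap A C)) := by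
          rw [Ideal.Quotient.nontrivial_iff, Ideal.map_bot]; exact bot_ne_top
        exact IsLocalRing.of_surjective' _ Ideal.Quotient.mk_surjective
      have hd3 : (3 : ℕ∞) ≤ LocCoh.depth C C := by
        have h := PurityFlat25.depth_quot (A := A) (B := C) ⊥
        have e1 : LocCoh.depth A (A ⧸ (⊥ : Ideal A)) = LocCoh.depth A A :=
          DepthLib.idealDepth_congr (AlgEquiv.quotientBot A A).toLinearEquiv
        have e2 : LocCoh.depth (C ⧸ (⊥ : Ideal A).map (algebraMap A C)) (C ⧸ (⊥ : Ideal A).map (algebraMap A C)) =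
            LocCoh.depth C C := by
          rw [← FlatDepth.depth_eq_of_surjective (A := C) (M := C ⧸ (⊥ : Ideal A).map (algebraMap A C))
            Ideal.Quotient.mk_surjective]
          refine DepthLib.idealDepth_congr (Submodule.quotEquivOfEqBot _ ?_)
          rw [Ideal.map_bot]
        have e3 : (1 : ℕ∞) ≤ LocCoh.depth (C ⧸ (maximalIdeal A).map (algebraMap A C))
            (C ⧸ (maximalIdeal A).map (algebraMap A C)) := by
          refine DepthLib.one_le_idealDepth_of_regular
            (x := Ideal.Quotient.mk _ (MvPowerSeries.X ⟨0, hn⟩)) ?_ ?_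
          · intro hu
            haveI : IsLocalHom (Ideal.Quotient.mk ((maximalIdeal A).map (algebraMap A C))) :=
              IsLocalHom.of_surjective _ Ideal.Quotient.mk_surjective
            have h0 := (isUnit_of_map_unit _ _ hu).map (MvPowerSeries.constantCoeff (σ := Fin n) (R := A))
            rw [MvPowerSeries.constantCoeff_X] at h0
            exact not_isUnit_zero h0
          · refine IsSMulRegular.of_right_eq_zero_of_smul fun z hz => (mul_eq_zero.1 hz).resolve_left fun h0 => ?_
            rw [Ideal.Quotient.eq_zero_iff_mem, ← MvPowerSeries.c_eq_algebraMap] at h0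
            have := (mem_map_C_iff _ _).1 h0 (Finsupp.single ⟨0, hn⟩ 1)
            rw [MvPowerSeries.coeff_index_single_self_X] at this
            exact (maximalIdeal.isMaximal A).ne_top ((Ideal.eq_top_iff_one _).2 this)
        rw [e2, e1] at h
        rw [h]
        calc (3 : ℕ∞) = 2 + 1 := by norm_num
          _ ≤ _ := add_le_add (SerreCrit.two_le_depth_of_normal A h2) e3
      haveI : Nontrivial (A ⧸ Ideal.span {a}) := Ideal.Quotient.nontrivial_iff.2
        (ne_top_of_le_ne_top (maximalIdeal.isMaximal A).ne_top (by rwa [Ideal.span_singleton_le_iff_mem]))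
      haveI : IsLocalRing (A ⧸ Ideal.span {a}) := IsLocalRing.of_surjective' _ Ideal.Quotient.mk_surjective
      haveI : IsAdicComplete (maximalIdeal (A ⧸ Ideal.span {a})) (A ⧸ Ideal.span {a}) :=
        CohenAlg3.isAdicComplete_quotient _
      haveI : IsAlgClosed (ResidueField (A ⧸ Ideal.span {a})) := by
        haveI : IsLocalHom (Ideal.Quotient.mk (Ideal.span {a})) := IsLocalHom.of_surjective _ Ideal.Quotient.mk_surjective
        have hb : Function.Bijective (ResidueField.map (Ideal.Quotient.mk (Ideal.span {a}))) := by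
          refine ⟨RingHom.injective _, fun z => ?_⟩
          obtain ⟨b, rfl⟩ := residue_surjective z
          obtain ⟨f, rfl⟩ := Ideal.Quotient.mk_surjective b
          exact ⟨residue _ f, rfl⟩
        exact IsAlgClosed.of_ringEquiv (ResidueField A) _ (RingEquiv.ofBijective _ hb)
      have hlt : ringKrullDim (A ⧸ Ideal.span {a}) + 1 ≤ d :=
        (ringKrullDim_quotient_succ_le_of_nonZeroDivisor (mem_nonZeroDivisors_of_ne_zero ha0)).trans hdim
      obtain ⟨d', rfl⟩ : ∃ d', d = d' + 1 := by
        refine ⟨d - 1, ?_⟩
        rcases d with _ | d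
        · exact absurd (h2.trans hdim) (by decide)
        · rfl
      have hmin : ∀ P ∈ minimalPrimes (A ⧸ Ideal.span {a}), P ≠ maximalIdeal (A ⧸ Ideal.span {a}) := by
        intro P hP he
        have hM : maximalIdeal A ∈ (Ideal.span {a}).minimalPrimes := by
          rw [Ideal.minimalPrimes_eq_comap]
          exact ⟨P, hP, by rw [he]; exact IsLocalRing.eq_maximalIdeal (Ideal.comap_isMaximal_of_surjective _ Ideal.Quotient.mk_surjective)⟩
        have := Ideal.height_le_one_of_isPrincipal_of_mem_minimalPrimes (Ideal.span {a}) (maximalIdeal A) hM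
        have h3 : ringKrullDim A ≤ (1 : ℕ∞) := by
          rw [← IsLocalRing.maximalIdeal_height_eq_ringKrullDim]
          exact_mod_cast this
        exact absurd (h2.trans h3) (by decide)
      have h0 := ih d' (Nat.lt_succ_self _) (A ⧸ Ideal.span {a})
        (le_of_succ_le hlt) hmin
      have hga : MvPowerSeries.C a ∈ maximalIdeal C := by
        intro hu
        have hu' := hu.map (MvPowerSeries.constantCoeff (σ := Fin n) (R := A))
        rw [MvPowerSeries.constantCoeff_C] at hu'
        exact ha hu'
      haveI : Nontrivial (C ⧸ Ideal.span {MvPowerSeries.C a}) := Ideal.Quotient.nontrivial_iff.2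
        (ne_top_of_le_ne_top (maximalIdeal.isMaximal C).ne_top (by rwa [Ideal.span_singleton_le_iff_mem]))
      haveI : IsLocalRing (C ⧸ Ideal.span {MvPowerSeries.C a}) := IsLocalRing.of_surjective' _ Ideal.Quotient.mk_surjective
      refine Pur25.purity_step hd3 hga ?_
      have hk : RingHom.ker (MvPowerSeries.map (σ := Fin n) (Ideal.Quotient.mk (Ideal.span {a}))) =
          Ideal.span {MvPowerSeries.C a} := by
        rw [ker_map, Ideal.mk_ker, Ideal.map_span, Set.image_singleton]
      refine PurityFlat25.purityHolds_of_thickening (Ideal.Quotient.lift _ (MvPowerSeries.map (σ := Fin n)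
        (Ideal.Quotient.mk (Ideal.span {a}))) hk.ge) (Ideal.Quotient.lift_surjective_of_surjective _ hk.ge
          (map_surjective _ Ideal.Quotient.mk_surjective)) ?_ h0
      rw [Ideal.ker_quotient_lift, hk, Ideal.map_quotient_self]
      exact bot_le
    · haveI : IsDiscreteValuationRing A := by
        have h := (IsDiscreteValuationRing.TFAE A hF).out 3 0 rfl rfl
        refine h.1 ⟨inferInstance, maximalIdeal A, ?_, ?_⟩
        · exact ⟨fun h => hF (isField_iff_maximalIdeal_eq.2 h), inferInstance⟩
        · rintro P ⟨hP0, hP⟩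
          by_contra hPm
          apply h2
          have h1 : (⊥ : Ideal A) < P := bot_lt_iff_ne_bot.2 hP0
          have h3 : P < maximalIdeal A := lt_of_le_of_ne (IsLocalRing.le_maximalIdeal hP.ne_top) hPm
          haveI := hP
          have h6 := Ideal.height_add_one_le_of_lt_of_isPrime h1
          have h7 := Ideal.height_add_one_le_of_lt_of_isPrime h3
          rw [← IsLocalRing.maximalIdeal_height_eq_ringKrullDim]
          have h5 : (2 : ℕ∞) ≤ (maximalIdeal A).height := by
            calc (2 : ℕ∞) ≤ (⊥ : Ideal A).height + 1 + 1 := by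
                  rw [add_assoc]; exact le_add_left (by norm_num)
              _ ≤ P.height + 1 := by gcongr
              _ ≤ _ := h7
          exact WithBot.coe_le_coe.2 h5
      haveI := Cohen.isRegularLocalRing_mvPowerSeries A n
      refine Pur25.purity_regular (maximalIdeal (MvPowerSeries (Fin n) A)).spanFinrank _ rfl ?_
      have hd1 : (1 : WithBot ℕ∞) ≤ ringKrullDim A := (IsDiscreteValuationRing.ringKrullDim_eq_one A).ge
      have h3 := (add_le_add hd1 (le_refl (n : WithBot ℕ∞))).trans (Cohen.add_le_ringKrullDim A n)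
      rw [← IsRegularLocalRing.spanFinrank_maximalIdeal] at h3
      have h4 : 1 + n ≤ (maximalIdeal (MvPowerSeries (Fin n) A)).spanFinrank := by exact_mod_cast h3
      omega
  intro A _ _ _ _ _ hdim hmin
  haveI := henselian_series (n := n) A
  haveI := isAlgClosed_residue_series (n := n) A
  refine ⟨fun V => extends_of_splitBy V ?_⟩
  haveI : Finite (minimalPrimes A) := (minimalPrimes.finite_of_isNoetherianRing A).to_subtype
  let B : minimalPrimes A → Type u := fun p => integralClosure (A ⧸ p.1) (FractionRing (A ⧸ p.1))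
  haveI hpp : ∀ p : minimalPrimes A, p.1.IsPrime := fun p => p.2.1.1
  haveI hN : ∀ p : minimalPrimes A, IsLocalRing (A ⧸ p.1) ∧ IsAdicComplete (maximalIdeal (A ⧸ p.1)) (A ⧸ p.1) := by
    intro p
    obtain ⟨h1, h2⟩ := CplDomain.completeLocal_of_finite A (A ⧸ p.1)
    exact ⟨h1, h2⟩
  haveI hBfin : ∀ p : minimalPrimes A, Module.Finite (A ⧸ p.1) (B p) := fun p => by
    haveI := (hN p).1
    haveI := (hN p).2
    exact CplDomain.isN2_of_complete (A ⧸ p.1) (FractionRing (A ⧸ p.1)) inferInstance
  haveI hBA : ∀ p : minimalPrimes A, Module.Finite A (B p) := fun p => Module.Finite.trans (A ⧸ p.1) (B p)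
  haveI hBN : ∀ p, IsNoetherianRing (B p) := fun p => IsNoetherianRing.of_finite A (B p)
  haveI hBl : ∀ p, IsLocalRing (B p) := fun p => (CplDomain.completeLocal_of_finite A (B p)).1
  haveI hBlh : ∀ p, IsLocalHom (algebraMap A (B p)) := fun p =>
    ((local_hom_TFAE (algebraMap A (B p))).out 0 4).2
      (IsLocalRing.eq_maximalIdeal (Ideal.isMaximal_comap_of_isIntegral_of_isMaximal _))
  haveI hfinres : ∀ p, Module.Finite (ResidueField A) (ResidueField (B p)) := fun p => by
    haveI : Module.Finite A (ResidueField (B p)) :=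
      Module.Finite.of_surjective (IsScalarTower.toAlgHom A (B p) (ResidueField (B p))).toLinearMap residue_surjective
    exact Module.Finite.of_restrictScalars_finite A _ _
  have hres : ∀ p, Function.Surjective ((residue (B p)).comp (algebraMap A (B p))) := fun p z => by
    obtain ⟨a, ha⟩ := (IsAlgClosed.algebraMap_bijective_of_isIntegral
      (k := ResidueField A) (K := ResidueField (B p))).2 z
    obtain ⟨c, rfl⟩ := residue_surjective a
    exact ⟨c, (ResidueField.algebraMap_residue _).symm.trans ha⟩
  haveI hBk : ∀ p, IsAlgClosed (ResidueField (B p)) := fun p =>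
    IsAlgClosed.of_ringEquiv (ResidueField A) _ (RingEquiv.ofBijective _
      (IsAlgClosed.algebraMap_bijective_of_isIntegral (k := ResidueField A) (K := ResidueField (B p))))
  have hinj : ∀ p : minimalPrimes A, Function.Injective (algebraMap (A ⧸ p.1) (B p)) := fun p x y h =>
    IsFractionRing.injective (A ⧸ p.1) (FractionRing (A ⧸ p.1)) (congrArg Subtype.val h)
  have hsplit : ∀ p, SplitBy (pullback.snd V.hom
      (pullback.fst (FEt.puncturedSpec (MvPowerSeries (Fin n) A)).ι (qMap n A (B p)))) := by
    intro p
    haveI := (CplDomain.completeLocal_of_finite A (B p)).2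
    haveI : IsIntegrallyClosed (B p) := integralClosure.isIntegrallyClosedOfFiniteExtension (FractionRing (A ⧸ p.1))
    have hdimB : ringKrullDim (B p) ≤ d := by
      rw [VarDim.ringKrullDim_eq_of_isIntegral (R := A ⧸ p.1) (hinj p)]
      exact (ringKrullDim_quotient_le p.1).trans hdim
    have hBF : ¬ IsField (B p) := fun h => by
      have := isField_of_isIntegral_of_isField (hinj p) h
      rw [← Ideal.Quotient.maximal_ideal_iff_isField_quotient] at this
      exact hmin p.1 p.2 (IsLocalRing.eq_maximalIdeal this)
    have hP := normal (B p) hdimB hBF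
    let U := FEt.puncturedSpec (MvPowerSeries (Fin n) A)
    let U' := FEt.puncturedSpec (MvPowerSeries (Fin n) (B p))
    let q := qMap n A (B p)
    have hq : q ⁻¹ᵁ U = U' := by
      ext z
      show q z ≠ IsLocalRing.closedPoint _ ↔ z ≠ IsLocalRing.closedPoint _
      refine not_congr ⟨fun hz => ?_, fun hz => ?_⟩
      · have hfin : IsFinite q := MorphismProperty.of_isPullback (isPullback_series n A (B p)).flip
          ((IsFinite.SpecMap_iff _).2 (RingHom.finite_algebraMap.2 inferInstance))
        letI : Algebra (MvPowerSeries (Fin n) A) (MvPowerSeries (Fin n) (B p)) :=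
          (MvPowerSeries.map (algebraMap A (B p))).toAlgebra
        haveI : Algebra.IsIntegral (MvPowerSeries (Fin n) A) (MvPowerSeries (Fin n) (B p)) :=
          ⟨(RingHom.Finite.to_isIntegral ((IsFinite.SpecMap_iff _).1 hfin))⟩
        refine PrimeSpectrum.ext (IsLocalRing.eq_maximalIdeal ?_)
        haveI : ((z : PrimeSpectrum (MvPowerSeries (Fin n) (B p))).asIdeal.comap
            (algebraMap (MvPowerSeries (Fin n) A) _)).IsMaximal := by
          have h1 := congrArg PrimeSpectrum.asIdeal hz
          show ((q z : PrimeSpectrum (MvPowerSeries (Fin n) A)).asIdeal).IsMaximal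
          rw [h1]
          exact maximalIdeal.isMaximal _
        exact Ideal.isMaximal_of_isIntegral_of_isMaximal_comap _ this
      · subst hz
        haveI : IsLocalHom (MvPowerSeries.map (σ := Fin n) (algebraMap A (B p))) := ⟨fun f hf => by
          rw [MvPowerSeries.isUnit_iff_constantCoeff, MvPowerSeries.constantCoeff_map] at hf
          exact MvPowerSeries.isUnit_iff_constantCoeff.2 (isUnit_of_map_unit _ _ hf)⟩
        exact IsLocalRing.comap_closedPoint _
    have hr : Set.range (pullback.snd U.ι q) = Set.range U'.ι := by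
      rw [Scheme.Pullback.range_snd, Scheme.Opens.range_ι, Scheme.Opens.range_ι, ← hq]
      rfl
    let ψ : (U' : Scheme.{u}) ≅ pullback U.ι q :=
      (IsOpenImmersion.isoOfRangeEq (pullback.snd U.ι q) U'.ι hr).symm
    let g := pullback.fst U.ι q
    haveI := henselian_series (n := n) (B p)
    haveI := isAlgClosed_residue_series (n := n) (B p)
    have h1 := splitBy_of_purity hP ((FEt.restrict (ψ.hom ≫ g)).obj V)
    have h2 := h1.pullback ψ.inv
    let v : V.left ⟶ (U : Scheme.{u}) := V.hom
    refine h2.of_iso (pullbackLeftPullbackSndIso v (ψ.hom ≫ g) ψ.inv ≪≫ pullback.congrHom rfl (Iso.inv_hom_id_assoc ψ g)) ?_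
    rw [Iso.trans_hom, Category.assoc]
    erw [pullback.lift_snd, Category.comp_id, pullbackLeftPullbackSndIso_hom_snd]
    rfl
  refine splitBy_of_family hn B hres ?_ V hsplit
  intro P
  obtain ⟨p, hp, hpP⟩ := Ideal.exists_minimalPrimes_le (bot_le : (⊥ : Ideal A) ≤ P.asIdeal)
  let p' : minimalPrimes A := ⟨p, hp⟩
  obtain ⟨P', hP'⟩ : (P : PrimeSpectrum A) ∈ Set.range (PrimeSpectrum.comap (Ideal.Quotient.mk p)) := by
    rw [range_comap_of_surjective _ _ Ideal.Quotient.mk_surjective, PrimeSpectrum.mem_zeroLocus, Ideal.mk_ker]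
    exact hpP
  obtain ⟨Q, -, hQ, hQP⟩ := Ideal.exists_ideal_over_prime_of_isIntegral (S := B p') P'.asIdeal ⊥
    (by rw [← RingHom.ker_eq_comap_bot, (RingHom.injective_iff_ker_eq_bot _).1 (hinj p')]; exact bot_le)
  refine ⟨p', ⟨Q, hQ⟩, ?_⟩
  rw [← hP']
  refine PrimeSpectrum.ext ?_
  show Q.comap (algebraMap A (B p')) = P'.asIdeal.comap (Ideal.Quotient.mk p)
  rw [← hQP, Ideal.comap_comap]
  rfl

end Groth.Agent.RelPure25
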