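import Groth.Agent.Lib.RelPure25.Series
import Groth.Agent.Lib.RelPure25.Local
import Groth.Agent.Lib.PurityFlat25.Main
import Groth.Agent.Lib.ArtFun.PS
import Groth.Agent.Lib.Cohen.Structure
import Groth.Agent.Lib.CplDomain.Nagata
import Groth.Agent.Lib.MilnorFib6.AlgClosure
import Groth.Agent.Lib.VarDim.Alg

/-!
# Purity for power series rings over complete local rings
-/

set_option autoImplicit false
set_option linter.style.haveILetI false

universe u

open CategoryTheory CategoryTheory.Limits AlgebraicGeometry TopologicalSpace IsLocalRing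
open scoped TensorProduct

noncomputable section

namespace Groth.Agent.RelPure25

variable {n : ℕ}

section Pullback

variable (n) (A : Type u) [CommRing A] (D : Type u) [CommRing D] [Algebra A D]

/-- The map on power series spectra induced by an algebra. -/
abbrev qMap : Spec (CommRingCat.of (MvPowerSeries (Fin n) D)) ⟶ Spec (CommRingCat.of (MvPowerSeries (Fin n) A)) :=
  Spec.map (CommRingCat.ofHom (MvPowerSeries.map (algebraMap A D)))

/-- The projection to the constants. -/
abbrev cMap : Spec (CommRingCat.of (MvPowerSeries (Fin n) D)) ⟶ Spec (CommRingCat.of D) :=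
  Spec.map (CommRingCat.ofHom (MvPowerSeries.C : D →+* MvPowerSeries (Fin n) D))

theorem isPullback_series [IsNoetherianRing A] [Module.Finite A D] :
    IsPullback (qMap n A D) (cMap n D) (cMap n A) (Spec.map (CommRingCat.ofHom (algebraMap A D))) := by
  let Φ := RingEquiv.ofBijective (seriesTensor n D (A := A)) (bijective_seriesTensor D)
  haveI : IsIso (CommRingCat.ofHom (seriesTensor n D (A := A)).toRingHom) :=
    (ConcreteCategory.isIso_iff_bijective _).2 (bijective_seriesTensor D)
  let e : Spec (CommRingCat.of (MvPowerSeries (Fin n) D)) ≅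
      pullback (Spec.map (CommRingCat.ofHom (algebraMap A (MvPowerSeries (Fin n) A))))
        (Spec.map (CommRingCat.ofHom (algebraMap A D))) :=
    asIso (Spec.map (CommRingCat.ofHom (seriesTensor n D (A := A)).toRingHom)) ≪≫
      (pullbackSpecIso A (MvPowerSeries (Fin n) A) D).symm
  have h1 : e.hom ≫ pullback.fst _ _ = qMap n A D := by
    simp only [e, Iso.trans_hom, asIso_hom, Iso.symm_hom, Category.assoc, pullbackSpecIso_inv_fst, ← Spec.map_comp]
    congr 1
    ext f : 2
    show seriesTensor n D (A := A) (f ⊗ₜ 1) = _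
    rw [seriesTensor, Algebra.TensorProduct.lift_tmul, map_one, mul_one]
    rfl
  have h2 : e.hom ≫ pullback.snd _ _ = cMap n D := by
    simp only [e, Iso.trans_hom, asIso_hom, Iso.symm_hom, Category.assoc, pullbackSpecIso_inv_snd, ← Spec.map_comp]
    congr 1
    ext d : 2
    show seriesTensor n D (A := A) (1 ⊗ₜ d) = _
    rw [seriesTensor, Algebra.TensorProduct.lift_tmul, map_one, one_mul]
    rfl
  exact IsPullback.of_iso (IsPullback.of_hasPullback _ _) e.symm (Iso.refl _) (Iso.refl _) (Iso.refl _)
    (by rw [Iso.refl_hom, Category.comp_id, Iso.symm_hom, Iso.eq_inv_comp, h1])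
    (by rw [Iso.refl_hom, Category.comp_id, Iso.symm_hom, Iso.eq_inv_comp, h2])
    (by simp only [Iso.refl_hom, Category.id_comp, Category.comp_id]; rfl)
    (by simp only [Iso.refl_hom, Category.id_comp, Category.comp_id])

end Pullback

section Eta

variable (A : Type u) [CommRing A] [IsLocalRing A] [IsNoetherianRing A]

variable (n) in
/-- The generic point of the closed fibre. -/
def eta : PrimeSpectrum (MvPowerSeries (Fin n) A) :=
  ⟨(maximalIdeal A).map MvPowerSeries.C, isPrime_map_C _⟩

theorem eta_mem (hn : 1 ≤ n) : eta n A ∈ FEt.puncturedSpec (MvPowerSeries (Fin n) A) := by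
  intro h
  have h1 : (MvPowerSeries.X ⟨0, hn⟩ : MvPowerSeries (Fin n) A) ∈ (eta n A).asIdeal := by
    rw [show eta n A = IsLocalRing.closedPoint _ from h]
    exact fun hu => by simpa using hu.map MvPowerSeries.constantCoeff
  have h2 := (mem_map_C_iff _ _).1 h1 (Finsupp.single ⟨0, hn⟩ 1)
  rw [MvPowerSeries.coeff_index_single_self_X] at h2
  exact (maximalIdeal.isMaximal A).ne_top ((Ideal.eq_top_iff_one _).2 h2)

/-- Maximal ideals of a finite algebra induce points over `eta`. -/
theorem comap_map_C (D : Type u) [CommRing D] [IsNoetherianRing D] [Algebra A D] [Module.Finite A D]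
    (m : Ideal D) [m.IsMaximal] :
    (m.map MvPowerSeries.C).comap (MvPowerSeries.map (algebraMap A D)) = (eta n A).asIdeal := by
  have hm : m.comap (algebraMap A D) = maximalIdeal A :=
    IsLocalRing.eq_maximalIdeal (Ideal.isMaximal_comap_of_isIntegral_of_isMaximal _)
  ext f
  show _ ↔ f ∈ (maximalIdeal A).map MvPowerSeries.C
  simp [mem_map_C_iff, Ideal.mem_comap, ← hm]

end Eta

section Family

variable {A : Type u} [CommRing A] [IsLocalRing A] [IsNoetherianRing A]

/-- Every point of the inverse image of the punctured spectrum is joined to a point over `eta`. -/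
theorem exists_joining (hn : 1 ≤ n) (D : Type u) [CommRing D] [Algebra A D] [Module.Finite A D]
    (r : ↥(pullback (FEt.puncturedSpec (MvPowerSeries (Fin n) A)).ι (qMap n A D))) :
    ∃ r₀ r' : ↥(pullback (FEt.puncturedSpec (MvPowerSeries (Fin n) A)).ι (qMap n A D)),
      r₀ ⤳ r ∧ r₀ ⤳ r' ∧ pullback.fst _ (qMap n A D) r' = ⟨eta n A, eta_mem A hn⟩ := by
  haveI : IsNoetherianRing D := IsNoetherianRing.of_finite A D
  let U := FEt.puncturedSpec (MvPowerSeries (Fin n) A)
  let b := pullback.snd U.ι (qMap n A D)
  let Q : PrimeSpectrum (MvPowerSeries (Fin n) D) := b r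
  obtain ⟨p, m, hp, hm, hpm, hpQ⟩ := exists_prime_le Q.asIdeal
  haveI := hp; haveI := hm
  let z₀ : PrimeSpectrum (MvPowerSeries (Fin n) D) := ⟨p.map MvPowerSeries.C, isPrime_map_C _⟩
  let z' : PrimeSpectrum (MvPowerSeries (Fin n) D) := ⟨m.map MvPowerSeries.C, isPrime_map_C _⟩
  have h0 : z₀ ⤳ Q := (PrimeSpectrum.le_iff_specializes z₀ Q).1 hpQ
  have h' : z₀ ⤳ z' := (PrimeSpectrum.le_iff_specializes z₀ z').1 (Ideal.map_mono hpm)
  have hz' : qMap n A D z' = eta n A := PrimeSpectrum.ext (comap_map_C A D m)
  have hz'm : z' ∈ Set.range b := by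
    rw [Scheme.Pullback.range_snd, Scheme.Opens.range_ι]
    show qMap n A D z' ∈ U
    rw [hz']; exact eta_mem A hn
  have hopen : IsOpen (Set.range b) := b.isOpenEmbedding.isOpen_range
  obtain ⟨r₀, hr₀⟩ : z₀ ∈ Set.range b := hopen.stableUnderGeneralization h0 ⟨r, rfl⟩
  obtain ⟨r', hr'⟩ := hz'm
  refine ⟨r₀, r', b.isOpenEmbedding.isEmbedding.isInducing.specializes_iff.1 (by rw [hr₀]; exact h0),
    b.isOpenEmbedding.isEmbedding.isInducing.specializes_iff.1 (by rw [hr₀, hr']; exact h'), Subtype.ext ?_⟩
  show U.ι (pullback.fst U.ι (qMap n A D) r') = eta n A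
  rw [← Scheme.Hom.comp_apply, pullback.condition, Scheme.Hom.comp_apply]
  show qMap n A D (b r') = _
  rw [hr', hz']

/-- Splitting is detected on a finite covering family of local algebras with the same residue field. -/
theorem splitBy_of_family (hn : 1 ≤ n) {I : Type u} [Finite I] (D : I → Type u) [∀ i, CommRing (D i)]
    [∀ i, Algebra A (D i)] [∀ i, Module.Finite A (D i)] [∀ i, IsLocalRing (D i)]
    (hres : ∀ i, Function.Surjective ((residue (D i)).comp (algebraMap A (D i))))
    (hsurj : ∀ p : PrimeSpectrum A, ∃ i, p ∈ Set.range (PrimeSpectrum.comap (algebraMap A (D i))))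
    (V : FEt.Cat (FEt.puncturedSpec (MvPowerSeries (Fin n) A) : Scheme.{u}))
    (hsplit : ∀ i, SplitBy (pullback.snd V.hom
      (pullback.fst (FEt.puncturedSpec (MvPowerSeries (Fin n) A)).ι (qMap n A (D i))))) :
    SplitBy V.hom := by
  let U := FEt.puncturedSpec (MvPowerSeries (Fin n) A)
  haveI hD : ∀ i, IsNoetherianRing (D i) := fun i => IsNoetherianRing.of_finite A (D i)
  haveI : IsFinite V.hom := V.prop.1
  haveI : Etale V.hom := V.prop.2
  haveI hq : ∀ i, IsFinite (qMap n A (D i)) := fun i =>
    MorphismProperty.of_isPullback (isPullback_series n A (D i)).flip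
      ((IsFinite.SpecMap_iff _).2 (RingHom.finite_algebraMap.2 inferInstance))
  let g : ∀ i, pullback U.ι (qMap n A (D i)) ⟶ (U : Scheme.{u}) := fun i => pullback.fst _ _
  haveI : ∀ i, IsFinite (g i) := fun i => MorphismProperty.pullback_fst _ _ (hq i)
  let ζ : ∀ i, PrimeSpectrum (MvPowerSeries (Fin n) (D i)) := fun i =>
    ⟨(maximalIdeal (D i)).map MvPowerSeries.C, isPrime_map_C _⟩
  have hζ : ∀ i, qMap n A (D i) (ζ i) = eta n A := fun i => PrimeSpectrum.ext (comap_map_C A (D i) _)
  choose e he₁ he₂ using fun i => Scheme.Pullback.exists_preimage_pullback (f := U.ι) (g := qMap n A (D i))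
    ⟨eta n A, eta_mem A hn⟩ (ζ i) (hζ i).symm
  refine split_of_family V.hom ⟨eta n A, eta_mem A hn⟩ g ?_ e he₁ ?_ ?_ ?_ hsplit
  · intro u
    obtain ⟨i, z, hz⟩ := hsurj (cMap n A (U.ι u))
    obtain ⟨w, hw, -⟩ := Scheme.exists_preimage_of_isPullback (isPullback_series n A (D i)) (U.ι u) z hz.symm
    obtain ⟨x, hx, -⟩ := Scheme.Pullback.exists_preimage_pullback u w hw.symm
    exact ⟨i, x, hx⟩
  · intro i x hx
    let Q : PrimeSpectrum (MvPowerSeries (Fin n) (D i)) := pullback.snd U.ι (qMap n A (D i)) x
    have hQ : Q.asIdeal.comap (MvPowerSeries.map (algebraMap A (D i))) = (eta n A).asIdeal := by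
      refine congrArg PrimeSpectrum.asIdeal (?_ : qMap n A (D i) Q = eta n A)
      show qMap n A (D i) (pullback.snd U.ι (qMap n A (D i)) x) = _
      rw [← Scheme.Hom.comp_apply, ← pullback.condition, Scheme.Hom.comp_apply]
      exact congrArg Subtype.val hx
    letI : Algebra (MvPowerSeries (Fin n) A) (MvPowerSeries (Fin n) (D i)) :=
      (MvPowerSeries.map (algebraMap A (D i))).toAlgebra
    haveI : Algebra.IsIntegral (MvPowerSeries (Fin n) A) (MvPowerSeries (Fin n) (D i)) :=
      ⟨(RingHom.Finite.to_isIntegral ((IsFinite.SpecMap_iff _).1 (hq i)))⟩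
    have hle : (ζ i).asIdeal ≤ Q.asIdeal := by
      refine Ideal.map_le_iff_le_comap.2 ?_
      haveI : (Q.asIdeal.comap (MvPowerSeries.C : D i →+* _)).IsPrime := Ideal.comap_isPrime _ _
      have hm : (Q.asIdeal.comap (MvPowerSeries.C : D i →+* _)).comap (algebraMap A (D i)) = maximalIdeal A := by
        ext a
        rw [Ideal.mem_comap, Ideal.mem_comap]
        have : MvPowerSeries.map (algebraMap A (D i)) (MvPowerSeries.C a) ∈ Q.asIdeal ↔ a ∈ maximalIdeal A := by
          rw [← Ideal.mem_comap, hQ]
          show MvPowerSeries.C a ∈ (maximalIdeal A).map MvPowerSeries.C ↔ _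
          refine ⟨fun h => ?_, Ideal.mem_map_of_mem _⟩
          have := (mem_map_C_iff _ _).1 h 0
          rwa [MvPowerSeries.coeff_zero_C] at this
        rwa [MvPowerSeries.map_C] at this
      haveI : ((Q.asIdeal.comap (MvPowerSeries.C : D i →+* _)).comap (algebraMap A (D i))).IsMaximal := hm ▸ inferInstance
      rw [IsLocalRing.eq_maximalIdeal (Ideal.isMaximal_of_isIntegral_of_isMaximal_comap
        (Q.asIdeal.comap (MvPowerSeries.C : D i →+* _)) this)]
    have hζQ : ζ i = Q := by
      refine PrimeSpectrum.ext (le_antisymm hle ?_)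
      by_contra hne
      obtain ⟨y, hyQ, hy⟩ := SetLike.not_le_iff_exists.1 hne
      refine lt_irrefl (eta n A).asIdeal ?_
      have := Ideal.comap_lt_comap_of_integral_mem_sdiff (R := MvPowerSeries (Fin n) A) hle ⟨hyQ, hy⟩
        (Algebra.IsIntegral.isIntegral y)
      rwa [RingHom.algebraMap_toAlgebra, hQ, comap_map_C A (D i)] at this
    exact (pullback.snd U.ι (qMap n A (D i))).isOpenEmbedding.injective ((he₂ i).trans hζQ).symm
  · intro i
    let t := (pullback U.ι (qMap n A (D i))).fromSpecResidueField (e i) ≫ pullback.snd U.ι (qMap n A (D i))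
    suffices IsPreimmersion (t ≫ qMap n A (D i)) by
      haveI : IsPreimmersion (((pullback U.ι (qMap n A (D i))).fromSpecResidueField (e i) ≫ g i) ≫ U.ι) := by
        rwa [Category.assoc, pullback.condition, ← Category.assoc]
      exact IsPreimmersion.of_comp _ U.ι
    haveI : IsPreimmersion t := inferInstance
    obtain ⟨ψ, hψ⟩ := Spec.map_surjective t
    have hker : (maximalIdeal (D i)).map MvPowerSeries.C ≤ RingHom.ker ψ.hom := by
      intro a ha
      have ht : t (IsLocalRing.closedPoint _) = ζ i := by
        rw [Scheme.Hom.comp_apply, Scheme.fromSpecResidueField_apply, he₂]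
      have h2 : (Spec.map ψ (IsLocalRing.closedPoint _) : PrimeSpectrum _) = ζ i := by rw [hψ]; exact ht
      have h3 : a ∈ (ζ i).asIdeal := ha
      rw [← h2] at h3
      have h4 : ψ.hom a ∈ maximalIdeal _ := h3
      rw [IsLocalRing.maximalIdeal_eq_bot, Ideal.mem_bot] at h4
      exact h4
    let π : MvPowerSeries (Fin n) A →+* MvPowerSeries (Fin n) (D i) ⧸ (maximalIdeal (D i)).map MvPowerSeries.C :=
      (Ideal.Quotient.mk _).comp (MvPowerSeries.map (algebraMap A (D i)))
    have hπ : Function.Surjective π := by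
      intro w
      obtain ⟨f, rfl⟩ := Ideal.Quotient.mk_surjective w
      choose c hc using fun d => hres i (residue (D i) (MvPowerSeries.coeff d f))
      refine ⟨ofCoeff c, (Ideal.Quotient.eq).2 ((mem_map_C_iff _ _).2 fun d => ?_)⟩
      rw [map_sub, MvPowerSeries.coeff_map, coeff_ofCoeff, ← IsLocalRing.residue_eq_zero_iff, map_sub, sub_eq_zero]
      exact hc d
    let l := CommRingCat.ofHom (Ideal.Quotient.lift _ ψ.hom hker)
    have hfac : Spec.map l ≫ Spec.map (CommRingCat.ofHom (Ideal.Quotient.mk ((maximalIdeal (D i)).map MvPowerSeries.C))) = t := by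
      rw [← Spec.map_comp, ← hψ]
      congr 1
    haveI : IsPreimmersion (Spec.map l ≫
        Spec.map (CommRingCat.ofHom (Ideal.Quotient.mk ((maximalIdeal (D i)).map MvPowerSeries.C)))) := by
      rw [hfac]; infer_instance
    haveI : IsClosedImmersion (Spec.map (CommRingCat.ofHom (Ideal.Quotient.mk
        ((maximalIdeal (D i)).map (MvPowerSeries.C : D i →+* MvPowerSeries (Fin n) (D i)))))) :=
      IsClosedImmersion.spec_of_surjective _ Ideal.Quotient.mk_surjective
    haveI : IsPreimmersion (Spec.map l) := IsPreimmersion.of_comp (Spec.map l)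
      (Spec.map (CommRingCat.ofHom (Ideal.Quotient.mk ((maximalIdeal (D i)).map MvPowerSeries.C))))
    haveI : IsClosedImmersion (Spec.map (CommRingCat.ofHom π)) := IsClosedImmersion.spec_of_surjective _ hπ
    rw [← hfac, Category.assoc]
    show IsPreimmersion (Spec.map l ≫ _ ≫ Spec.map _)
    rw [← Spec.map_comp]
    exact inferInstanceAs (IsPreimmersion (Spec.map l ≫ Spec.map (CommRingCat.ofHom π)))
  · intro i j r
    let E := D i ⊗[A] D j
    let R₀ := pullback (g i) (g j)
    let ri := pullback.fst (g i) (g j) ≫ pullback.snd U.ι (qMap n A (D i))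
    let rj := pullback.snd (g i) (g j) ≫ pullback.snd U.ι (qMap n A (D j))
    let c : R₀ ⟶ Spec (CommRingCat.of (MvPowerSeries (Fin n) A)) := pullback.fst (g i) (g j) ≫ g i ≫ U.ι
    have hri : ri ≫ qMap n A (D i) = c := by simp only [ri, c, g, Category.assoc, pullback.condition]
    have hrj : rj ≫ qMap n A (D j) = c := by
      simp only [rj, c, g, Category.assoc, ← pullback.condition]
      rw [← pullback.condition_assoc]
    let ai := Spec.map (CommRingCat.ofHom (algebraMap A (D i)))
    let aj := Spec.map (CommRingCat.ofHom (algebraMap A (D j)))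
    let d : R₀ ⟶ Spec (CommRingCat.of E) := pullback.lift (ri ≫ cMap n (D i)) (rj ≫ cMap n (D j)) (by
      rw [Category.assoc ri, ← (isPullback_series n A (D i)).w, ← Category.assoc, hri, Category.assoc rj,
        ← (isPullback_series n A (D j)).w, ← Category.assoc, hrj]) ≫ (pullbackSpecIso A (D i) (D j)).hom
    have hd : d ≫ Spec.map (CommRingCat.ofHom (algebraMap A E)) = c ≫ cMap n A := by
      rw [Category.assoc, pullbackSpecIso_hom_base, pullback.lift_fst_assoc, Category.assoc,
        ← (isPullback_series n A (D i)).w, reassoc_of% hri]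
    let kE : R₀ ⟶ Spec (CommRingCat.of (MvPowerSeries (Fin n) E)) := (isPullback_series n A E).lift c d hd.symm
    let k : R₀ ⟶ pullback U.ι (qMap n A E) := pullback.lift (pullback.fst (g i) (g j) ≫ g i) kE (by
      rw [Category.assoc, IsPullback.lift_fst])
    let pi : Spec (CommRingCat.of (MvPowerSeries (Fin n) E)) ⟶ Spec (CommRingCat.of (MvPowerSeries (Fin n) (D i))) :=
      Spec.map (CommRingCat.ofHom (MvPowerSeries.map (Algebra.TensorProduct.includeLeftRingHom : D i →+* E)))
    let pj : Spec (CommRingCat.of (MvPowerSeries (Fin n) E)) ⟶ Spec (CommRingCat.of (MvPowerSeries (Fin n) (D j))) :=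
      Spec.map (CommRingCat.ofHom (MvPowerSeries.map ((Algebra.TensorProduct.includeRight : D j →ₐ[A] E) : D j →+* E)))
    have hpi : pi ≫ qMap n A (D i) = qMap n A E := by
      simp only [pi, qMap, ← Spec.map_comp, ← CommRingCat.ofHom_comp, ← MvPowerSeries.map_comp]
    have hpj : pj ≫ qMap n A (D j) = qMap n A E := by
      simp only [pj, qMap, ← Spec.map_comp, ← CommRingCat.ofHom_comp, ← MvPowerSeries.map_comp]
      congr 3
      exact (Algebra.TensorProduct.includeRight (R := A) (A := D i) (B := D j)).comp_algebraMap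
    let hi : pullback U.ι (qMap n A E) ⟶ pullback U.ι (qMap n A (D i)) :=
      pullback.lift (pullback.fst _ _) (pullback.snd _ _ ≫ pi) (by rw [pullback.condition, Category.assoc, hpi])
    let hj : pullback U.ι (qMap n A E) ⟶ pullback U.ι (qMap n A (D j)) :=
      pullback.lift (pullback.fst _ _) (pullback.snd _ _ ≫ pj) (by rw [pullback.condition, Category.assoc, hpj])
    let h : pullback U.ι (qMap n A E) ⟶ R₀ := pullback.lift hi hj (by
      rw [pullback.lift_fst, pullback.lift_fst])
    have hci : pi ≫ cMap n (D i) = cMap n E ≫ Spec.map (CommRingCat.ofHom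
        (Algebra.TensorProduct.includeLeftRingHom : D i →+* E)) := by
      simp only [pi, cMap, ← Spec.map_comp]
      congr 1
      ext x : 2
      simp
    have hcj : pj ≫ cMap n (D j) = cMap n E ≫ Spec.map (CommRingCat.ofHom
        ((Algebra.TensorProduct.includeRight : D j →ₐ[A] E) : D j →+* E)) := by
      simp only [pj, cMap, ← Spec.map_comp]
      congr 1
      ext x : 2
      simp
    have hkh : k ≫ h = 𝟙 R₀ := by
      apply pullback.hom_ext
      · rw [Category.id_comp, Category.assoc, pullback.lift_fst]
        apply pullback.hom_ext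
        · rw [Category.assoc, pullback.lift_fst, pullback.lift_fst]
        · rw [Category.assoc, pullback.lift_snd, pullback.lift_snd_assoc]
          apply (isPullback_series n A (D i)).hom_ext
          · rw [Category.assoc, hpi, IsPullback.lift_fst]
            exact hri.symm
          · rw [Category.assoc, hci, IsPullback.lift_snd_assoc, Category.assoc, pullbackSpecIso_hom_fst, pullback.lift_fst]
      · rw [Category.id_comp, Category.assoc, pullback.lift_snd]
        apply pullback.hom_ext
        · rw [Category.assoc, pullback.lift_fst, pullback.lift_fst]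
          exact pullback.condition
        · rw [Category.assoc, pullback.lift_snd, pullback.lift_snd_assoc]
          apply (isPullback_series n A (D j)).hom_ext
          · rw [Category.assoc, hpj, IsPullback.lift_fst]
            exact hrj.symm
          · rw [Category.assoc, hcj, IsPullback.lift_snd_assoc, Category.assoc]
            rw [pullbackSpecIso_hom_snd, pullback.lift_snd]
    obtain ⟨r₀, r', h0, h1, h2⟩ := exists_joining hn E (k r)
    refine ⟨h r₀, h r', ?_, h1.map h.continuous, ?_⟩
    · have := h0.map h.continuous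
      rwa [← Scheme.Hom.comp_apply, hkh] at this
    · rw [← Scheme.Hom.comp_apply, ← Scheme.Hom.comp_apply]
      rw [show h ≫ pullback.fst (g i) (g j) ≫ g i = pullback.fst U.ι (qMap n A E) by
        rw [← Category.assoc, pullback.lift_fst, pullback.lift_fst]]
      exact h2

end Family

end Groth.Agent.RelPure25
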