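import Groth.Agent.Lib.RelPure25.Stalk
import Groth.Agent.Lib.H2Alg.PSHom

/-!
# Purity of power series rings over a base of positive depth
-/

set_option autoImplicit false
set_option linter.style.haveILetI false

universe u

open IsLocalRing

noncomputable section

namespace Groth.Agent.RelPure25

/-- A complete flat extension with algebraically closed residue field. -/
theorem exists_complete_extension (A : Type u) [CommRing A] [IsNoetherianRing A] [IsLocalRing A] :
    ∃ (A' : Type u) (_ : CommRing A') (_ : IsNoetherianRing A') (_ : IsLocalRing A') (_ : Algebra A A')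
      (_ : IsLocalHom (algebraMap A A')), Module.Flat A A' ∧
      (maximalIdeal A).map (algebraMap A A') = maximalIdeal A' ∧
      IsAdicComplete (maximalIdeal A') A' ∧ IsAlgClosed (ResidueField A') := by
  let K := AlgebraicClosure (ResidueField A)
  obtain ⟨R', iR', iloc, iAlg, ilh, ψ, hflat, hmR', hψs, hψk, hψA⟩ :=
    ResExt.exists_flat_local_extension (R := A) (K := K)
  letI := iR'; letI := iAlg
  haveI := iloc; haveI := ilh; haveI := hflat
  have hfg : (maximalIdeal R').FG := hmR' ▸ Ideal.FG.map (maximalIdeal A).fg_of_isNoetherianRing _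
  let A' := AdicCompletion (maximalIdeal R') R'
  obtain ⟨hA'N, hA'F⟩ := ResExt.flat_adicCompletion (A := A) (R' := R') hmR'
  haveI := hA'N
  haveI : IsLocalRing A' := AdicCompletion.isLocalRing_of_fg hfg
  haveI : IsLocalHom (algebraMap R' A') := AdicCompletion.algebraMap_isLocalHom_of_fg hfg
  haveI : IsAdicComplete (maximalIdeal A') A' := AdicCompletion.isAdicComplete_of_fg hfg
  have hmA' : (maximalIdeal A).map (algebraMap A A') = maximalIdeal A' := by
    rw [IsScalarTower.algebraMap_eq A R' A', ← Ideal.map_map, hmR']
    exact (AdicCompletion.maximalIdeal_eq_map_of_fg hfg).symm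
  haveI : IsLocalHom (algebraMap A A') := ((local_hom_TFAE (algebraMap A A')).out 0 2).2 hmA'.le
  let eK : ResidueField R' ≃+* K :=
    (Ideal.quotEquivOfEq hψk.symm).trans (RingHom.quotientKerEquivOfSurjective hψs)
  let θ : K ≃+* ResidueField A' :=
    eK.symm.trans (RingEquiv.ofBijective _ (AdicCompletion.residueField_map_bijective_of_fg hfg))
  exact ⟨A', inferInstance, inferInstance, inferInstance, inferInstance, inferInstance, hA'F, hmA',
    inferInstance, IsAlgClosed.of_ringEquiv K _ θ⟩

/-- Purity holds for power series rings in at least one variable over a base of positive depth. -/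
theorem purityHolds_powerSeries (A : Type u) [CommRing A] [IsNoetherianRing A] [IsLocalRing A]
    (hA : (1 : ℕ∞) ≤ LocCoh.depth A A) (d : ℕ) (hd : 1 ≤ d) : FEt.PurityHolds (MvPowerSeries (Fin d) A) := by
  let k := ResidueField A
  let B := MvPowerSeries (Fin d) A
  haveI : IsLocalHom (algebraMap A B) := ⟨fun a ha => by
    have h := ha.map (MvPowerSeries.constantCoeff (σ := Fin d) (R := A))
    rwa [← MvPowerSeries.c_eq_algebraMap, MvPowerSeries.constantCoeff_C] at h⟩
  haveI := H2Alg.PSHom.isRegularLocalRing k d
  let e : (B ⧸ (maximalIdeal A).map (algebraMap A B)) ≃+* MvPowerSeries (Fin d) k :=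
    (Ideal.quotEquivOfEq (by
      rw [← MvPowerSeries.c_eq_algebraMap, ← Ideal.mk_ker (I := maximalIdeal A)]
      exact (ker_map (residue A)).symm)).trans
      (RingHom.quotientKerEquivOfSurjective (map_surjective (residue A) residue_surjective))
  let F := B ⧸ (maximalIdeal A).map (algebraMap A B)
  haveI : IsRegularLocalRing F := IsRegularLocalRing.of_ringEquiv e.symm
  haveI : IsDomain F := RegLoc.isDomain F
  have hr : (maximalIdeal F).spanFinrank = d := by
    have h := IsRegularLocalRing.spanFinrank_maximalIdeal (R := F)
    rw [ringKrullDim_eq_of_ringEquiv e, H2Alg.PSHom.ringKrullDim_eq] at h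
    exact_mod_cast h
  rcases eq_or_lt_of_le hd with h1 | h2
  · subst h1
    haveI : IsDiscreteValuationRing F := isDiscreteValuationRing_of_regular F hr
    obtain ⟨A', _, _, _, _, _, hflat, hmA', _, _⟩ := exists_complete_extension A
    haveI := hflat
    let φ : B →+* MvPowerSeries (Fin 1) A' := MvPowerSeries.map (algebraMap A A')
    haveI : IsLocalHom φ := ⟨fun b hb => by
      refine MvPowerSeries.isUnit_iff_constantCoeff.2 ?_
      have h := MvPowerSeries.isUnit_iff_constantCoeff.1 hb
      rw [show MvPowerSeries.constantCoeff (φ b) = algebraMap A A' (MvPowerSeries.constantCoeff b) from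
        MvPowerSeries.constantCoeff_map (algebraMap A A') b] at h
      exact isUnit_of_map_unit (algebraMap A A') _ h⟩
    refine purityHolds_of_arc hmA' hA φ (fun a => ?_) (MvPowerSeries.X 0) ?_ ?_
    · show MvPowerSeries.map (algebraMap A A') (algebraMap A B a) = _
      rw [← MvPowerSeries.c_eq_algebraMap, MvPowerSeries.map_C]
    · intro hu
      have h := MvPowerSeries.isUnit_iff_constantCoeff.1 hu
      rw [MvPowerSeries.constantCoeff_X] at h
      exact not_isUnit_zero h
    · rw [show φ (MvPowerSeries.X 0) = MvPowerSeries.X 0 from MvPowerSeries.map_X _ _]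
      intro h
      have h2 := (mem_map_C_iff (maximalIdeal A') _).1 h (Finsupp.single 0 1)
      rw [MvPowerSeries.coeff_index_single_self_X] at h2
      exact (maximalIdeal.isMaximal A').ne_top ((Ideal.eq_top_iff_one _).2 h2)
  · refine PurityFlat25.purityHolds_of_flat (A := A)
      (le_trans ?_ (Pur25.le_depth_of_regular hr)) (Pur25.purity_regular d F hr h2)
    exact_mod_cast h2

end Groth.Agent.RelPure25
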