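import Mathlib
import Groth.Prelude.Def_FEt

/-!
# Split finite étale covers
-/

set_option autoImplicit false
set_option linter.style.haveILetI false

universe u

open CategoryTheory CategoryTheory.Limits AlgebraicGeometry TopologicalSpace

noncomputable section

namespace Groth.Agent.RelPure25

/-- `v` is a finite disjoint union of sections. -/
def SplitBy {V U : Scheme.{u}} (v : V ⟶ U) : Prop :=
  ∃ (ι : Type u) (_ : Finite ι) (τ : ι → (U ⟶ V)), (∀ t, τ t ≫ v = 𝟙 U) ∧
    (∀ t t' x x', τ t x = τ t' x' → t = t') ∧ ∀ z, ∃ t x, τ t x = z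

/-- Splitting is stable under base change. -/
theorem SplitBy.pullback {V U U' : Scheme.{u}} {v : V ⟶ U} (h : SplitBy v) (g : U' ⟶ U) :
    SplitBy (Limits.pullback.snd v g) := by
  obtain ⟨ι, hι, τ, hτ, hinj, hsurj⟩ := h
  let τ' : ι → (U' ⟶ Limits.pullback v g) := fun t => pullback.lift (g ≫ τ t) (𝟙 _) (by
    rw [Category.assoc, hτ, Category.comp_id, Category.id_comp])
  have hsnd : ∀ t, τ' t ≫ pullback.snd v g = 𝟙 _ := fun t => pullback.lift_snd _ _ _
  have hfst : ∀ t, τ' t ≫ pullback.fst v g = g ≫ τ t := fun t => pullback.lift_fst _ _ _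
  refine ⟨ι, hι, τ', hsnd, fun t t' x x' he => hinj t t' (g x) (g x') ?_, fun z => ?_⟩
  · have := congrArg (pullback.fst v g) he
    simpa only [← Scheme.Hom.comp_apply, hfst] using this
  · obtain ⟨t, x, hx⟩ := hsurj (pullback.fst v g z)
    have hq : IsPullback g (τ' t) (τ t) (pullback.fst v g) := by
      refine IsPullback.of_bot ?_ (hfst t).symm (IsPullback.of_hasPullback v g)
      rw [hsnd, hτ]
      exact IsPullback.of_vert_isIso ⟨by simp⟩
    obtain ⟨w, -, hw⟩ := Scheme.exists_preimage_of_isPullback hq x z hx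
    exact ⟨t, w, hw⟩

variable {U V : Scheme.{u}} (v : V ⟶ U) [IsFinite v] [Etale v]

/-- A cover split over a finite covering family with connected overlaps through `η` is split. -/
theorem split_of_family (η : U) {I : Type u} [Finite I] {W : I → Scheme.{u}} (g : ∀ i, W i ⟶ U)
    [∀ i, IsFinite (g i)] (hsurj : ∀ u : U, ∃ i x, g i x = u)
    (e : ∀ i, W i) (he : ∀ i, g i (e i) = η) (huniq : ∀ i x, g i x = η → x = e i)
    (hres : ∀ i, IsPreimmersion ((W i).fromSpecResidueField (e i) ≫ g i))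
    (hgen : ∀ i j, ∀ r : ↥(pullback (g i) (g j)), ∃ r₀ r' : ↥(pullback (g i) (g j)),
      r₀ ⤳ r ∧ r₀ ⤳ r' ∧ g i (pullback.fst (g i) (g j) r') = η)
    (hsplit : ∀ i, SplitBy (pullback.snd v (g i))) : SplitBy v := by
  classical
  choose ι hι σ hσ hinj hcov using hsplit
  haveI := fun i => hι i
  have hfib : ∀ i (y y' : ↥(pullback v (g i))), pullback.snd v (g i) y = e i → pullback.snd v (g i) y' = e i →
      pullback.fst v (g i) y = pullback.fst v (g i) y' → y = y' := by
    intro i y y' hy hy' hyy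
    let q := (W i).fromSpecResidueField (e i)
    haveI : IsPreimmersion (q ≫ g i) := hres i
    have hP := IsPullback.of_hasPullback (pullback.snd v (g i)) q
    have hQ := hP.paste_horiz (IsPullback.of_hasPullback v (g i))
    haveI : IsPreimmersion (pullback.fst (pullback.snd v (g i)) q ≫ pullback.fst v (g i)) :=
      MorphismProperty.of_isPullback hQ.flip inferInstance
    have hrange : ∀ z : ↥(pullback v (g i)), pullback.snd v (g i) z = e i →
        ∃ w, pullback.fst (pullback.snd v (g i)) q w = z := by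
      intro z hz
      have : z ∈ Set.range (pullback.fst (pullback.snd v (g i)) q) := by
        rw [Scheme.Pullback.range_fst]
        exact ⟨default, by rw [hz]; exact Scheme.fromSpecResidueField_apply _ _⟩
      exact this
    obtain ⟨w, rfl⟩ := hrange y hy
    obtain ⟨w', rfl⟩ := hrange y' hy'
    rw [(pullback.fst (pullback.snd v (g i)) q ≫ pullback.fst v (g i)).isEmbedding.injective
      (show (pullback.fst (pullback.snd v (g i)) q ≫ pullback.fst v (g i)) w =
        (pullback.fst (pullback.snd v (g i)) q ≫ pullback.fst v (g i)) w' by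
        rw [Scheme.Hom.comp_apply, Scheme.Hom.comp_apply]; exact hyy)]
  let τ : (p : Σ i, ι i) → (W p.1 ⟶ V) := fun p => σ p.1 p.2 ≫ pullback.fst v (g p.1)
  have hτ : ∀ p, τ p ≫ v = g p.1 := fun p => by
    rw [Category.assoc, pullback.condition, ← Category.assoc, hσ, Category.id_comp]
  have hσcl : ∀ i t, IsClosedImmersion (σ i t) := fun i t => by
    haveI : IsClosedImmersion (σ i t ≫ pullback.snd v (g i)) := by rw [hσ]; infer_instance
    exact IsClosedImmersion.of_comp _ (pullback.snd v (g i))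
  have hτcl : ∀ p, IsClosed (Set.range (τ p)) := fun p => by
    haveI := hσcl p.1 p.2
    exact (τ p).isClosedMap.isClosed_range
  let S := {s : V // v s = η}
  haveI : Finite S := (v.finite_preimage_singleton η).to_subtype
  let lab : (Σ i, ι i) → S := fun p => ⟨τ p (e p.1), by rw [← Scheme.Hom.comp_apply, hτ, he]⟩
  -- labels are compatible on overlaps
  have hcompat : ∀ p p' x x', τ p x = τ p' x' → lab p = lab p' := by
    intro p p' x x' hxx
    obtain ⟨r, hr, -⟩ := Scheme.Pullback.exists_preimage_pullback x x' hxx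
    let m : pullback (τ p) (τ p') ⟶ pullback (g p.1) (g p'.1) :=
      pullback.map _ _ _ _ (𝟙 _) (𝟙 _) v (by rw [hτ, Category.id_comp]) (by rw [hτ, Category.id_comp])
    have hm1 : m ≫ pullback.fst _ _ = pullback.fst (τ p) (τ p') :=
      (pullback.lift_fst _ _ _).trans (Category.comp_id _)
    have hm2 : m ≫ pullback.snd _ _ = pullback.snd (τ p) (τ p') :=
      (pullback.lift_snd _ _ _).trans (Category.comp_id _)
    have hm : m = pullback.mapDesc (τ p) (τ p') v ≫ (pullback.congrHom (hτ p) (hτ p')).hom := by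
      apply pullback.hom_ext
      · rw [hm1, Category.assoc]; erw [pullback.lift_fst, Category.comp_id, pullback.lift_fst, Category.comp_id]
      · rw [hm2, Category.assoc]; erw [pullback.lift_snd, Category.comp_id, pullback.lift_snd, Category.comp_id]
    haveI : IsOpenImmersion (pullback.mapDesc (τ p) (τ p') v) :=
      MorphismProperty.of_isPullback (pullback_map_diagonal_isPullback (τ p) (τ p') v) inferInstance
    haveI : IsOpenImmersion m := by rw [hm]; infer_instance
    haveI : IsClosedImmersion m := by rw [hm]; infer_instance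
    obtain ⟨r₀, r', h₀, h', hη⟩ := hgen p.1 p'.1 (m r)
    have hr₀ : r₀ ∈ Set.range m := m.isOpenEmbedding.isOpen_range.stableUnderGeneralization h₀ ⟨r, rfl⟩
    obtain ⟨w, rfl⟩ := h'.mem_closed m.isClosedEmbedding.isClosed_range hr₀
    have h1 : pullback.fst (τ p) (τ p') w = e p.1 := huniq _ _ (by
      rwa [← Scheme.Hom.comp_apply (m), hm1] at hη)
    have h2 : pullback.snd (τ p) (τ p') w = e p'.1 := huniq _ _ (by
      rw [← Scheme.Hom.comp_apply, ← hτ p', ← pullback.condition_assoc, Scheme.Hom.comp_apply, h1, hτ, he])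
    refine Subtype.ext ?_
    show τ p (e p.1) = τ p' (e p'.1)
    rw [← h1, ← h2, ← Scheme.Hom.comp_apply, ← Scheme.Hom.comp_apply, pullback.condition]
  have hcover : ∀ z : V, ∃ p x, τ p x = z := fun z => by
    obtain ⟨i, x, hx⟩ := hsurj (v z)
    obtain ⟨y, hy, -⟩ := Scheme.Pullback.exists_preimage_pullback z x hx.symm
    obtain ⟨t, x', hx'⟩ := hcov i y
    exact ⟨⟨i, t⟩, x', by rw [Scheme.Hom.comp_apply, hx', hy]⟩
  let Z : S → Set V := fun s => ⋃ p : {p // lab p = s}, Set.range (τ p.1)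
  have hZc : ∀ s, IsClosed (Z s) := fun s => isClosed_iUnion_of_finite fun p => hτcl _
  have hZ : ∀ s p x, τ p x ∈ Z s → lab p = s := by
    intro s p x hx
    obtain ⟨⟨p', hp'⟩, x', hx'⟩ := Set.mem_iUnion.1 hx
    exact (hcompat p p' x x' hx'.symm).trans hp'
  have hZo : ∀ s, IsOpen (Z s) := fun s => by
    have : Z s = (⋃ s' : {s' // s' ≠ s}, Z s'.1)ᶜ := by
      ext z
      obtain ⟨p, x, rfl⟩ := hcover z
      rw [Set.mem_compl_iff]
      refine ⟨fun h hs => ?_, fun h => ?_⟩
      · obtain ⟨s', hs'⟩ := Set.mem_iUnion.1 hs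
        exact s'.2 ((hZ _ _ _ hs').symm.trans (hZ _ _ _ h))
      by_cases hl : lab p = s
      · exact Set.mem_iUnion.2 ⟨⟨p, hl⟩, x, rfl⟩
      · refine absurd (Set.mem_iUnion.2 ⟨⟨lab p, hl⟩, ?_⟩) h
        exact Set.mem_iUnion.2 ⟨⟨p, rfl⟩, x, rfl⟩
    rw [this]
    exact (isClosed_iUnion_of_finite fun s' => hZc _).isOpen_compl
  let O : S → V.Opens := fun s => ⟨Z s, hZo s⟩
  have hiso : ∀ s, IsIso ((O s).ι ≫ v) := by
    intro s
    haveI : IsClosedImmersion (O s).ι := .of_isPreimmersion _ (by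
      rw [Scheme.Opens.range_ι]; exact hZc s)
    set f := (O s).ι ≫ v with hf
    haveI : IsFinite f := inferInstanceAs (IsFinite ((O s).ι ≫ v))
    haveI : Etale f := inferInstanceAs (Etale ((O s).ι ≫ v))
    rw [Scheme.Hom.isIso_iff_finrank_eq]
    funext u
    obtain ⟨i, x, rfl⟩ := hsurj u
    rw [← Scheme.Hom.finrank_pullback_snd]
    suffices IsIso (pullback.snd f (g i)) by rw [Scheme.Hom.finrank_eq_one_of_isIso]; rfl
    obtain ⟨y, hy1, hy2⟩ := Scheme.Pullback.exists_preimage_pullback s.1 (e i) (s.2.trans (he i).symm)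
    obtain ⟨t, x', rfl⟩ := hcov i y
    have hx' : x' = e i := by
      rw [← Scheme.Hom.comp_apply, hσ] at hy2
      exact hy2
    subst hx'
    have hlt : lab ⟨i, t⟩ = s := Subtype.ext hy1
    have huq : ∀ t', lab ⟨i, t'⟩ = s → t' = t := fun t' ht' => by
      refine hinj i t' t (e i) (e i) (hfib i _ _ ?_ hy2 ?_)
      · rw [← Scheme.Hom.comp_apply, hσ]; rfl
      · exact (congrArg Subtype.val (ht'.trans hlt.symm))
    have hsub : Set.range (τ ⟨i, t⟩) ⊆ Set.range (O s).ι := by
      rintro _ ⟨z, rfl⟩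
      rw [Scheme.Opens.range_ι]
      exact Set.mem_iUnion.2 ⟨⟨⟨i, t⟩, hlt⟩, z, rfl⟩
    let l := IsOpenImmersion.lift (O s).ι (τ ⟨i, t⟩) hsub
    have hl : l ≫ (O s).ι = τ ⟨i, t⟩ := IsOpenImmersion.lift_fac _ _ _
    let sec : W i ⟶ pullback f (g i) := pullback.lift l (𝟙 _) (by
      rw [hf, reassoc_of% hl, hτ, Category.id_comp])
    have hsec : sec ≫ pullback.snd f (g i) = 𝟙 _ := pullback.lift_snd _ _ _
    haveI : IsSplitMono sec := ⟨⟨⟨_, hsec⟩⟩⟩
    haveI : Etale (pullback.snd f (g i)) := MorphismProperty.pullback_snd _ _ inferInstance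
    haveI : Etale (sec ≫ pullback.snd f (g i)) := by rw [hsec]; infer_instance
    haveI : Etale sec := Etale.of_comp sec (pullback.snd f (g i))
    haveI : Surjective sec := ⟨fun y => by
      let m := pullback.map f (g i) v (g i) (O s).ι (𝟙 _) (𝟙 _) (by rw [hf, Category.comp_id]) (by simp)
      haveI : IsOpenImmersion m := inferInstance
      obtain ⟨t', z, hz⟩ := hcov i (m y)
      have hzm : τ ⟨i, t'⟩ z ∈ Z s := by
        rw [Scheme.Hom.comp_apply, hz, ← Scheme.Hom.comp_apply, pullback.lift_fst, Scheme.Hom.comp_apply]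
        exact (pullback.fst f (g i) y).2
      obtain rfl := huq t' (hZ s _ _ hzm)
      refine ⟨z, m.isOpenEmbedding.injective (Eq.trans ?_ hz)⟩
      rw [← Scheme.Hom.comp_apply]
      refine congrArg (fun k : W i ⟶ pullback v (g i) => k z) ?_
      apply pullback.hom_ext
      · rw [Category.assoc]; erw [pullback.lift_fst, pullback.lift_fst_assoc]; exact hl
      · rw [Category.assoc]; erw [pullback.lift_snd, Category.comp_id, pullback.lift_snd]; exact (hσ _ _).symm⟩
    haveI : IsOpenImmersion sec := IsOpenImmersion.of_flat_of_mono sec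
    haveI : IsIso sec := (isIso_iff_isOpenImmersion_and_surjective sec).2 ⟨inferInstance, inferInstance⟩
    haveI : IsIso (sec ≫ pullback.snd f (g i)) := by rw [hsec]; infer_instance
    exact IsIso.of_isIso_comp_left sec _
  refine ⟨S, inferInstance, fun s => haveI := hiso s; inv ((O s).ι ≫ v) ≫ (O s).ι, ?_, ?_, ?_⟩
  · intro s
    haveI := hiso s
    rw [Category.assoc, IsIso.inv_hom_id]
  · intro s s' x x' hxx
    haveI := hiso s; haveI := hiso s'
    obtain ⟨p, z, hz⟩ := hcover ((inv ((O s).ι ≫ v) ≫ (O s).ι) x)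
    have h1 : τ p z ∈ Z s := by rw [hz, Scheme.Hom.comp_apply]; exact (inv ((O s).ι ≫ v) x).2
    have h2 : τ p z ∈ Z s' := by rw [hz, hxx, Scheme.Hom.comp_apply]; exact (inv ((O s').ι ≫ v) x').2
    exact (hZ _ _ _ h1).symm.trans (hZ _ _ _ h2)
  · intro z
    obtain ⟨p, x, rfl⟩ := hcover z
    haveI := hiso (lab p)
    let z' : ↥(O (lab p)) := ⟨τ p x, Set.mem_iUnion.2 ⟨⟨p, rfl⟩, x, rfl⟩⟩
    refine ⟨lab p, ((O (lab p)).ι ≫ v) z', ?_⟩
    rw [← Scheme.Hom.comp_apply, IsIso.hom_inv_id_assoc]
    rfl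

end Groth.Agent.RelPure25
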