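import Mathlib.RingTheory.MvPowerSeries.NoZeroDivisors
import Mathlib.RingTheory.MvPowerSeries.Inverse
import Mathlib.RingTheory.MvPowerSeries.Equiv
import Mathlib.RingTheory.Flat.Tensor
import Mathlib.RingTheory.TensorProduct.Basic
import Mathlib.RingTheory.LocalRing.ResidueField.Basic
import Mathlib.RingTheory.Finiteness.Basic

/-!
# Power series over finite algebras
-/

set_option autoImplicit false

universe u

open scoped TensorProduct

noncomputable section

namespace Groth.Agent.RelPure25

open MvPowerSeries

variable {n : ℕ} {A : Type u} [CommRing A] [IsNoetherianRing A]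

/-- The power series with given coefficients. -/
def ofCoeff {R : Type u} (f : (Fin n →₀ ℕ) → R) : MvPowerSeries (Fin n) R := f

omit [IsNoetherianRing A] in
@[simp]
theorem coeff_ofCoeff (f : (Fin n →₀ ℕ) → A) (d : Fin n →₀ ℕ) : coeff d (ofCoeff f) = f d := rfl

/-- Membership in an extended ideal is tested on coefficients. -/
theorem mem_map_C_iff (I : Ideal A) (f : MvPowerSeries (Fin n) A) :
    f ∈ I.map (C : A →+* MvPowerSeries (Fin n) A) ↔ ∀ d, coeff d f ∈ I := by
  constructor
  · intro hf d
    induction hf using Submodule.span_induction generalizing d with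
    | mem x hx =>
      obtain ⟨a, ha, rfl⟩ := hx
      classical
      rw [coeff_C]
      split <;> simp [show a ∈ I from ha]
    | zero => simp
    | add x y _ _ hx hy => rw [map_add]; exact add_mem (hx d) (hy d)
    | smul r x _ hx =>
      classical
      rw [smul_eq_mul, coeff_mul]
      exact Ideal.sum_mem _ fun p _ => Ideal.mul_mem_left _ _ (hx _)
  · intro h
    obtain ⟨k, a, ha⟩ := Submodule.fg_iff_exists_fin_generating_family.1 (IsNoetherian.noetherian I)
    have hc : ∀ d, ∃ c : Fin k → A, ∑ i, c i • a i = coeff d f := fun d =>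
      (Submodule.mem_span_range_iff_exists_fun A).1 (ha ▸ h d)
    choose c hc using hc
    have hf : f = ∑ i, (C (a i)) * ofCoeff fun d => c d i := by
      refine MvPowerSeries.ext fun d => ?_
      rw [map_sum, ← hc d]
      refine Finset.sum_congr rfl fun i _ => ?_
      rw [coeff_C_mul, coeff_ofCoeff, smul_eq_mul, mul_comm]
    rw [hf]
    exact Ideal.sum_mem _ fun i _ => Ideal.mul_mem_right _ _
      (Ideal.mem_map_of_mem _ (ha ▸ Submodule.subset_span ⟨i, rfl⟩))

theorem ker_map {B : Type u} [CommRing B] (φ : A →+* B) :
    RingHom.ker (MvPowerSeries.map (σ := Fin n) φ) = (RingHom.ker φ).map C := by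
  ext f
  rw [RingHom.mem_ker, mem_map_C_iff, MvPowerSeries.ext_iff]
  simp [RingHom.mem_ker]

omit [IsNoetherianRing A] in
theorem map_surjective {B : Type u} [CommRing B] (φ : A →+* B) (h : Function.Surjective φ) :
    Function.Surjective (MvPowerSeries.map (σ := Fin n) φ) := fun f => by
  choose g hg using fun d => h (coeff d f)
  exact ⟨g, MvPowerSeries.ext fun d => by rw [coeff_map]; exact hg d⟩

instance isPrime_map_C (p : Ideal A) [p.IsPrime] : (p.map (C : A →+* MvPowerSeries (Fin n) A)).IsPrime := by
  have h := ker_map (n := n) (Ideal.Quotient.mk p)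
  rw [Ideal.mk_ker] at h
  rw [← h]
  haveI : IsDomain (MvPowerSeries (Fin n) (A ⧸ p)) := NoZeroDivisors.to_isDomain _
  exact RingHom.ker_isPrime _

/-- Every prime contains one extended from the base, contained in the extension of a maximal ideal. -/
theorem exists_prime_le (Q : Ideal (MvPowerSeries (Fin n) A)) [Q.IsPrime] :
    ∃ p m : Ideal A, p.IsPrime ∧ m.IsMaximal ∧ p ≤ m ∧ p.map C ≤ Q := by
  let p := Q.comap (C : A →+* MvPowerSeries (Fin n) A)
  haveI : p.IsPrime := Ideal.comap_isPrime _ _
  obtain ⟨m, hm, hpm⟩ := Ideal.exists_le_maximal p (Ideal.IsPrime.ne_top ‹_›)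
  exact ⟨p, m, inferInstance, hm, hpm, Ideal.map_comap_le⟩

variable (n A) in
/-- The comparison map for power series with coefficients in a module. -/
def coeffTensor (M : Type u) [AddCommGroup M] [Module A M] :
    MvPowerSeries (Fin n) A ⊗[A] M →ₗ[A] ((Fin n →₀ ℕ) → M) :=
  TensorProduct.lift
    { toFun := fun f =>
        { toFun := fun m d => coeff d f • m
          map_add' := fun x y => funext fun d => smul_add _ x y
          map_smul' := fun a x => funext fun d => smul_comm _ a x }
      map_add' := fun f g => LinearMap.ext fun m => funext fun d => by simp [add_smul]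
      map_smul' := fun a f => LinearMap.ext fun m => funext fun d => by simp [mul_smul] }

omit [IsNoetherianRing A] in
@[simp]
theorem coeffTensor_tmul (M : Type u) [AddCommGroup M] [Module A M] (f : MvPowerSeries (Fin n) A) (m : M)
    (d : Fin n →₀ ℕ) : coeffTensor n A M (f ⊗ₜ m) d = coeff d f • m := rfl

theorem bijective_coeffTensor (M : Type u) [AddCommGroup M] [Module A M] [Module.Finite A M] :
    Function.Bijective (coeffTensor n A M) := by
  obtain ⟨k, u, hu⟩ := Module.Finite.exists_fin' A M
  let e : Fin k → M := fun i => u (Pi.single i 1)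
  have hu' : ∀ v : Fin k → A, u v = ∑ i, v i • e i := fun v => by
    conv_lhs => rw [pi_eq_sum_univ' v]
    simp [e, map_sum, map_smul]
  have hrep : ∀ z : MvPowerSeries (Fin n) A ⊗[A] M,
      ∃ F : Fin k → MvPowerSeries (Fin n) A, z = ∑ i, F i ⊗ₜ e i := by
    intro z
    induction z with
    | zero => exact ⟨0, by simp⟩
    | tmul f m =>
      obtain ⟨v, rfl⟩ := hu m
      refine ⟨fun i => v i • f, ?_⟩
      rw [hu', TensorProduct.tmul_sum]
      exact Finset.sum_congr rfl fun i _ => by rw [TensorProduct.smul_tmul]
    | add a b ha hb =>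
      obtain ⟨F, rfl⟩ := ha
      obtain ⟨G, rfl⟩ := hb
      exact ⟨F + G, by simp [TensorProduct.add_tmul, Finset.sum_add_distrib]⟩
  constructor
  · rw [injective_iff_map_eq_zero]
    intro z hz
    obtain ⟨F, rfl⟩ := hrep z
    obtain ⟨r, w, hw⟩ := Submodule.fg_iff_exists_fin_generating_family.1
      (IsNoetherian.noetherian (LinearMap.ker u))
    have hker : ∀ d, (fun i => coeff d (F i)) ∈ LinearMap.ker u := fun d => by
      rw [LinearMap.mem_ker, hu']
      simpa using congrFun hz d
    choose g hg using fun d => (Submodule.mem_span_range_iff_exists_fun A).1 (hw ▸ hker d)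
    have hF : ∀ i, F i = ∑ j, w j i • ofCoeff fun d => g d j := fun i => by
      refine MvPowerSeries.ext fun d => ?_
      rw [map_sum]
      refine (congrFun (hg d) i).symm.trans ?_
      rw [Finset.sum_apply]
      refine Finset.sum_congr rfl fun j _ => ?_
      rw [Pi.smul_apply, smul_eq_mul, map_smul, coeff_ofCoeff, smul_eq_mul, mul_comm]
    simp only [hF, TensorProduct.sum_tmul, TensorProduct.smul_tmul]
    rw [Finset.sum_comm]
    refine Finset.sum_eq_zero fun j _ => ?_
    rw [← TensorProduct.tmul_sum, ← hu', LinearMap.mem_ker.1 (hw ▸ Submodule.subset_span ⟨j, rfl⟩),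
      TensorProduct.tmul_zero]
  · intro h
    choose v hv using fun d => hu (h d)
    refine ⟨∑ i, (ofCoeff fun d => v d i) ⊗ₜ e i, funext fun d => ?_⟩
    rw [map_sum, Finset.sum_apply, ← hv d, hu']
    exact Finset.sum_congr rfl fun i _ => rfl

instance flat_powerSeries : Module.Flat A (MvPowerSeries (Fin n) A) := by
  rw [Module.Flat.iff_lTensor_injective']
  intro I
  have h : (coeffTensor n A A).comp (LinearMap.lTensor (MvPowerSeries (Fin n) A) I.subtype) =
      (LinearMap.compLeft I.subtype (Fin n →₀ ℕ)).comp (coeffTensor n A I) := by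
    refine TensorProduct.ext' fun f m => funext fun d => ?_
    simp
  intro x y hxy
  have h1 := congrArg (coeffTensor n A A) hxy
  rw [← LinearMap.comp_apply, ← LinearMap.comp_apply, h, LinearMap.comp_apply, LinearMap.comp_apply] at h1
  refine (bijective_coeffTensor (n := n) (A := A) I).1 (funext fun d => ?_)
  exact Subtype.ext (congrFun h1 d)

variable (n) in
/-- The comparison map of algebras. -/
def seriesTensor (D : Type u) [CommRing D] [Algebra A D] :
    MvPowerSeries (Fin n) A ⊗[A] D →ₐ[A] MvPowerSeries (Fin n) D :=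
  Algebra.TensorProduct.lift (MvPowerSeries.mapAlgHom (Algebra.ofId A D))
    (IsScalarTower.toAlgHom A D (MvPowerSeries (Fin n) D)) (fun _ _ => Commute.all _ _)

theorem bijective_seriesTensor (D : Type u) [CommRing D] [Algebra A D] [Module.Finite A D] :
    Function.Bijective (seriesTensor n D (A := A)) := by
  have h : ∀ z d, coeff d (seriesTensor n D z) = coeffTensor n A D z d := by
    intro z d
    induction z with
    | zero => simp
    | tmul f m =>
      rw [coeffTensor_tmul, seriesTensor, Algebra.TensorProduct.lift_tmul]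
      show coeff d (MvPowerSeries.map (algebraMap A D) f * C m) = _
      rw [coeff_mul_C, coeff_map, Algebra.smul_def]
    | add a b ha hb => rw [map_add, map_add, ha, hb, map_add, Pi.add_apply]
  have hb := bijective_coeffTensor (n := n) (A := A) D
  refine ⟨fun x y hxy => hb.1 (funext fun d => by rw [← h, ← h, hxy]), fun f => ?_⟩
  obtain ⟨z, hz⟩ := hb.2 fun d => coeff d f
  exact ⟨z, MvPowerSeries.ext fun d => (h z d).trans (congrFun hz d)⟩

end Groth.Agent.RelPure25
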