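import Groth.Agent.Lib.RelPure25.Curve
import Groth.Agent.Lib.Hens.Local
import Mathlib.RingTheory.MvPolynomial.Basic
import Mathlib.RingTheory.Unramified.LocalStructure
import Mathlib.Algebra.MvPolynomial.Funext

/-!
# Purity at height one points of the fibres of a smooth algebra
-/

set_option autoImplicit false
set_option linter.style.haveILetI false

universe u

open IsLocalRing TensorProduct

noncomputable section

namespace Groth.Agent.RelPure25

/-- A polynomial does not vanish on every line through a point. -/
theorem exists_line {Ω : Type u} [Field Ω] [Infinite Ω] {n : ℕ} (g : MvPolynomial (Fin n) Ω) (hg : g ≠ 0)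
    (c : Fin n → Ω) : ∃ v : Fin n → Ω, MvPolynomial.eval₂Hom (MvPowerSeries.C : Ω →+* MvPowerSeries (Fin 1) Ω)
      (fun i => MvPowerSeries.C (c i) + MvPowerSeries.X 0 * MvPowerSeries.C (v i)) g ≠ 0 := by
  obtain ⟨w, hw⟩ : ∃ w, MvPolynomial.eval w g ≠ 0 := by
    by_contra! h
    exact hg (MvPolynomial.funext fun x => by rw [h x, map_zero])
  obtain ⟨v, rfl⟩ : ∃ v : Fin n → Ω, w = c + v := ⟨w - c, by simp⟩
  refine ⟨v, fun h0 => hw ?_⟩
  let p : Fin n → MvPolynomial (Fin 1) Ω := fun i =>
    MvPolynomial.C (c i) + MvPolynomial.X 0 * MvPolynomial.C (v i)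
  let h := MvPolynomial.eval₂Hom (MvPolynomial.C : Ω →+* MvPolynomial (Fin 1) Ω) p
  have h1 : (MvPolynomial.coeToMvPowerSeries.ringHom).comp h = MvPolynomial.eval₂Hom
      (MvPowerSeries.C : Ω →+* MvPowerSeries (Fin 1) Ω)
      (fun i => MvPowerSeries.C (c i) + MvPowerSeries.X 0 * MvPowerSeries.C (v i)) :=
    MvPolynomial.ringHom_ext (fun a => by simp [h]) (fun i => by simp [h, p])
  have h2 : (MvPolynomial.eval (fun _ : Fin 1 => (1 : Ω))).comp h = MvPolynomial.eval (c + v) :=
    MvPolynomial.ringHom_ext (fun a => by simp [h]) (fun i => by simp [h, p])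
  have h3 : h g = 0 := MvPolynomial.coe_injective (Fin 1) Ω (by
    rw [MvPolynomial.coe_zero]
    exact (RingHom.congr_fun h1 g).trans h0)
  rw [← h2, RingHom.comp_apply, h3, map_zero]

variable {R D A B : Type u} [CommRing R] [CommRing D] [CommRing A] [CommRing B] [Algebra R D] [Algebra.Smooth R D]
  [Algebra R A] [Algebra D B] [Algebra R B] [Algebra A B] [IsScalarTower R D B] [IsScalarTower R A B]
  [IsNoetherianRing A] [IsNoetherianRing B] [IsLocalRing A] [IsLocalRing B]
  [IsLocalHom (algebraMap A B)] [Module.Flat A B]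

set_option maxHeartbeats 800000 in
/-- A point of height one in its fibre of a smooth algebra is pure when the base has positive depth. -/
theorem purityHolds_of_smooth_dim_one (q : Ideal D) [q.IsPrime] [IsLocalization.AtPrime B q]
    [IsLocalization.AtPrime A (q.comap (algebraMap R D))] (hA : (1 : ℕ∞) ≤ LocCoh.depth A A)
    [IsDomain (B ⧸ (maximalIdeal A).map (algebraMap A B))]
    [IsDiscreteValuationRing (B ⧸ (maximalIdeal A).map (algebraMap A B))] :
    FEt.PurityHolds B := by
  classical
  obtain ⟨g, hgq, n, instPE, instT, hstd⟩ := Algebra.IsSmoothAt.exists_isStandardEtale_mvPolynomial (R := R) (p := q)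
  letI := instPE
  haveI := instT
  let P := MvPolynomial (Fin n) R
  let E := Localization.Away g
  haveI : Algebra.IsStandardEtale P E := hstd
  haveI : Algebra.Etale P E := inferInstance
  have hgu : IsUnit (algebraMap D B g) := IsLocalization.map_units B (⟨g, hgq⟩ : q.primeCompl)
  letI algEB : Algebra E B := (IsLocalization.Away.lift g (g := algebraMap D B) hgu : E →+* B).toAlgebra
  haveI : IsScalarTower D E B := IsScalarTower.of_algebraMap_eq fun d =>
    (IsLocalization.Away.lift_eq g hgu d).symm
  haveI : IsScalarTower R E B := IsScalarTower.of_algebraMap_eq fun r => by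
    rw [IsScalarTower.algebraMap_apply R D E, ← IsScalarTower.algebraMap_apply D E B,
      ← IsScalarTower.algebraMap_apply]
  letI algPB : Algebra P B := ((algebraMap E B).comp (algebraMap P E)).toAlgebra
  haveI : IsScalarTower P E B := IsScalarTower.of_algebraMap_eq fun _ => rfl
  have hPR : ∀ r, algebraMap P B (MvPolynomial.C r) = algebraMap A B (algebraMap R A r) := fun r => by
    show algebraMap E B (algebraMap P E (algebraMap R P r)) = _
    rw [← IsScalarTower.algebraMap_apply R P E, ← IsScalarTower.algebraMap_apply R E B,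
      ← IsScalarTower.algebraMap_apply R A B]
  -- an element of the base polynomial ring vanishing at the point but not on the fibre
  have hex : ∃ f : P, algebraMap P B f ∈ maximalIdeal B ∧ ∃ d, algebraMap R A (f.coeff d) ∉ maximalIdeal A := by
    by_contra! hc
    let Pr : Ideal P := (maximalIdeal B).comap (algebraMap P B)
    haveI : Pr.IsPrime := Ideal.comap_isPrime _ _
    let L := Localization.AtPrime Pr
    have hu : ∀ y : Pr.primeCompl, IsUnit (algebraMap P B y) := fun y => by
      by_contra hy
      exact y.2 hy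
    letI : Algebra L B := (IsLocalization.lift (M := Pr.primeCompl) hu : L →+* B).toAlgebra
    haveI : IsScalarTower P L B := IsScalarTower.of_algebraMap_eq fun y => (IsLocalization.lift_eq hu y).symm
    haveI : Algebra.FormallyUnramified E B := by
      haveI : Algebra.FormallyEtale D B := Algebra.FormallyEtale.of_isLocalization q.primeCompl
      exact Algebra.FormallyUnramified.of_restrictScalars D E B
    haveI : Algebra.FormallyUnramified P B := Algebra.FormallyUnramified.comp P E B
    haveI : Algebra.FormallyUnramified L B := Algebra.FormallyUnramified.of_restrictScalars P L B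
    haveI : Algebra.EssFiniteType D B := Algebra.EssFiniteType.of_isLocalization B q.primeCompl
    haveI : Algebra.EssFiniteType E B := Algebra.EssFiniteType.of_comp D E B
    haveI : Algebra.EssFiniteType P B := Algebra.EssFiniteType.comp P E B
    haveI : Algebra.EssFiniteType L B := Algebra.EssFiniteType.of_comp P L B
    haveI : IsLocalHom (algebraMap L B) := by
      refine ((local_hom_TFAE (algebraMap L B)).out 0 2).2 ?_
      rw [← Localization.AtPrime.map_eq_maximalIdeal, Ideal.map_map, ← IsScalarTower.algebraMap_eq]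
      exact Ideal.map_comap_le
    have hmax : maximalIdeal B ≤ (maximalIdeal A).map (algebraMap A B) := by
      rw [← Algebra.FormallyUnramified.map_maximalIdeal (R := L) (S := B), ← Localization.AtPrime.map_eq_maximalIdeal,
        Ideal.map_map, ← IsScalarTower.algebraMap_eq, Ideal.map_le_iff_le_comap]
      intro f hf
      rw [Ideal.mem_comap]
      rw [f.as_sum, map_sum]
      refine Ideal.sum_mem _ fun d _ => ?_
      rw [MvPolynomial.monomial_eq, map_mul, hPR]
      exact Ideal.mul_mem_right _ _ (Ideal.mem_map_of_mem _ (hc f hf d))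
    refine IsDiscreteValuationRing.not_a_field (B ⧸ (maximalIdeal A).map (algebraMap A B)) ?_
    rw [← IsLocalRing.map_maximalIdeal_of_surjective (Ideal.Quotient.mk _) Ideal.Quotient.mk_surjective,
      eq_bot_iff, Ideal.map_le_iff_le_comap]
    intro z hz
    rw [Ideal.mem_comap, Ideal.mem_bot, Ideal.Quotient.eq_zero_iff_mem]
    exact hmax hz
  obtain ⟨f, hfB, d, hfd⟩ := hex
  -- the extension of the base
  let K := AlgebraicClosure (ResidueField B)
  letI algK : Algebra (ResidueField A) K :=
    ((algebraMap (ResidueField B) K).comp (algebraMap (ResidueField A) (ResidueField B))).toAlgebra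
  obtain ⟨R', iR', iloc, iAlg, ilh, ψ, hflat, hmR', hψs, hψk, hψA⟩ :=
    ResExt.exists_flat_local_extension (R := A) (K := K)
  letI := iR'; letI := iAlg
  haveI := iloc; haveI := ilh; haveI := hflat
  have hfg : (maximalIdeal R').FG := hmR' ▸ Ideal.FG.map (maximalIdeal A).fg_of_isNoetherianRing _
  let A' := AdicCompletion (maximalIdeal R') R'
  obtain ⟨hA'N, hA'F⟩ := ResExt.flat_adicCompletion (A := A) (R' := R') hmR'
  haveI := hA'N
  haveI : Module.Flat A A' := hA'F
  haveI : IsLocalRing A' := AdicCompletion.isLocalRing_of_fg hfg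
  haveI : IsLocalHom (algebraMap R' A') := AdicCompletion.algebraMap_isLocalHom_of_fg hfg
  haveI : IsAdicComplete (maximalIdeal A') A' := AdicCompletion.isAdicComplete_of_fg hfg
  have hmA' : (maximalIdeal A).map (algebraMap A A') = maximalIdeal A' := by
    rw [IsScalarTower.algebraMap_eq A R' A', ← Ideal.map_map, hmR']
    exact (AdicCompletion.maximalIdeal_eq_map_of_fg hfg).symm
  haveI : IsLocalHom (algebraMap A A') := ((local_hom_TFAE (algebraMap A A')).out 0 2).2 hmA'.le
  let eK : ResidueField R' ≃+* K :=
    (Ideal.quotEquivOfEq hψk.symm).trans (RingHom.quotientKerEquivOfSurjective hψs)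
  let θ : K ≃+* ResidueField A' :=
    eK.symm.trans (RingEquiv.ofBijective _ (AdicCompletion.residueField_map_bijective_of_fg hfg))
  haveI : IsAlgClosed (ResidueField A') := IsAlgClosed.of_ringEquiv K _ θ
  have hθA : ∀ a, θ (algebraMap (ResidueField A) K (residue A a)) = residue A' (algebraMap A A' a) := by
    intro a
    rw [← hψA, show ψ (algebraMap A R' a) = eK (residue R' (algebraMap A R' a)) from rfl]
    show ResidueField.map (algebraMap R' A') (eK.symm (eK _)) = _
    rw [RingEquiv.symm_apply_apply, ResidueField.map_residue, ← IsScalarTower.algebraMap_apply]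
  let Ω := ResidueField A'
  haveI : Infinite Ω := IsAlgClosed.instInfinite
  -- the residual point and the direction
  let pt : B →+* Ω := (θ.toRingHom.comp (algebraMap (ResidueField B) K)).comp (residue B)
  have hptA : ∀ a, pt (algebraMap A B a) = residue A' (algebraMap A A' a) := fun a => by
    rw [← hθA]; rfl
  let ρ : R →+* A' := (algebraMap A A').comp (algebraMap R A)
  let g₀ : MvPolynomial (Fin n) Ω := MvPolynomial.map ((residue A').comp ρ) f
  have hg₀ : g₀ ≠ 0 := fun h0 => hfd (by
    have h1 := congrArg (MvPolynomial.coeff d) h0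
    rw [MvPolynomial.coeff_map, MvPolynomial.coeff_zero, RingHom.comp_apply, residue_eq_zero_iff] at h1
    by_contra hu
    exact h1 ((IsUnit.map (algebraMap A A') (by simpa using hu) : IsUnit (ρ (f.coeff d)))))
  let c : Fin n → Ω := fun i => pt (algebraMap P B (MvPolynomial.X i))
  obtain ⟨v, hv⟩ := exists_line g₀ hg₀ c
  choose cl hcl using fun i => residue_surjective (c i)
  choose vl hvl using fun i => residue_surjective (v i)
  let C := MvPowerSeries (Fin 1) A'
  haveI : IsAdicComplete (maximalIdeal C) C := ArtFunLib.isAdicComplete_mvPowerSeries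
  let φ₀ : P →+* C := MvPolynomial.eval₂Hom ((MvPowerSeries.C : A' →+* C).comp ρ)
    (fun i => MvPowerSeries.C (cl i) + MvPowerSeries.X 0 * MvPowerSeries.C (vl i))
  letI : Algebra P C := φ₀.toAlgebra
  have hCm : ∀ a ∈ maximalIdeal A', (MvPowerSeries.C a : C) ∈ maximalIdeal C := fun a ha hu => ha (by
    have h0 : IsUnit (MvPowerSeries.constantCoeff (MvPowerSeries.C a : MvPowerSeries (Fin 1) A')) := hu.map _
    rw [MvPowerSeries.constantCoeff_C] at h0
    exact h0)
  let κ : Ω →+* C ⧸ maximalIdeal C := Ideal.Quotient.lift _ ((Ideal.Quotient.mk _).comp MvPowerSeries.C)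
    fun a ha => Ideal.Quotient.eq_zero_iff_mem.2 (hCm a ha)
  have hκ : ∀ a, κ (residue A' a) = Ideal.Quotient.mk _ (MvPowerSeries.C a) := fun a => rfl
  have hX : (MvPowerSeries.X 0 : C) ∈ maximalIdeal C := fun hu => by
    have h0 := hu.map (MvPowerSeries.constantCoeff (σ := Fin 1) (R := A'))
    rw [MvPowerSeries.constantCoeff_X] at h0
    exact not_isUnit_zero h0
  have hσ : (κ.comp pt).comp (algebraMap P B) = (Ideal.Quotient.mk (maximalIdeal C)).comp φ₀ := by
    refine MvPolynomial.ringHom_ext (fun r => ?_) (fun i => ?_)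
    · rw [RingHom.comp_apply, RingHom.comp_apply, hPR, hptA, hκ, RingHom.comp_apply]
      simp [φ₀, ρ]
    · rw [RingHom.comp_apply, RingHom.comp_apply, show pt (algebraMap P B (MvPolynomial.X i)) = c i from rfl, ← hcl,
        hκ, RingHom.comp_apply]
      simp [φ₀, Ideal.Quotient.eq_zero_iff_mem.2 hX]
  let σ : E →ₐ[P] C ⧸ maximalIdeal C :=
    { (κ.comp pt).comp (algebraMap E B) with
      commutes' := fun x => RingHom.congr_fun hσ x }
  obtain ⟨τ, hτ, -⟩ := Hens.existsUnique_algHom_lift (IsAdicComplete.henselianRing C (maximalIdeal C)) σ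
  let φD : D →+* C := τ.toRingHom.comp (algebraMap D E)
  have hred : ∀ e : E, Ideal.Quotient.mk (maximalIdeal C) (τ e) = κ (pt (algebraMap E B e)) := fun e =>
    DFunLike.congr_fun hτ e
  have hu : ∀ y : q.primeCompl, IsUnit (φD y) := fun y => by
    by_contra hy
    have h1 : Ideal.Quotient.mk (maximalIdeal C) (τ (algebraMap D E y)) = 0 := Ideal.Quotient.eq_zero_iff_mem.2 hy
    rw [hred, ← IsScalarTower.algebraMap_apply] at h1
    haveI : Nontrivial (C ⧸ maximalIdeal C) := Ideal.Quotient.nontrivial_iff.2 (maximalIdeal.isMaximal C).ne_top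
    exact (IsUnit.map (κ.comp pt) (IsLocalization.map_units B y)).ne_zero h1
  let φ : B →+* C := IsLocalization.lift (M := q.primeCompl) hu
  have hφE : φ.comp (algebraMap E B) = τ.toRingHom := by
    refine IsLocalization.ringHom_ext (Submonoid.powers g) (RingHom.ext fun x => ?_)
    show φ (algebraMap E B (algebraMap D E x)) = _
    rw [← IsScalarTower.algebraMap_apply]
    exact IsLocalization.lift_eq hu x
  have hφR : ∀ r, φ (algebraMap A B (algebraMap R A r)) = MvPowerSeries.C (ρ r) := fun r => by
    rw [← hPR]
    show (φ.comp (algebraMap E B)) (algebraMap P E (MvPolynomial.C r)) = _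
    rw [hφE]
    refine (τ.commutes (MvPolynomial.C r)).trans ?_
    show φ₀ (MvPolynomial.C r) = _
    exact MvPolynomial.eval₂Hom_C _ _ r
  have hφA : ∀ a, φ (algebraMap A B a) = MvPowerSeries.C (algebraMap A A' a) := by
    have : φ.comp (algebraMap A B) = MvPowerSeries.C.comp (algebraMap A A') :=
      IsLocalization.ringHom_ext (q.comap (algebraMap R D)).primeCompl (RingHom.ext fun r => hφR r)
    exact fun a => RingHom.congr_fun this a
  have hφloc : (maximalIdeal B).map φ ≤ maximalIdeal C := by
    refine Ideal.map_le_iff_le_comap.2 fun b hb => ?_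
    obtain ⟨⟨x, y⟩, rfl⟩ := IsLocalization.mk'_surjective q.primeCompl b
    rw [IsLocalization.AtPrime.mk'_mem_maximal_iff (S := B) (I := q)] at hb
    rw [Ideal.mem_comap]
    show IsLocalization.lift hu (IsLocalization.mk' B x y) ∈ _
    rw [IsLocalization.lift_mk']
    refine Ideal.mul_mem_right _ _ ?_
    rw [← Ideal.Quotient.eq_zero_iff_mem]
    show Ideal.Quotient.mk _ (τ (algebraMap D E x)) = 0
    rw [hred, ← IsScalarTower.algebraMap_apply]
    have : residue B (algebraMap D B x) = 0 := by
      rw [residue_eq_zero_iff, IsLocalization.AtPrime.to_map_mem_maximal_iff B q]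
      exact hb
    show κ (θ (algebraMap (ResidueField B) K (residue B (algebraMap D B x)))) = 0
    rw [this, map_zero, map_zero, map_zero]
  haveI : IsLocalHom φ := ((local_hom_TFAE φ).out 0 2).2 hφloc
  refine purityHolds_of_arc hmA' hA φ hφA (algebraMap P B f) hfB fun hmem => hv ?_
  rw [show φ (algebraMap P B f) = φ₀ f from by
    show (φ.comp (algebraMap E B)) (algebraMap P E f) = _
    rw [hφE]
    exact τ.commutes f, ← Ideal.mk_ker (I := maximalIdeal A'), ← ker_map, RingHom.mem_ker] at hmem
  have h1 : (MvPowerSeries.map (σ := Fin 1) (residue A')).comp φ₀ =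
      (MvPolynomial.eval₂Hom (MvPowerSeries.C : Ω →+* MvPowerSeries (Fin 1) Ω)
        (fun i => MvPowerSeries.C (c i) + MvPowerSeries.X 0 * MvPowerSeries.C (v i))).comp
        (MvPolynomial.map ((residue A').comp ρ)) :=
    MvPolynomial.ringHom_ext (fun r => by simp [φ₀]) (fun i => by simp [φ₀, hcl, hvl])
  exact (RingHom.congr_fun h1 f).symm.trans hmem

end Groth.Agent.RelPure25
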